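import Cfsg.Agent.H12.Glauberman
import Cfsg.Agent.H12.Linear
import Cfsg.Agent.H25.Fong
import Cfsg.Agent.H13.Clifford
import Cfsg.Agent.H5.TateCor
import Cfsg.Agent.H6.SpecialAction

/-!
# The common kernel of the characters of degree prime to `p`
-/

set_option autoImplicit false
set_option linter.unusedSectionVars false
set_option linter.style.haveILetI false

open Cfsg
open scoped ComplexConjugate Pointwise

namespace H68.PPrimeKernel

universe u

variable {G : Type u} [Group G] [Finite G]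

/-- A constituent of a restriction inherits the kernel. -/
theorem kernel_of_constituent (H : Subgroup G) [Fintype H] {χ : G → ℂ} (hχ : IsCharacter G χ)
    (ψ : IrrCharacter H) (hne : classInner (fun h : H => χ h) (ψ : H → ℂ) ≠ 0)
    (h : H) (hh : χ h = χ 1) : (ψ : H → ℂ) h = (ψ : H → ℂ) 1 := by
  classical
  obtain ⟨m, hm⟩ := H12.IsCharacter.exists_mult (H12.IsCharacter.res hχ H)
  have hmψ : m ψ ≠ 0 := by
    intro h0
    apply hne
    rw [hm, H12.classInner_sum_smul_irr, h0, Nat.cast_zero]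
  have h1 := congrFun hm h
  have h2 := congrFun hm 1
  simp only [Finset.sum_apply, Pi.smul_apply, smul_eq_mul, H12.irr_apply_one,
    OneMemClass.coe_one] at h1 h2
  rw [hh, h2] at h1
  have h3 := congrArg Complex.re h1
  simp only [Complex.re_sum, Complex.mul_re, Complex.natCast_re, Complex.natCast_im,
    zero_mul, sub_zero] at h3
  have hle : ∀ φ : IrrCharacter H,
      ((φ : H → ℂ) h).re ≤ (H12.degree (φ : H → ℂ) : ℝ) := fun φ =>
    (Complex.re_le_norm _).trans (H12.IsCharacter.norm_le (H12.isCharacter_irr φ) h)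
  have h4 := (Finset.sum_eq_sum_iff_of_le (fun φ _ =>
    mul_le_mul_of_nonneg_left (hle φ) (Nat.cast_nonneg (m φ)))).1 h3.symm ψ (Finset.mem_univ _)
  have h5 : ((ψ : H → ℂ) h).re = (H12.degree (ψ : H → ℂ) : ℝ) :=
    mul_left_cancel₀ (Nat.cast_ne_zero.2 hmψ) h4
  have h6 := H12.IsCharacter.norm_le (H12.isCharacter_irr ψ) h
  rw [H12.irr_apply_one]
  have h7 : ((ψ : H → ℂ) h).re = ‖(ψ : H → ℂ) h‖ :=
    le_antisymm (Complex.re_le_norm _) (h5 ▸ h6)
  have h8 := Complex.re_eq_norm.1 h7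
  rw [Complex.nonneg_iff] at h8
  exact Complex.ext (by simpa using h5) (by simpa using h8.2.symm)

/-- A constituent of degree prime to `p` of an induced character of degree prime to `p`. -/
theorem exists_pPrime_constituent (p : ℕ) [Fact p.Prime] [Fintype G] (H : Subgroup G) [Fintype H]
    (ψ : IrrCharacter H) (hi : ¬ p ∣ H.index) (hd : ¬ p ∣ H12.degree (ψ : H → ℂ)) :
    ∃ χ : IrrCharacter G, ¬ p ∣ H12.degree (χ : G → ℂ) ∧
      classInner (fun h : H => (χ : G → ℂ) h) (ψ : H → ℂ) ≠ 0 := by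
  classical
  obtain ⟨m, hm⟩ := H12.IsCharacter.exists_mult
    (H12.IsCharacter.indFun (H12.isCharacter_irr ψ))
  have hdeg : indFun H (ψ : H → ℂ) 1 = ((H.index * H12.degree (ψ : H → ℂ) : ℕ) : ℂ) := by
    rw [H13.indFun_apply_one, Nat.cast_mul, ← H12.irr_apply_one ψ]
  have hsum : H.index * H12.degree (ψ : H → ℂ) =
      ∑ χ : IrrCharacter G, m χ * H12.degree (χ : G → ℂ) := by
    have h1 := congrFun hm 1
    rw [hdeg] at h1
    simp only [Finset.sum_apply, Pi.smul_apply, smul_eq_mul, H12.irr_apply_one] at h1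
    exact_mod_cast h1
  have hpd : ¬ p ∣ H.index * H12.degree (ψ : H → ℂ) := fun h =>
    ((Nat.Prime.dvd_mul Fact.out).1 h).elim hi hd
  rw [hsum] at hpd
  obtain ⟨χ, -, hχ⟩ : ∃ χ ∈ (Finset.univ : Finset (IrrCharacter G)),
      ¬ p ∣ m χ * H12.degree (χ : G → ℂ) := by
    by_contra hcon
    push Not at hcon
    exact hpd (Finset.dvd_sum hcon)
  refine ⟨χ, fun h => hχ (h.mul_left _), fun h0 => ?_⟩
  have hm0 : m χ ≠ 0 := fun h => hχ (by rw [h, zero_mul]; exact dvd_zero p)
  have hinner : classInner (indFun H (ψ : H → ℂ)) (χ : G → ℂ) = (m χ : ℂ) := by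
    rw [hm, H12.classInner_sum_smul_irr]
  rw [H13.classInner_indFun_left H _ (H12.irr_isClassFunction χ), ← H12.conj_classInner, h0,
    map_zero] at hinner
  exact hm0 (Nat.cast_eq_zero.1 hinner.symm)

/-- A character of degree prime to `p` of a `p`-group has a linear constituent. -/
theorem exists_linear_constituent (p : ℕ) [Fact p.Prime] {P : Type u} [Group P] [Fintype P]
    (hP : IsPGroup p P) {φ : P → ℂ} (hφ : IsCharacter P φ) (hd : ¬ p ∣ H12.degree φ) :
    ∃ ψ : IrrCharacter P, (ψ : P → ℂ) 1 = 1 ∧ classInner φ (ψ : P → ℂ) ≠ 0 := by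
  classical
  obtain ⟨m, hm⟩ := H12.IsCharacter.exists_mult hφ
  have hsum : H12.degree φ = ∑ ψ : IrrCharacter P, m ψ * H12.degree (ψ : P → ℂ) := by
    have h1 := congrFun hm 1
    rw [H12.IsCharacter.apply_one_eq_degree hφ] at h1
    simp only [Finset.sum_apply, Pi.smul_apply, smul_eq_mul, H12.irr_apply_one] at h1
    exact_mod_cast h1
  rw [hsum] at hd
  obtain ⟨ψ, -, hψ⟩ : ∃ ψ ∈ (Finset.univ : Finset (IrrCharacter P)),
      ¬ p ∣ m ψ * H12.degree (ψ : P → ℂ) := by
    by_contra hcon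
    push Not at hcon
    exact hd (Finset.dvd_sum hcon)
  obtain ⟨k, hk⟩ := IsPGroup.iff_card.1 hP
  obtain ⟨i, -, hi⟩ := (Nat.dvd_prime_pow Fact.out).1 (hk ▸ H12.irr_degree_dvd_card ψ)
  refine ⟨ψ, ?_, ?_⟩
  · rcases Nat.eq_zero_or_pos i with rfl | hi0
    · rw [H12.irr_apply_one, hi, pow_zero, Nat.cast_one]
    · exact absurd ((hi ▸ dvd_pow_self p hi0.ne').mul_left _) hψ
  · rw [hm, H12.classInner_sum_smul_irr, Nat.cast_ne_zero]
    intro h
    exact hψ (by rw [h, zero_mul]; exact dvd_zero p)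

/-- If the trivial character is a constituent of the restriction to a normal subgroup then the
subgroup lies in the kernel. -/
theorem kernel_of_trivial_constituent [Fintype G] (N : Subgroup G) [N.Normal] [Fintype N]
    (χ : IrrCharacter G)
    (h : classInner (fun n : N => (χ : G → ℂ) n) (H12.oneIrr N : N → ℂ) ≠ 0)
    (n : G) (hn : n ∈ N) : (χ : G → ℂ) n = (χ : G → ℂ) 1 := by
  classical
  have h1 : ∀ x : G, H13.twist N x (H12.oneIrr N : N → ℂ) = (H12.oneIrr N : N → ℂ) := fun x =>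
    funext fun m => by rw [H13.twist_apply, H12.oneIrr_apply, H12.oneIrr_apply]
  have hres := H13.clifford_res N χ.2 (H12.oneIrr N).2 h {H12.oneIrr N} (fun ψ => by
    rw [Finset.mem_singleton]
    refine ⟨fun e => ⟨1, by rw [h1, e]⟩, fun ⟨x, hx⟩ => Subtype.ext ?_⟩
    rw [← hx, h1])
  have ha := congrFun hres ⟨n, hn⟩
  have hb := congrFun hres 1
  simp only [Finset.sum_singleton, Pi.smul_apply, H12.oneIrr_apply, OneMemClass.coe_one] at ha hb
  rw [ha, hb]

/-- A normal `p'`-subgroup without fixed points for a Sylow subgroup lies in every kernel. -/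
theorem kernel_of_free (p : ℕ) [Fact p.Prime] [Fintype G] (P : Sylow p G) (N : Subgroup G)
    [N.Normal] (hNp : ¬ p ∣ Nat.card N)
    (hN : N ⊓ Subgroup.centralizer ((P : Subgroup G) : Set G) = ⊥)
    (χ : IrrCharacter G) (hχ : ¬ p ∣ H12.degree (χ : G → ℂ))
    (n : G) (hn : n ∈ N) : (χ : G → ℂ) n = (χ : G → ℂ) 1 := by
  classical
  haveI : Fintype N := Fintype.ofFinite _
  let φ := H12.Glauberman.conjHom N (P : Subgroup G) (fun s _ g hg => ‹N.Normal›.conj_mem g hg s)
  let C : Subgroup N := ⊥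
  have hC : ∀ g, g ∈ C ↔ ∀ s, φ s g = g := by
    intro g
    constructor
    · intro hg s
      rw [Subgroup.mem_bot.1 hg, map_one]
    · intro hg
      refine Subgroup.mem_bot.2 (Subtype.ext ?_)
      have h1 : (g : G) ∈ N ⊓ Subgroup.centralizer ((P : Subgroup G) : Set G) := by
        refine ⟨g.2, Subgroup.mem_centralizer_iff.2 fun s hs => ?_⟩
        have := congrArg Subtype.val (hg ⟨s, hs⟩)
        rw [H12.Glauberman.conjHom_coe] at this
        exact mul_inv_eq_iff_eq_mul.1 this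
      rw [hN, Subgroup.mem_bot] at h1
      exact h1
  haveI : Fintype C := Fintype.ofFinite _
  have hone : H12.Glauberman.Inv φ ((H12.oneIrr N : IrrCharacter N) : N → ℂ) := fun _ _ => rfl
  have huniq : ∀ θ : IrrCharacter N, H12.Glauberman.Inv φ (θ : N → ℂ) → θ = H12.oneIrr N := by
    intro θ hθ
    have hsub : Subsingleton (IrrCharacter C) := by
      have hc : Nat.card (IrrCharacter C) = 1 := by
        rw [H12.card_irrCharacter]
        exact Nat.card_eq_one_iff_unique.2
          ⟨⟨fun a b => Quotient.inductionOn₂ a b fun x y => congrArg _ (Subsingleton.elim x y)⟩,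
            ⟨ConjClasses.mk 1⟩⟩
      exact (Nat.card_eq_one_iff_unique.1 hc).1
    exact congrArg Subtype.val ((H12.Glauberman.glauberman (φ := φ) P.2 hNp hC).injective
      (hsub.elim (H12.Glauberman.glauberman (φ := φ) P.2 hNp hC ⟨θ, hθ⟩)
        (H12.Glauberman.glauberman (φ := φ) P.2 hNp hC ⟨H12.oneIrr N, hone⟩)))
  refine kernel_of_trivial_constituent N χ ?_ n hn
  intro h0
  apply hχ
  letI : MulAction (P : Subgroup G) (IrrCharacter N) := H12.Glauberman.irrAction φ
  let f : IrrCharacter N → ℂ := fun θ =>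
    classInner (fun x : N => (χ : G → ℂ) x) (θ : N → ℂ) * (θ : N → ℂ) 1
  have hsum : (H12.degree (χ : G → ℂ) : ℂ) = ∑ θ, f θ := by
    rw [← H12.irr_apply_one]
    exact H12.classFunction_apply_eq_sum (H12.IsCharacter.isClassFunction
      (H12.IsCharacter.res (H12.isCharacter_irr χ) N)) (1 : N)
  have hint : ∀ θ, IsIntegral ℤ (f θ) := by
    intro θ
    obtain ⟨k, hk⟩ := H12.IsCharacter.classInner_nat
      (H12.IsCharacter.res (H12.isCharacter_irr χ) N) (H12.isCharacter_irr θ)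
    show IsIntegral ℤ (classInner _ _ * _)
    rw [hk, H12.irr_apply_one]
    exact (H12.Glauberman.isIntegral_nat k).mul (H12.Glauberman.isIntegral_nat _)
  have hinv : ∀ (s : (P : Subgroup G)) θ, f (s • θ) = f θ := by
    intro s θ
    have e : ((s • θ : IrrCharacter N) : N → ℂ) = H13.twist N ((s : G)⁻¹) (θ : N → ℂ) := by
      funext x
      show (θ : N → ℂ) (φ s⁻¹ x) = _
      rw [H13.twist_apply]
      exact congrArg _ (Subtype.ext (by rw [H12.Glauberman.conjHom_coe]; simp))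
    simp only [f]
    rw [e, H13.classInner_res_twist N (H12.irr_isClassFunction χ)]
    congr 1
    rw [H13.twist_apply]
    exact congrArg _ (Subtype.ext (by simp))
  have hfix : ∀ θ ∈ MulAction.fixedPoints (P : Subgroup G) (IrrCharacter N),
      H12.Glauberman.Cong p (f θ) 0 := by
    intro θ hθ
    have hI : H12.Glauberman.Inv φ (θ : N → ℂ) := by
      intro s g
      have h1 : ((s⁻¹ • θ : IrrCharacter N) : N → ℂ) g = (θ : N → ℂ) g := by rw [hθ s⁻¹]
      have h2 : ((s⁻¹ • θ : IrrCharacter N) : N → ℂ) g = (θ : N → ℂ) (φ (s⁻¹)⁻¹ g) := rfl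
      rw [h2, inv_inv] at h1
      exact h1
    rw [huniq θ hI]
    simp only [f]
    rw [h0, zero_mul]
    exact H12.Glauberman.Cong.refl 0
  have hcong := H12.Glauberman.cong_sum_zero_of_fixed P.2 f hint hinv hfix
  rw [← hsum] at hcong
  have h1 : H12.Glauberman.Cong p ((H12.degree (χ : G → ℂ) : ℕ) : ℂ) ((0 : ℕ) : ℂ) := by
    simpa using hcong
  exact (ZMod.natCast_eq_zero_iff _ _).1 (by simpa using H12.Glauberman.Cong.zmod_eq_nat h1)

/-- A subgroup of the form `N A` with `A ≤ P` and `A` in the kernel of some linear constituent. -/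
theorem kernel_of_core (p : ℕ) [Fact p.Prime] [Fintype G] (P : Sylow p G) (N : Subgroup G)
    [N.Normal] (hNP : N ⊓ (P : Subgroup G) = ⊥) (L : Subgroup G) [L.Normal] (hNL : N ≤ L)
    (hL : L ≤ N ⊔ ⁅(P : Subgroup G), (P : Subgroup G)⁆)
    (χ : IrrCharacter G) (hχ : ¬ p ∣ H12.degree (χ : G → ℂ))
    (hker : ∀ n ∈ N, (χ : G → ℂ) n = (χ : G → ℂ) 1)
    (x : G) (hx : x ∈ L) : (χ : G → ℂ) x = (χ : G → ℂ) 1 := by
  classical
  haveI : Fintype L := Fintype.ofFinite _
  haveI : Fintype (P : Subgroup G) := Fintype.ofFinite _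
  let A : Subgroup G := L ⊓ (P : Subgroup G)
  haveI : Fintype A := Fintype.ofFinite _
  have hPP : ⁅(P : Subgroup G), (P : Subgroup G)⁆ ≤ (P : Subgroup G) :=
    Subgroup.commutator_le.2 fun a ha b hb =>
      mul_mem (mul_mem (mul_mem ha hb) (inv_mem ha)) (inv_mem hb)
  have hdec : ∀ y ∈ L, ∃ n ∈ N, ∃ a ∈ A,
      y = n * a ∧ a ∈ ⁅(P : Subgroup G), (P : Subgroup G)⁆ := by
    intro y hy
    have h1 : y ∈ ((N : Set G) * ((⁅(P : Subgroup G), (P : Subgroup G)⁆ : Subgroup G) : Set G)) := by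
      rw [← Subgroup.normal_mul]; exact hL hy
    obtain ⟨n, hn, c, hc, rfl⟩ := h1
    exact ⟨n, hn, c, ⟨by simpa using mul_mem (inv_mem (hNL hn)) hy, hPP hc⟩, rfl, hc⟩
  let F : (↥N × ↥A) → ↥L := fun q => ⟨(q.1 : G) * q.2, mul_mem (hNL q.1.2) q.2.2.1⟩
  have hF : Function.Bijective F := by
    constructor
    · rintro ⟨n, a⟩ ⟨m, b⟩ h
      have h' : (n : G) * a = m * b := congrArg Subtype.val h
      have h1 : (m : G)⁻¹ * n ∈ N ⊓ (P : Subgroup G) := by
        refine Subgroup.mem_inf.2 ⟨mul_mem (inv_mem m.2) n.2, ?_⟩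
        have : (m : G)⁻¹ * n = b * (a : G)⁻¹ := by
          rw [inv_mul_eq_iff_eq_mul, ← mul_assoc, ← h', mul_inv_cancel_right]
        rw [this]
        exact mul_mem (Subgroup.mem_inf.1 b.2).2 (inv_mem (Subgroup.mem_inf.1 a.2).2)
      rw [hNP, Subgroup.mem_bot, inv_mul_eq_one] at h1
      have h2 : n = m := Subtype.ext h1.symm
      subst h2
      exact Prod.ext rfl (Subtype.ext (mul_left_cancel h'))
    · intro y
      obtain ⟨n, hn, a, ha, e, -⟩ := hdec y y.2
      exact ⟨(⟨n, hn⟩, ⟨a, ha⟩), Subtype.ext e.symm⟩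
  have hchar := H12.isCharacter_irr χ
  obtain ⟨ψ, hψ1, hψ⟩ := exists_linear_constituent p P.2
    (H12.IsCharacter.res hchar (P : Subgroup G)) (by
      simpa [H12.degree] using hχ)
  obtain ⟨f, hf⟩ := H12.exists_monoidHom_of_apply_one_eq_one (H12.isCharacter_irr ψ) hψ1
  have hA' : ∀ a : A, ∀ h : (a : G) ∈ (P : Subgroup G), (ψ : ↥(P : Subgroup G) → ℂ) ⟨a, h⟩ = 1 := by
    intro a h
    rw [← hf]
    beta_reduce
    obtain ⟨n, hn, c, hc, e, hc'⟩ := hdec a a.2.1
    have h1 : n ∈ N ⊓ (P : Subgroup G) := Subgroup.mem_inf.2 ⟨hn, by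
      have : n = (a : G) * c⁻¹ := by rw [e, mul_inv_cancel_right]
      rw [this]; exact mul_mem h (inv_mem (Subgroup.mem_inf.1 hc).2)⟩
    rw [hNP, Subgroup.mem_bot] at h1
    rw [h1, one_mul] at e
    have hcomm : (⟨a, h⟩ : ↥(P : Subgroup G)) ∈ commutator ↥(P : Subgroup G) := by
      have h3 : (commutator ↥(P : Subgroup G)).map (P : Subgroup G).subtype =
          ⁅(P : Subgroup G), (P : Subgroup G)⁆ := Subgroup.map_subtype_commutator _
      rw [← e] at hc'
      rw [← h3] at hc'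
      obtain ⟨z, hz, hzy⟩ := Subgroup.mem_map.1 hc'
      have : z = (⟨a, h⟩ : ↥(P : Subgroup G)) := Subtype.ext hzy
      rwa [this] at hz
    rw [MonoidHom.mem_ker.1 (Abelianization.commutator_subset_ker f hcomm), Units.val_one]
  obtain ⟨m, hm⟩ := H12.IsCharacter.exists_mult (H12.IsCharacter.res hchar (P : Subgroup G))
  have hmψ : m ψ ≠ 0 := by
    intro h0
    apply hψ
    rw [hm, H12.classInner_sum_smul_irr, h0, Nat.cast_zero]
  refine kernel_of_trivial_constituent L χ ?_ x hx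
  intro h0
  have hs : ∑ y : L, (χ : G → ℂ) y = 0 := by
    rw [H12.classInner_def] at h0
    simp only [H12.oneIrr_apply, map_one, mul_one] at h0
    rcases mul_eq_zero.1 h0 with h | h
    · exact absurd h (inv_ne_zero H12.card_ne_zero')
    · exact h
  rw [← (Equiv.ofBijective F hF).sum_comp] at hs
  have hs' : (Nat.card N : ℂ) * ∑ a : A, (χ : G → ℂ) a = 0 := by
    rw [← hs, Fintype.sum_prod_type]
    rw [show ∀ g : A → ℂ, (Nat.card N : ℂ) * ∑ a, g a = ∑ _n : N, ∑ a, g a from fun g => by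
      simp [Nat.card_eq_fintype_card]]
    refine Finset.sum_congr rfl fun n _ => Finset.sum_congr rfl fun a _ => ?_
    exact (H12.IsCharacter.mul_left_of_eq_degree hchar (hker n n.2) a).symm
  have hsA : ∑ a : A, (χ : G → ℂ) a = 0 :=
    (mul_eq_zero.1 hs').resolve_left (by exact_mod_cast Nat.card_pos.ne')
  -- the restriction to `A` through `P`
  have hnat : ∀ θ : IrrCharacter (P : Subgroup G), ∃ k : ℕ,
      ∑ a : A, (θ : ↥(P : Subgroup G) → ℂ) ⟨a, a.2.2⟩ = (Nat.card A : ℂ) * k := by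
    intro θ
    obtain ⟨k, hk⟩ := H12.IsCharacter.classInner_nat (G := ↥A)
      (H12.IsCharacter.comp (H12.isCharacter_irr θ)
        (Subgroup.inclusion (inf_le_right : A ≤ (P : Subgroup G))))
      (H12.isCharacter_irr (H12.oneIrr A))
    refine ⟨k, ?_⟩
    rw [← hk, H12.classInner_def]
    simp only [H12.oneIrr_apply, map_one, mul_one]
    rw [← mul_assoc, mul_inv_cancel₀ H12.card_ne_zero', one_mul]
    rfl
  choose k hk using hnat
  have hexp : ∑ a : A, (χ : G → ℂ) a = ∑ θ, (m θ : ℂ) * ((Nat.card A : ℂ) * k θ) := by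
    rw [Finset.sum_congr rfl (fun (a : A) _ => congrFun hm ⟨a, a.2.2⟩)]
    simp only [Finset.sum_apply, Pi.smul_apply, smul_eq_mul]
    rw [Finset.sum_comm]
    exact Finset.sum_congr rfl fun θ _ => by rw [← Finset.mul_sum, hk]
  rw [hexp] at hsA
  have hnat0 : ∑ θ, m θ * (Nat.card A * k θ) = 0 := by exact_mod_cast hsA
  have hkψ := (Finset.sum_eq_zero_iff.1 hnat0) ψ (Finset.mem_univ _)
  have hk1 : k ψ = 1 := by
    have h := hk ψ
    rw [Finset.sum_congr rfl (fun a _ => hA' a a.2.2), Finset.sum_const, Finset.card_univ,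
      ← Nat.card_eq_fintype_card, nsmul_eq_mul, mul_one] at h
    have hA0 : (Nat.card A : ℂ) ≠ 0 := by exact_mod_cast Nat.card_pos.ne'
    have : (k ψ : ℂ) = 1 := by
      have := h.symm
      rwa [mul_eq_left₀ hA0] at this
    exact_mod_cast this
  rw [hk1, mul_one] at hkψ
  exact (Nat.mul_eq_zero.1 hkψ).elim hmψ Nat.card_pos.ne'

/-- An element of `P` in every kernel lies in `P'`. -/
theorem mem_commutator_of_kernel (p : ℕ) [Fact p.Prime] [Fintype G] (P : Sylow p G)
    (x : ↥(P : Subgroup G))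
    (hx : ∀ χ : IrrCharacter G, ¬ p ∣ H12.degree (χ : G → ℂ) → (χ : G → ℂ) x = (χ : G → ℂ) 1) :
    x ∈ commutator ↥(P : Subgroup G) := by
  classical
  haveI : Fintype (P : Subgroup G) := Fintype.ofFinite _
  by_contra hxc
  have hx1 : (Abelianization.of x : Abelianization ↥(P : Subgroup G)) ≠ 1 := fun h =>
    hxc ((QuotientGroup.eq_one_iff x).1 h)
  obtain ⟨f, hf⟩ := CommGroup.exists_apply_ne_one_of_hasEnoughRootsOfUnity
    (Abelianization ↥(P : Subgroup G)) ℂ hx1
  let g : ↥(P : Subgroup G) →* ℂˣ := f.comp Abelianization.of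
  obtain ⟨χ, hχ, hne⟩ := exists_pPrime_constituent p (P : Subgroup G) (H12.linIrr g)
    P.not_dvd_index (by simp [H12.degree, H12.linIrr_apply, (Fact.out : p.Prime).ne_one])
  have := kernel_of_constituent (P : Subgroup G) (H12.isCharacter_irr χ) _ hne x (hx χ hχ)
  rw [H12.linIrr_apply, H12.linIrr_apply, map_one] at this
  exact hf (Units.ext this)

/-- A normal `p'`-subgroup in every kernel has no fixed points for a Sylow subgroup. -/
theorem inf_centralizer_eq_bot_of_kernel (p : ℕ) [Fact p.Prime] [Fintype G] (P : Sylow p G)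
    (M : Subgroup G) [M.Normal] (hMp : ¬ p ∣ Nat.card M)
    (hker : ∀ m ∈ M, ∀ χ : IrrCharacter G, ¬ p ∣ H12.degree (χ : G → ℂ) →
      (χ : G → ℂ) m = (χ : G → ℂ) 1) :
    M ⊓ Subgroup.centralizer ((P : Subgroup G) : Set G) = ⊥ := by
  classical
  haveI : Fintype M := Fintype.ofFinite _
  let φ := H12.Glauberman.conjHom M (P : Subgroup G) (fun s _ g hg => ‹M.Normal›.conj_mem g hg s)
  let C : Subgroup M := (M ⊓ Subgroup.centralizer ((P : Subgroup G) : Set G)).subgroupOf M
  have hC : ∀ g, g ∈ C ↔ ∀ s, φ s g = g := by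
    intro g
    constructor
    · intro hg s
      have h1 : (s : G) * g = g * s := Subgroup.mem_centralizer_iff.1 hg.2 s s.2
      exact Subtype.ext (by rw [H12.Glauberman.conjHom_coe, h1, mul_inv_cancel_right])
    · intro hg
      refine ⟨g.2, Subgroup.mem_centralizer_iff.2 fun s hs => ?_⟩
      have := congrArg Subtype.val (hg ⟨s, hs⟩)
      rw [H12.Glauberman.conjHom_coe] at this
      exact mul_inv_eq_iff_eq_mul.1 this
  haveI : Fintype C := Fintype.ofFinite _
  by_contra hne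
  obtain ⟨c, hc, hc1⟩ : ∃ c ∈ M ⊓ Subgroup.centralizer ((P : Subgroup G) : Set G), c ≠ 1 := by
    obtain ⟨c, hc⟩ := Subgroup.ne_bot_iff_exists_ne_one.1 hne
    exact ⟨c, c.2, fun h => hc (Subtype.ext h)⟩
  have hnt : Nontrivial (IrrCharacter C) := by
    rw [← Finite.one_lt_card_iff_nontrivial, H12.card_irrCharacter]
    refine Finite.one_lt_card_iff_nontrivial.2 ⟨ConjClasses.mk (⟨⟨c, hc.1⟩, hc⟩ : C),
      ConjClasses.mk 1, fun h => hc1 ?_⟩
    have h1 := isConj_one_right.1 (ConjClasses.mk_eq_mk_iff_isConj.1 h).symm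
    exact congrArg (fun z : C => ((z : M) : G)) h1
  have hone : H12.Glauberman.Inv φ ((H12.oneIrr M : IrrCharacter M) : M → ℂ) := fun _ _ => rfl
  obtain ⟨β, hβ⟩ := exists_ne (H12.Glauberman.glauberman (φ := φ) P.2 hMp hC ⟨H12.oneIrr M, hone⟩)
  obtain ⟨⟨θ, hθ⟩, rfl⟩ := (H12.Glauberman.glauberman (φ := φ) P.2 hMp hC).surjective β
  have hθ1 : θ ≠ H12.oneIrr M := by
    intro h
    subst h
    exact hβ rfl
  -- `θ` inside `M P`
  let G1 : Subgroup G := M ⊔ (P : Subgroup G)
  haveI : Fintype G1 := Fintype.ofFinite _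
  let M' : Subgroup G1 := M.subgroupOf G1
  haveI : Fintype M' := Fintype.ofFinite _
  let e : M' ≃* M := Subgroup.subgroupOfEquivOfLe le_sup_left
  let θ' : IrrCharacter M' := H12.irrCongr e θ
  haveI hM'n : M'.Normal := Subgroup.normal_subgroupOf
  have hinv : ∀ (g : G1) (n : M'),
      (θ' : M' → ℂ) ⟨g * n * g⁻¹, hM'n.conj_mem n n.2 g⟩ = (θ' : M' → ℂ) n := by
    intro g n
    rw [H12.irrCongr_apply, H12.irrCongr_apply]
    have hg : (g : G) ∈ ((M : Set G) * ((P : Subgroup G) : Set G)) := by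
      rw [← Subgroup.normal_mul]; exact g.2
    obtain ⟨a, ha, b, hb, hab⟩ := hg
    have hcl := H12.irr_isClassFunction θ
    let y : M := φ ⟨b, hb⟩ (e n)
    have h1 : e ⟨g * n * g⁻¹, hM'n.conj_mem n n.2 g⟩ = (⟨a, ha⟩ : M) * y * (⟨a, ha⟩ : M)⁻¹ := by
      refine Subtype.ext ?_
      show ((g : G) * ((n : G1) : G) * (g : G)⁻¹) = a * (b * ((n : G1) : G) * b⁻¹) * a⁻¹
      rw [← show a * b = (g : G) from hab]
      group
    rw [h1, hcl, hθ]
  have hθp : ¬ p ∣ H12.degree (θ' : M' → ℂ) := fun h => hMp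
    (by rw [← Nat.card_congr e.toEquiv]; exact h.trans (H12.irr_degree_dvd_card θ'))
  obtain ⟨χ₁, hχ₁, hover⟩ := H25.exists_pPrime_over (N := M') θ'
    (by rw [Nat.card_congr e.toEquiv]; exact hMp) hθp hinv
  have hidx : ¬ p ∣ G1.index := fun h =>
    P.not_dvd_index (h.trans (Subgroup.index_dvd_of_le le_sup_right))
  obtain ⟨χ, hχ, hne'⟩ := exists_pPrime_constituent p G1 χ₁ hidx hχ₁
  apply hθ1
  refine Subtype.ext (funext fun m => ?_)
  let m' : M' := e.symm m
  have hm' : ((m' : G1) : G) = m := rfl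
  have h1 : ∀ x : M', (χ₁ : G1 → ℂ) x = (χ₁ : G1 → ℂ) 1 := fun x =>
    kernel_of_constituent G1 (H12.isCharacter_irr χ) χ₁ hne' (x : G1) (hker _ x.2 χ hχ)
  by_contra hm
  apply hover
  have h2 : (fun n : M' => (χ₁ : G1 → ℂ) n) =
      (χ₁ : G1 → ℂ) 1 • ((H12.oneIrr M' : IrrCharacter M') : M' → ℂ) :=
    funext fun x => by rw [Pi.smul_apply, H12.oneIrr_apply, smul_eq_mul, mul_one, h1]
  rw [h2, H12.classInner_smul_left, H12.classInner_irr, if_neg, mul_zero]
  intro he
  apply hm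
  have h3 := congrFun (congrArg Subtype.val he) m'
  rw [H12.irrCongr_apply, H12.oneIrr_apply] at h3
  rw [H12.oneIrr_apply]
  simpa [m'] using h3.symm

/-- The common kernel of the irreducible characters of degree prime to `p`. -/
theorem common_kernel (p : ℕ) [Fact p.Prime] (P : Sylow p G) (N : Subgroup G) [N.Normal]
    (hN : N ⊓ Subgroup.centralizer ((P : Subgroup G) : Set G) = ⊥)
    (hmax : ∀ L : Subgroup G, L.Normal →
      L ⊓ Subgroup.centralizer ((P : Subgroup G) : Set G) = ⊥ → L ≤ N) :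
    {g : G | ∀ χ : IrrCharacter G, ¬ p ∣ H12.degree (χ : G → ℂ) →
      (χ : G → ℂ) g = (χ : G → ℂ) 1} =
      ((N ⊔ ⁅(P : Subgroup G), (P : Subgroup G)⁆).normalCore : Set G) := by
  classical
  haveI : Fintype G := Fintype.ofFinite G
  have hNp : ¬ p ∣ Nat.card N := by
    intro hd
    haveI : Finite N := inferInstance
    -- a nontrivial Sylow subgroup of `N` would have fixed points
    have hne : N ⊓ (P : Subgroup G) ≠ ⊥ := by
      intro h0
      have hi := Subgroup.index_dvd_of_le (le_refl (P : Subgroup G))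
      have h1 : (P : Subgroup G).relIndex N = Nat.card N := by
        rw [← Subgroup.inf_relIndex_right, inf_comm, h0, Subgroup.relIndex_bot_left]
      exact P.not_dvd_index (hd.trans (h1 ▸ H5.relIndex_dvd_index_of_normal_right' _ _))
    have hne' : N.subgroupOf (P : Subgroup G) ≠ ⊥ := fun h =>
      hne (disjoint_iff.1 (Subgroup.subgroupOf_eq_bot.1 h))
    obtain ⟨⟨z, hz⟩, hz1⟩ := Subgroup.ne_bot_iff_exists_ne_one.1
      (H6.inf_center_ne_bot P.2 hne')
    have hz1' : (z : G) ≠ 1 := fun h => hz1 (Subtype.ext (Subtype.ext h))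
    have hzc : (z : G) ∈ Subgroup.centralizer ((P : Subgroup G) : Set G) :=
      Subgroup.mem_centralizer_iff.2 fun s hs =>
        congrArg Subtype.val (Subgroup.mem_center_iff.1 hz.2 ⟨s, hs⟩)
    have : (z : G) ∈ N ⊓ Subgroup.centralizer ((P : Subgroup G) : Set G) := ⟨hz.1, hzc⟩
    rw [hN, Subgroup.mem_bot] at this
    exact hz1' this
  have hNP : N ⊓ (P : Subgroup G) = ⊥ := by
    refine disjoint_iff.1 (Subgroup.disjoint_of_coprime_natCard ?_)
    obtain ⟨k, hk⟩ := IsPGroup.iff_card.1 P.2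
    rw [hk]
    exact Nat.Coprime.pow_right _ ((Nat.Prime.coprime_iff_not_dvd Fact.out).2 hNp).symm
  let K : Subgroup G :=
    { carrier := {g | ∀ χ : IrrCharacter G, ¬ p ∣ H12.degree (χ : G → ℂ) →
        (χ : G → ℂ) g = (χ : G → ℂ) 1}
      one_mem' := fun _ _ => rfl
      mul_mem' := fun {a b} ha hb χ hχ =>
        (H12.IsCharacter.mul_left_of_eq_degree (H12.isCharacter_irr χ) (ha χ hχ) b).trans (hb χ hχ)
      inv_mem' := fun {a} ha χ hχ =>
        (H12.charKer (χ : G → ℂ) (H12.isCharacter_irr χ)).inv_mem (ha χ hχ) }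
  haveI hKn : K.Normal := ⟨fun a ha g χ hχ => by
    rw [H12.irr_isClassFunction χ]; exact ha χ hχ⟩
  let L : Subgroup G := (N ⊔ ⁅(P : Subgroup G), (P : Subgroup G)⁆).normalCore
  have hNL : N ≤ L := Subgroup.normal_le_normalCore.2 le_sup_left
  have hLK : L ≤ K := fun x hx χ hχ =>
    kernel_of_core p P N hNP L hNL (Subgroup.normalCore_le _) χ hχ
      (fun n hn => kernel_of_free p P N hNp hN χ hχ n hn) x hx
  have hKP : K ⊓ (P : Subgroup G) ≤ ⁅(P : Subgroup G), (P : Subgroup G)⁆ := by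
    intro x hx
    rw [← Subgroup.map_subtype_commutator]
    exact Subgroup.mem_map.2 ⟨⟨x, hx.2⟩, mem_commutator_of_kernel p P ⟨x, hx.2⟩ hx.1, rfl⟩
  have hfr : ⁅(P : Subgroup G), (P : Subgroup G)⁆ ≤
      (frattini ↥(P : Subgroup G)).map (P : Subgroup G).subtype := by
    rw [← Subgroup.map_subtype_commutator]
    exact Subgroup.map_mono (H6.commutator_le_frattini P.2)
  have hcomp := H5.hasNormalPComplement_of_le_frattini P K (hKP.trans hfr)
  rw [H5.hasNormalPComplement_iff_not_dvd] at hcomp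
  let M : Subgroup G := (Cfsg.pResidual p K).map K.subtype
  haveI hMn : M.Normal := inferInstance
  have hMK : M ≤ K := Subgroup.map_subtype_le _
  have hMp : ¬ p ∣ Nat.card M := by
    rw [Subgroup.card_map_of_injective K.subtype_injective]
    exact hcomp
  have hMN : M ≤ N := hmax M hMn
    (inf_centralizer_eq_bot_of_kernel p P M hMp (fun m hm => hMK hm))
  have hKle : K ≤ N ⊔ ⁅(P : Subgroup G), (P : Subgroup G)⁆ := by
    intro x hx
    have hKsup : K ≤ M ⊔ (P : Subgroup G) := by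
      have hq : IsPGroup p ↥(K.map (QuotientGroup.mk' M)) := by
        rintro ⟨y, hy⟩
        obtain ⟨k, hk, rfl⟩ := Subgroup.mem_map.1 hy
        obtain ⟨i, hi⟩ := H5.isPGroup_quotient_pResidual (p := p) (G := K)
          (QuotientGroup.mk ⟨k, hk⟩)
        rw [← QuotientGroup.mk_pow, QuotientGroup.eq_one_iff] at hi
        refine ⟨i, Subtype.ext ?_⟩
        rw [SubgroupClass.coe_pow, OneMemClass.coe_one]
        exact (QuotientGroup.eq_one_iff _).2 (Subgroup.mem_map.2 ⟨_, hi, rfl⟩)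
      have h1 := hq.le_sylow_of_normal (P.mapSurjective (QuotientGroup.mk'_surjective M))
      rw [Sylow.coe_mapSurjective, Subgroup.map_le_iff_le_comap, Subgroup.comap_map_eq,
        QuotientGroup.ker_mk', sup_comm] at h1
      exact h1
    have h1 : x ∈ ((M : Set G) * ((P : Subgroup G) : Set G)) := by
      rw [← Subgroup.normal_mul]; exact hKsup hx
    obtain ⟨m, hm, b, hb, rfl⟩ := h1
    refine Subgroup.mul_mem_sup (hMN hm) (hKP ⟨?_, hb⟩)
    simpa using mul_mem (inv_mem (hMK hm)) hx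
  have hKL : K ≤ L := Subgroup.normal_le_normalCore.2 hKle
  exact congrArg (fun H : Subgroup G => (H : Set G)) (le_antisymm hKL hLK)

end H68.PPrimeKernel
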