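import Mathlib
import Cfsg.Agent.H70.Conj

/-! Sylow conjugation lemmas. -/

set_option autoImplicit false

namespace H68

open H70

variable {G : Type*} [Group G]

/-- A `p`-subgroup can be conjugated into a given Sylow `p`-subgroup. -/
theorem exists_cj_le [Finite G] {p : ℕ} [Fact p.Prime] (T : Sylow p G) {Q : Subgroup G}
    (hQ : IsPGroup p Q) : ∃ b : G, cj b Q ≤ (T : Subgroup G) := by
  obtain ⟨b, -, hb⟩ := exists_cj_le_sylow T (le_top : (T : Subgroup G) ≤ ⊤) hQ le_top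
  exact ⟨b, hb⟩

/-- A `p`-subgroup of `K` is conjugate in `K` into any given Sylow `p`-subgroup of `K`. -/
theorem exists_cj_le_of_sylow [Finite G] {p : ℕ} [Fact p.Prime] {K : Subgroup G} (R : Sylow p K)
    {Q : Subgroup G} (hQ : IsPGroup p Q) (hQK : Q ≤ K) :
    ∃ h ∈ K, cj h Q ≤ (R : Subgroup K).map K.subtype := by
  obtain ⟨h, hh⟩ := exists_cj_le R (IsPGroup.of_equiv hQ (Subgroup.subgroupOfEquivOfLe hQK).symm)
  refine ⟨h, h.2, ?_⟩
  rintro x ⟨q, hq, rfl⟩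
  exact ⟨h * ⟨q, hQK hq⟩ * h⁻¹, hh ⟨⟨q, hQK hq⟩, hq, rfl⟩, rfl⟩

/-- Two `p`-subgroups of `K` can, after moving the second inside `K`, be moved into a
given Sylow subgroup simultaneously. -/
theorem exists_cj_pair_le_sylow [Finite G] {p : ℕ} [Fact p.Prime] (T : Sylow p G)
    (K A B : Subgroup G) (hA : IsPGroup p A) (hB : IsPGroup p B) (hAK : A ≤ K) (hBK : B ≤ K) :
    ∃ c ∈ K, ∃ b : G, cj b A ≤ (T : Subgroup G) ∧ cj b (cj c B) ≤ (T : Subgroup G) := by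
  obtain ⟨R, hR⟩ := (IsPGroup.of_equiv hA (Subgroup.subgroupOfEquivOfLe hAK).symm).exists_le_sylow
  obtain ⟨c, hc, hcB⟩ := exists_cj_le_of_sylow R hB hBK
  obtain ⟨b, hb⟩ := exists_cj_le T (R.2.map K.subtype)
  refine ⟨c, hc, b, le_trans (cj_mono b ?_) hb, le_trans (cj_mono b hcB) hb⟩
  intro a ha
  exact ⟨⟨a, hAK ha⟩, hR ha, rfl⟩

end H68
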