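import Cfsg.Agent.H68.DihedralData
import Cfsg.Agent.H68.Sylow
import Cfsg.Agent.H5.Frobenius
import Cfsg.Agent.H6.Transfer
import Cfsg.Prelude.Def_Transfer
import Cfsg.Prelude.Def_TwoFusion

/-!
Fusion in groups with dihedral Sylow `2`-subgroups.
-/

set_option autoImplicit false

namespace H68

open Subgroup H65 H70

variable {G : Type*} [Group G]

theorem klein_isPGroup {U : Subgroup G} (hU : IsKleinFour U) : IsPGroup 2 U :=
  IsPGroup.of_card (n := 2) (hU.card_four.trans (by norm_num))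

theorem cj_isKleinFour [Finite G] {U : Subgroup G} (hU : IsKleinFour U) (g : G) :
    IsKleinFour (cj g U) := by
  let e : U ≃* cj g U := U.equivMapOfInjective _ (MulAut.conj g).injective
  exact ⟨by rw [← Nat.card_congr e.toEquiv]; exact hU.card_four,
    (Monoid.exponent_eq_of_mulEquiv e).symm.trans hU.exponent_two⟩

/-- With a normal complement to `S`, normalisers of subgroups of `S` are `C(U) N_S(U)`. -/
theorem normalizer_eq_of_complement {S N U : Subgroup G} [hN : N.Normal] (hc : N.IsComplement' S)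
    (hUS : U ≤ S) :
    normalizer (U : Set G) = centralizer (U : Set G) ⊔ (S ⊓ normalizer (U : Set G)) := by
  refine le_antisymm (fun n hn => ?_) (sup_le (centralizer_le_normalizer _) inf_le_right)
  have htop : n ∈ N ⊔ S := by rw [hc.sup_eq_top]; trivial
  obtain ⟨k, hk, s, hs, rfl⟩ := mem_sup_of_normal_left.1 htop
  have key : ∀ u ∈ U, k * (s * u * s⁻¹) * k⁻¹ = s * u * s⁻¹ := by
    intro u hu
    have h1 : k * (s * u * s⁻¹) * k⁻¹ ∈ S := by
      rw [show k * (s * u * s⁻¹) * k⁻¹ = (k * s) * u * (k * s)⁻¹ by group]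
      exact hUS ((mem_normalizer_iff.1 hn u).1 hu)
    have h2 : s * u * s⁻¹ ∈ S := S.mul_mem (S.mul_mem hs (hUS hu)) (S.inv_mem hs)
    refine mul_inv_eq_one.1 ?_
    refine (disjoint_def.1 hc.disjoint) ?_ (S.mul_mem h1 (S.inv_mem h2))
    have := N.mul_mem hk (hN.conj_mem k⁻¹ (N.inv_mem hk) (s * u * s⁻¹))
    convert this using 1
    group
  have hkC : k ∈ centralizer (U : Set G) := by
    rw [mem_centralizer_iff]
    intro w hw
    have hu : (k * s)⁻¹ * w * (k * s) ∈ U := by
      refine (mem_normalizer_iff.1 hn _).2 ?_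
      rw [show k * s * ((k * s)⁻¹ * w * (k * s)) * (k * s)⁻¹ = w by group]
      exact hw
    have h1 := key _ hu
    have e : s * ((k * s)⁻¹ * w * (k * s)) * s⁻¹ = k⁻¹ * w * k := by group
    rw [e] at h1
    have e2 : k * (k⁻¹ * w * k) * k⁻¹ = w := by group
    rw [e2] at h1
    calc w * k = k * (k⁻¹ * w * k) := by group
      _ = k * w := by rw [← h1]
  refine mul_mem (mem_sup_left hkC) (mem_sup_right ⟨hs, ?_⟩)
  have : k⁻¹ * (k * s) ∈ normalizer (U : Set G) :=
    mul_mem (inv_mem (centralizer_le_normalizer _ hkC)) hn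
  rwa [inv_mul_cancel_left] at this

/-- A normal `2`-complement from normalisers of four-groups. -/
theorem hasNormalPComplement_of_klein [Finite G] (S : Sylow 2 G) {c : G}
    (h : Dih (S : Subgroup G) c)
    (hU : ∀ U : Subgroup G, U ≤ S → IsKleinFour U → normalizer (U : Set G) =
      centralizer (U : Set G) ⊔ ((S : Subgroup G) ⊓ normalizer (U : Set G))) :
    Cfsg.HasNormalPComplement 2 G := by
  haveI : Fact (Nat.Prime 2) := ⟨Nat.prime_two⟩
  refine H5.hasNormalPComplement_of_frobenius S fun Q hQ g hg hcop => ?_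
  have hodd : Odd (orderOf g) := Nat.coprime_two_right.1 hcop
  rcases h.mem_centralizer_or_klein hQ hg hodd with h1 | h1
  · exact h1
  set N := normalizer (Q : Set G) with hN
  set C' := (centralizer (Q : Set G)).subgroupOf N with hC'
  haveI : C'.Normal := inferInstance
  set T := ((S : Subgroup G) ⊓ N).subgroupOf N with hT
  have htop : C' ⊔ T = ⊤ := by
    rw [hC', hT, ← subgroupOf_sup (centralizer_le_normalizer _) inf_le_right, ← hU Q hQ h1,
      subgroupOf_self]
  obtain ⟨a, ha, s, hs, hgs⟩ : ∃ a ∈ C', ∃ s ∈ T, a * s = (⟨g, hg⟩ : N) :=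
    mem_sup_of_normal_left.1 (htop ▸ mem_top _)
  have hmk : (QuotientGroup.mk' C') ⟨g, hg⟩ = QuotientGroup.mk' C' s := by
    rw [← hgs, map_mul]
    simp [(QuotientGroup.eq_one_iff a).2 ha]
  have hd1 : orderOf (QuotientGroup.mk' C' ⟨g, hg⟩) ∣ orderOf g := by
    refine (orderOf_map_dvd _ _).trans (dvd_of_eq ?_)
    rw [← Subgroup.orderOf_coe]
  have hd2 : orderOf (QuotientGroup.mk' C' ⟨g, hg⟩) ∣ orderOf s := hmk ▸ orderOf_map_dvd _ _
  obtain ⟨e, he⟩ : ∃ e, orderOf s = 2 ^ e := by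
    obtain ⟨e, he⟩ := IsPGroup.iff_orderOf.1 S.2 ⟨(s : G), (mem_inf.1 (mem_subgroupOf.1 hs)).1⟩
    exact ⟨e, by rw [← Subgroup.orderOf_coe, ← he, Subgroup.orderOf_mk]⟩
  have hone : orderOf (QuotientGroup.mk' C' ⟨g, hg⟩) = 1 :=
    Nat.eq_one_of_dvd_coprimes ((Nat.coprime_two_right.2 hodd).pow_right e) hd1 (he ▸ hd2)
  exact (QuotientGroup.eq_one_iff (⟨g, hg⟩ : N)).1 (orderOf_eq_one_iff.1 hone)

/-- Without a subgroup of index `2` all involutions are conjugate to the central one. -/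
theorem isConj_dz [Finite G] (S : Sylow 2 G) {c : G} (h : Dih (S : Subgroup G) c)
    (hG : ∀ H : Subgroup G, H.index ≠ 2) {t : G} (ht : orderOf t = 2) : IsConj t (dz c) := by
  have hle : zpowers c ≤ (S : Subgroup G) := zpowers_le.2 h.mem
  have hrel : (zpowers c).relIndex (S : Subgroup G) = 2 := by
    have h1 := Subgroup.card_mul_index ((zpowers c).subgroupOf (S : Subgroup G))
    rw [Nat.card_congr (subgroupOfEquivOfLe hle).toEquiv, Nat.card_zpowers, h.card_eq] at h1
    refine Nat.eq_of_mul_eq_mul_left (orderOf_pos c) ?_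
    rw [relIndex, h1, mul_comm]
  rcases H6.thompson_transfer S (zpowers c) hle hrel t ht with ⟨M, -, hM, -⟩ | ⟨g, hg⟩
  · exact absurd hM (hG M)
  · exact isConj_iff.2 ⟨g, h.dz_unique (two_conj ht g) hg⟩

/-- If all involutions are conjugate there is no subgroup of index `2`. -/
theorem index_ne_two_of_one_class [Finite G] (S : Sylow 2 G) {c : G}
    (h : Dih (S : Subgroup G) c)
    (hc : ∀ a b : G, orderOf a = 2 → orderOf b = 2 → IsConj a b) (H : Subgroup G) :
    H.index ≠ 2 := by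
  intro hH
  haveI := normal_of_index_eq_two hH
  haveI : Fact (Nat.Prime 2) := ⟨Nat.prime_two⟩
  obtain ⟨y, hy, hyA⟩ := h.exists_out
  have hy2 : orderOf y = 2 := two_iff.2 ⟨h.invol y hy hyA, fun e => hyA (e ▸ one_mem _)⟩
  obtain ⟨t, ht, htH⟩ : ∃ t, orderOf t = 2 ∧ t ∈ H := by
    by_cases h1 : dz c ∈ H
    · exact ⟨_, h.dz_two, h1⟩
    by_cases h2 : y ∈ H
    · exact ⟨_, hy2, h2⟩
    refine ⟨dz c * y, two_iff.2 ⟨?_, fun e => ?_⟩, (mul_mem_iff_of_index_two hH).2 (by tauto)⟩
    · rw [mul_assoc, ← mul_assoc y, h.dz_comm hy, mul_assoc, h.invol y hy hyA, mul_one,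
        mul_self_of_two h.dz_two]
    · exact hyA (by
        rw [← h.inv_eq hy hyA, ← eq_inv_of_mul_eq_one_left e]; exact h.dz_mem_zpowers)
  have hall : ∀ u : G, orderOf u = 2 → u ∈ H := fun u hu => by
    obtain ⟨g, rfl⟩ := isConj_iff.1 (hc t u ht hu)
    exact Normal.conj_mem (inferInstance : H.Normal) t htH g
  have hrefl : ∀ x ∈ (S : Subgroup G), x ∉ zpowers c → x ∈ H := fun x hx hxA =>
    hall x (two_iff.2 ⟨h.invol x hx hxA, fun e => hxA (e ▸ one_mem _)⟩)
  have hSH : (S : Subgroup G) ≤ H := by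
    intro x hx
    by_cases hxA : x ∈ zpowers c
    · have h1 : x * y ∉ zpowers c := fun e => hyA (((zpowers c).mul_mem_cancel_left hxA).1 e)
      have := H.mul_mem (hrefl _ (mul_mem hx hy) h1) (hrefl y hy hyA)
      rwa [mul_assoc, h.invol y hy hyA, mul_one] at this
    · exact hrefl x hx hxA
  have hd := index_dvd_of_le hSH
  rw [hH] at hd
  exact S.not_dvd_index hd

/-- If all involutions are conjugate there is no isolated involution. -/
theorem not_isolated_of_one_class [Finite G] (S : Sylow 2 G) {c : G}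
    (h : Dih (S : Subgroup G) c)
    (hc : ∀ a b : G, orderOf a = 2 → orderOf b = 2 → IsConj a b) (z : G) :
    ¬ Cfsg.IsIsolatedInvolution z := by
  rintro ⟨hz, hiso⟩
  obtain ⟨y, hy, hyA⟩ := h.exists_out
  have hy2 : orderOf y = 2 := two_iff.2 ⟨h.invol y hy hyA, fun e => hyA (e ▸ one_mem _)⟩
  obtain ⟨g, rfl⟩ := isConj_iff.1 (hc (dz c) z h.dz_two hz)
  obtain ⟨k, hk⟩ := isConj_iff.1 (hc (g * dz c * g⁻¹) (g * y * g⁻¹) hz (two_conj hy2 g))
  have hcom : Commute (g * dz c * g⁻¹) (k * (g * dz c * g⁻¹) * k⁻¹) := by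
    rw [hk]
    show g * dz c * g⁻¹ * (g * y * g⁻¹) = g * y * g⁻¹ * (g * dz c * g⁻¹)
    calc g * dz c * g⁻¹ * (g * y * g⁻¹) = g * (dz c * y) * g⁻¹ := by group
      _ = g * (y * dz c) * g⁻¹ := by rw [h.dz_comm hy]
      _ = _ := by group
  have h2 := hiso k hcom
  rw [hk] at h2
  exact hyA (mul_left_cancel (mul_right_cancel h2) ▸ h.dz_mem_zpowers)

/-- A four-group whose automiser has an element of order `3` fuses its involutions. -/
theorem isConj_of_three_dvd [Finite G] {S : Subgroup G} {c y : G} (h : Dih S c) (hy : y ∈ S)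
    (hyA : y ∉ zpowers c)
    (h3 : 3 ∣ (centralizer (h.four hy hyA : Set G)).relIndex
      (normalizer (h.four hy hyA : Set G))) :
    IsConj (dz c) y := by
  set U := h.four hy hyA with hUdef
  set z := dz c with hz
  set C' := (centralizer (U : Set G)).subgroupOf (normalizer (U : Set G)) with hC'
  haveI : C'.Normal := inferInstance
  haveI : Fact (Nat.Prime 3) := ⟨Nat.prime_three⟩
  obtain ⟨q, hq⟩ := exists_prime_orderOf_dvd_card' (G := _ ⧸ C') 3 (by
    rw [← index_eq_card]; exact h3)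
  obtain ⟨⟨g, hgN⟩, rfl⟩ := QuotientGroup.mk_surjective q
  have hne : g ∉ centralizer (U : Set G) := by
    intro hg
    have : (QuotientGroup.mk (⟨g, hgN⟩ : normalizer (U : Set G)) : _ ⧸ C') = 1 :=
      (QuotientGroup.eq_one_iff _).2 hg
    rw [this, orderOf_one] at hq
    omega
  have hcube : g ^ 3 ∈ centralizer (U : Set G) := by
    have : (QuotientGroup.mk ((⟨g, hgN⟩ : normalizer (U : Set G)) ^ 3) : _ ⧸ C') = 1 := by
      rw [QuotientGroup.mk_pow, ← hq, pow_orderOf_eq_one]
    have h' := (QuotientGroup.eq_one_iff (N := C') _).1 this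
    simpa [hC', mem_subgroupOf] using h'
  have hzU : z ∈ U := (h.mem_four hy hyA).2 (Or.inr (Or.inl rfl))
  have hyU : y ∈ U := (h.mem_four hy hyA).2 (Or.inr (Or.inr (Or.inl rfl)))
  have hcube' : ∀ u ∈ U, g * (g * (g * u * g⁻¹) * g⁻¹) * g⁻¹ = u := fun u hu => by
    have := mem_centralizer_iff.1 hcube u hu
    calc g * (g * (g * u * g⁻¹) * g⁻¹) * g⁻¹ = g ^ 3 * u * (g ^ 3)⁻¹ := by simp [pow_succ, mul_assoc]
      _ = u := by rw [← this, mul_inv_cancel_right]
  have hzz : z * z = 1 := mul_self_of_two h.dz_two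
  have hz1 : z ≠ 1 := ne_one_of_two h.dz_two
  have hy1 : y ≠ 1 := fun e => hyA (e ▸ one_mem _)
  have hzy : z ≠ y := fun e => hyA (e ▸ h.dz_mem_zpowers)
  -- the images of `z`, `y` and `z * y` are again nontrivial members of `U`
  have himg : ∀ u ∈ U, u ≠ 1 → g * u * g⁻¹ = z ∨ g * u * g⁻¹ = y ∨ g * u * g⁻¹ = z * y :=
    fun u hu hu1 => ((h.mem_four hy hyA).1 ((mem_normalizer_iff.1 hgN u).1 hu)).resolve_left
      (fun e => hu1 (conj_eq_one_iff.1 e))
  have hmul : ∀ a b : G, g * (a * b) * g⁻¹ = (g * a * g⁻¹) * (g * b * g⁻¹) := fun a b => by group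
  rcases himg z hzU hz1 with hgz | hgz | hgz
  · exfalso
    rcases himg y hyU hy1 with hgy | hgy | hgy
    · exact hzy (mul_left_cancel (mul_right_cancel (hgz.trans hgy.symm)))
    · refine hne (mem_centralizer_iff.2 fun u hu => (mul_inv_eq_iff_eq_mul.1 ?_).symm)
      rcases (h.mem_four hy hyA).1 hu with e | e | e | e <;> subst e
      · group
      · exact hgz
      · exact hgy
      · rw [hmul, hgz, hgy]
    · have h2 : g * (z * y) * g⁻¹ = y := by rw [hmul, hgz, hgy, ← mul_assoc, hzz, one_mul]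
      have h3' := hcube' y hyU
      rw [hgy, h2, hgy] at h3'
      exact hz1 (mul_right_cancel (h3'.trans (one_mul y).symm))
  · exact isConj_iff.2 ⟨g, hgz⟩
  · have hzyU : z * y ∈ U := U.mul_mem hzU hyU
    have hzy1 : z * y ≠ 1 := fun e => hzy ((eq_inv_of_mul_eq_one_left e).trans (h.inv_eq hy hyA))
    rcases himg _ hzyU hzy1 with h2 | h2 | h2
    · exfalso
      have h3' := hcube' z hzU
      rw [hgz, h2, hgz] at h3'
      exact hy1 (mul_left_cancel (h3'.trans (mul_one z).symm))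
    · exact isConj_iff.2 ⟨g * g, by
        calc g * g * z * (g * g)⁻¹ = g * (g * z * g⁻¹) * g⁻¹ := by group
          _ = y := by rw [hgz, h2]⟩
    · exact absurd (mul_left_cancel (mul_right_cancel (hgz.trans h2.symm))) (fun e => hy1 (by
        have := e.symm.trans (mul_one z).symm
        exact mul_left_cancel this))

end H68
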