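import Mathlib
import Cfsg.Agent.CompLayer
import Cfsg.Agent.H1.CoprimeAction2
import Cfsg.Agent.H6.Basic
import Cfsg.Agent.H68.CharP

/-! In a group of characteristic `p`, an element acting trivially on `O_p / Φ(O_p)` lies in `O_p`. -/

set_option autoImplicit false

namespace H68

open Cfsg

theorem mem_pCore_of_trivial_mod_frattini {X : Type*} [Group X] [Finite X] {p : ℕ} [Fact p.Prime]
    (hC : Subgroup.centralizer (pCore p X : Set X) ≤ pCore p X) {x : X}
    (hx : ∀ q ∈ pCore p X, x * q * x⁻¹ * q⁻¹ ∈ (frattini ↥(pCore p X)).map (pCore p X).subtype) :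
    x ∈ pCore p X := by
  set Q := pCore p X with hQdef
  set N := (frattini ↥Q).map Q.subtype with hN
  haveI hQn : Q.Normal := pCore_normal p X
  haveI hNn : N.Normal := inferInstance
  let K : Subgroup X :=
    { carrier := {y | ∀ q ∈ Q, y * q * y⁻¹ * q⁻¹ ∈ N}
      mul_mem' := by
        intro a b ha hb q hq
        have h1 := hb q hq
        have h2 := ha _ (hQn.conj_mem q hq b)
        have := N.mul_mem h2 h1
        simpa [mul_assoc] using this
      one_mem' := by intro q _; simp
      inv_mem' := by
        intro a ha q hq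
        have h1 := ha _ (hQn.conj_mem q hq a⁻¹)
        have := N.inv_mem h1
        simpa [mul_assoc] using this }
  have hKn : K.Normal := by
    refine ⟨fun y hy g q hq => ?_⟩
    have h1 := hNn.conj_mem _ (hy _ (hQn.conj_mem q hq g⁻¹)) g
    simpa [mul_assoc] using h1
  have hKp : IsPGroup p K := by
    intro k
    obtain ⟨e, m, hm, hem⟩ := Nat.exists_eq_pow_mul_and_not_dvd (orderOf_pos k).ne' p
      (Fact.out : p.Prime).ne_one
    refine ⟨e, ?_⟩
    set y := k ^ p ^ e with hy
    have hym : ¬ p ∣ orderOf (y : X) := by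
      rw [Subgroup.orderOf_coe]
      intro hd
      refine hm (hd.trans (orderOf_dvd_of_pow_eq_one ?_))
      rw [hy, ← pow_mul, ← hem, pow_orderOf_eq_one]
    have hcen : Subgroup.zpowers (y : X) ≤ Subgroup.centralizer (Q : Set X) := by
      refine H1.le_centralizer_of_frattini (fun a _ => ?_) ?_ ?_
      · rw [Subgroup.normalizer_eq_top]; trivial
      · obtain ⟨j, hj⟩ := ((Comp.pCore_isPGroup (G := X) p).to_subgroup (frattini ↥Q)).exists_card_eq
        rw [hj, Nat.card_zpowers]
        exact (Nat.Coprime.pow_right j ((Nat.Prime.coprime_iff_not_dvd Fact.out).mpr hym).symm)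
      · intro a ha q hq
        exact (Subgroup.zpowers_le (H := K)).mpr y.2 ha q hq
    have hyQ : (y : X) ∈ Q := hC (hcen (Subgroup.mem_zpowers _))
    obtain ⟨j, hj⟩ := IsPGroup.iff_orderOf.mp (Comp.pCore_isPGroup (G := X) p) ⟨_, hyQ⟩
    rw [Subgroup.orderOf_mk] at hj
    have h1 : orderOf (y : X) = 1 := by
      rcases j with _ | j
      · simpa using hj
      · exact absurd (hj ▸ dvd_pow_self p (by omega)) hym
    exact Subtype.ext (orderOf_eq_one_iff.mp h1)
  exact Comp.le_pCore hKn hKp (show x ∈ K from hx)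

end H68
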