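import Cfsg.Agent.CompPComp
import Cfsg.Agent.H71.PCompCrit
import Cfsg.Prelude.Def_Balance

/-! Under the B-property, a two-component of an involution centraliser becomes a component
modulo the odd core. -/

set_option autoImplicit false

namespace H68

open Cfsg Cfsg.Comp
open scoped commutatorElement

/-- A component normalising a subgroup of odd order centralises it, in a finite group in which
the component centralises the odd core. -/
theorem component_commute_odd {C : Type*} [Group C] [Finite C] {L E : Subgroup C}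
    (hL : IsComponent L) (hLO : ⁅L, oddCore C⁆ = ⊥) (hE : ¬ 2 ∣ Nat.card E)
    (hinv : L ≤ Subgroup.normalizer (E : Set C)) : ⁅L, E⁆ = ⊥ := by
  haveI : Fact (Nat.Prime 2) := ⟨Nat.prime_two⟩
  have hnot : ¬ L ≤ E := by
    intro hle
    have h2 : ¬ 2 ∣ Nat.card L := fun h => hE (h.trans (Subgroup.card_dvd_of_le hle))
    have hO : L ≤ oddCore C := le_pPrimeCore_of_subnormal hL.1 h2
    exact isComponent_not_le_centralizer hL fun a ha =>
      Subgroup.mem_centralizer_iff.mpr fun b hb =>
        commute_of_commutator_eq_bot hLO hb (hO ha)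
  by_cases hall : ∀ e ∈ E, L.map (MulAut.conj e).toMonoidHom = L
  · have hEL : E ≤ Subgroup.normalizer (L : Set C) := fun e he =>
      mem_normalizer_of_map_conj_eq (hall e he)
    have hle : ⁅L, E⁆ ≤ L ⊓ E :=
      le_inf (Subgroup.le_normalizer_iff_commutator_le_left.mp hEL)
        (Subgroup.le_normalizer_iff_commutator_le_right.mp hinv)
    have hn : ((L ⊓ E).subgroupOf L).Normal :=
      (Subgroup.normal_subgroupOf_iff_le_normalizer inf_le_left).mpr
        (inf_le_normalizer Subgroup.le_normalizer hinv)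
    rcases normal_eq_top_or_le_center hL.2 hn with h | h
    · rw [Subgroup.subgroupOf_eq_top] at h
      exact absurd (h.trans inf_le_right) hnot
    · refine le_centralizer_of_perfect (isComponent_perfect hL) fun u hu => ?_
      rw [Subgroup.mem_centralizer_iff]
      intro l hl
      have hc : (⟨u, (hle hu).1⟩ : L) ∈ Subgroup.center L := h (hle hu)
      exact congrArg Subtype.val (Subgroup.mem_center_iff.mp hc ⟨l, hl⟩)
  · push Not at hall
    obtain ⟨e, he, hne⟩ := hall
    have hcomm : ∀ u ∈ L, ∀ v ∈ L.map (MulAut.conj e).toMonoidHom, u * v = v * u :=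
      fun u hu v hv => commute_of_commutator_eq_bot
        ((component_eq_or_commute hL (isComponent_conj hL e)).resolve_left (Ne.symm hne)) hu hv
    exfalso
    apply hnot
    rw [← isComponent_perfect hL, Subgroup.commutator_le]
    intro k hk j hj
    have hconj : ∀ a ∈ L, ∀ b ∈ E, a * b * a⁻¹ ∈ E := fun a ha b hb =>
      conj_mem_of_le_normalizer hinv ha hb
    have hu : j * e * j⁻¹ * e⁻¹ ∈ E := mul_mem (hconj j hj e he) (inv_mem he)
    have hw : e * j⁻¹ * e⁻¹ ∈ L.map (MulAut.conj e).toMonoidHom :=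
      ⟨j⁻¹, inv_mem hj, rfl⟩
    have hkw := hcomm k hk _ hw
    have h1 : k * (j * e * j⁻¹ * e⁻¹) * k⁻¹ * (j * e * j⁻¹ * e⁻¹)⁻¹ ∈ E :=
      mul_mem (hconj k hk _ hu) (inv_mem hu)
    convert h1 using 1
    have hkw' : (e * j⁻¹ * e⁻¹) * k⁻¹ * (e * j⁻¹ * e⁻¹)⁻¹ = k⁻¹ := by
      have hc : Commute k (e * j⁻¹ * e⁻¹) := hkw
      rw [hc.symm.inv_right.eq, mul_inv_cancel_right]
    calc ⁅k, j⁆ = k * j * k⁻¹ * j⁻¹ := commutatorElement_def _ _
      _ = k * j * ((e * j⁻¹ * e⁻¹) * k⁻¹ * (e * j⁻¹ * e⁻¹)⁻¹) * j⁻¹ := by rw [hkw']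
      _ = k * (j * e * j⁻¹ * e⁻¹) * k⁻¹ * (j * e * j⁻¹ * e⁻¹)⁻¹ := by group

/-- The image modulo the odd core of a two-component of the centralizer of an involution. -/
theorem component_mod_core {Y : Type*} [Group Y] [Finite Y] (a : Y) (ha : orderOf a = 2)
    (hB : HasBProperty (Y ⧸ oddCore Y)) (J : Subgroup ↥(Subgroup.centralizer ({a} : Set Y)))
    (hJ : IsPComponent 2 J) :
    IsComponent (((J.map (Subgroup.centralizer ({a} : Set Y)).subtype).map
        (QuotientGroup.mk' (oddCore Y))).subgroupOf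
        (Subgroup.centralizer ({QuotientGroup.mk' (oddCore Y) a} : Set (Y ⧸ oddCore Y)))) ∧
      ∀ E : Subgroup Y, E ≤ Subgroup.centralizer ({a} : Set Y) → Odd (Nat.card E) →
        (∀ j ∈ J.map (Subgroup.centralizer ({a} : Set Y)).subtype, ∀ e ∈ E, j * e * j⁻¹ ∈ E) →
          ⁅J.map (Subgroup.centralizer ({a} : Set Y)).subtype, E⁆ ≤ oddCore Y := by
  haveI : Fact (Nat.Prime 2) := ⟨Nat.prime_two⟩
  have hodd : ¬ 2 ∣ Nat.card (oddCore Y) := not_dvd_card_pPrimeCore 2
  let π := QuotientGroup.mk' (oddCore Y)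
  have hπ : ∀ u, π u = 1 ↔ u ∈ oddCore Y := fun u => QuotientGroup.eq_one_iff u
  have hta : orderOf (π a) = 2 := by
    refine orderOf_eq_prime ((map_pow π a 2).symm.trans (by rw [show a ^ 2 = 1 from ha ▸ pow_orderOf_eq_one a, map_one])) fun h => ?_
    have hd := Subgroup.orderOf_dvd_natCard _ ((hπ a).1 h)
    rw [ha] at hd
    exact hodd hd
  have hcomm : ∀ u ∈ Subgroup.centralizer ({a} : Set Y),
      π u ∈ Subgroup.centralizer ({π a} : Set (Y ⧸ oddCore Y)) := fun u hu => by
    rw [Subgroup.mem_centralizer_singleton_iff] at hu ⊢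
    rw [← map_mul, ← map_mul, hu]
  let φ : ↥(Subgroup.centralizer ({a} : Set Y)) →*
      ↥(Subgroup.centralizer ({π a} : Set (Y ⧸ oddCore Y))) :=
    (π.comp (Subgroup.centralizer ({a} : Set Y)).subtype).codRestrict _ fun u => hcomm u u.2
  have hφ : Function.Surjective φ := by
    rintro ⟨w, hw⟩
    obtain ⟨u, rfl⟩ := QuotientGroup.mk'_surjective (oddCore Y) w
    rw [Subgroup.mem_centralizer_singleton_iff] at hw
    have hA : IsPGroup 2 (Subgroup.zpowers a) :=
      IsPGroup.of_card (n := 1) (by rw [Nat.card_zpowers, ha, pow_one])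
    obtain ⟨d, hd, hdu⟩ := exists_mul_mem_centralizer hA
      (le_normalizer_of_normal) hodd u (by
        intro b hb
        obtain ⟨n, rfl⟩ := Subgroup.mem_zpowers_iff.1 hb
        rw [← hπ]
        have hc : Commute (π a) (π u) := hw.symm
        simp only [map_mul, map_inv, map_zpow]
        rw [(hc.zpow_left n).eq]
        group)
    refine ⟨⟨d * u, ?_⟩, Subtype.ext ?_⟩
    · rw [Subgroup.mem_centralizer_singleton_iff]
      exact (Subgroup.mem_centralizer_iff.1 hdu a (Subgroup.mem_zpowers a)).symm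
    · show π (d * u) = π u
      rw [map_mul, (hπ d).2 hd, one_mul]
  obtain ⟨hJs, hJg⟩ := H71.isPComponent_iff.1 hJ
  have hne : (J.map φ) ≠ ⊥ := by
    intro h
    rw [Subgroup.map_eq_bot_iff] at h
    have hk : φ.ker ≤ oddCore ↥(Subgroup.centralizer ({a} : Set Y)) := by
      refine le_pPrimeCore_of_subnormal (inferInstance : φ.ker.Normal).isSubnormal ?_
      have hle : φ.ker.map (Subgroup.centralizer ({a} : Set Y)).subtype ≤ oddCore Y := by
        rintro _ ⟨u, hu, rfl⟩
        exact (hπ _).1 (congrArg Subtype.val hu)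
      rw [← card_map_subtype φ.ker]
      exact fun h2 => hodd (h2.trans (Subgroup.card_dvd_of_le hle))
    exact isComponent_ne_bot hJ.2.1
      ((Subgroup.map_eq_bot_iff _).2 (by rw [QuotientGroup.ker_mk']; exact h.trans hk))
  haveI : Nontrivial (J.map φ) := (Subgroup.nontrivial_iff_ne_bot _).2 hne
  have hK : IsPComponent 2 (J.map φ) := H71.isPComponent_iff.2
    ⟨hJs.map hφ, hJg.of_surjective (φ.subgroupMap J) (φ.subgroupMap_surjective J)⟩
  have hKO : ⁅J.map φ, oddCore ↥(Subgroup.centralizer ({π a} : Set (Y ⧸ oddCore Y)))⁆ = ⊥ := by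
    have h1 := (hB (π a) hta).trans_eq (pPrimeCore_quotient_eq_bot (G := Y) (p := 2))
    rw [le_bot_iff, Subgroup.map_eq_bot_iff_of_injective _ Subtype.coe_injective] at h1
    exact le_bot_iff.1 ((Subgroup.commutator_mono (le_sSup hK) le_rfl).trans_eq h1)
  have hcomp : IsComponent (J.map φ) := by
    refine ⟨hK.1, (isPComponent_quasisimple_iff hK).2 (le_bot_iff.1
      ((Subgroup.commutator_mono le_rfl ?_).trans_eq hKO))⟩
    exact pPrimeCore_map_subtype_le 2 hK.1
  have hmap : (J.map φ).map (Subgroup.centralizer ({π a} : Set (Y ⧸ oddCore Y))).subtype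
      = (J.map (Subgroup.centralizer ({a} : Set Y)).subtype).map π := by
    rw [Subgroup.map_map, Subgroup.map_map]
    rfl
  refine ⟨?_, fun E hE hEo hinv => ?_⟩
  · rw [← hmap, Subgroup.subgroupOf,
      Subgroup.comap_map_eq_self_of_injective Subtype.coe_injective]
    exact hcomp
  · have hEd : ¬ 2 ∣ Nat.card ((E.subgroupOf (Subgroup.centralizer ({a} : Set Y))).map φ) := by
      intro h
      have h' := h.trans (Subgroup.card_map_dvd _ φ)
      rw [card_subgroupOf hE] at h'
      exact (Nat.not_even_iff_odd.2 hEo) (even_iff_two_dvd.2 h')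
    have hinv' : J.map φ ≤ Subgroup.normalizer
        (((E.subgroupOf (Subgroup.centralizer ({a} : Set Y))).map φ :
          Subgroup ↥(Subgroup.centralizer ({π a} : Set (Y ⧸ oddCore Y)))) : Set _) := by
      refine le_trans (Subgroup.map_mono ?_) (Subgroup.le_normalizer_map φ)
      intro j hj
      rw [Subgroup.mem_normalizer_iff]
      intro e
      simp only [SetLike.mem_coe, Subgroup.mem_subgroupOf, Subgroup.coe_mul, Subgroup.coe_inv]
      constructor
      · intro he
        exact hinv _ (Subgroup.mem_map_of_mem _ hj) _ he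
      · intro he
        have := hinv _ (Subgroup.mem_map_of_mem _ (inv_mem hj)) _ he
        simpa [mul_assoc] using this
    have h := component_commute_odd hcomp hKO hEd hinv'
    rw [← Subgroup.map_commutator, Subgroup.map_eq_bot_iff] at h
    rw [Subgroup.commutator_le]
    intro j hj e he
    obtain ⟨j', hj', rfl⟩ := hj
    have hmem := h (Subgroup.commutator_mem_commutator hj'
      (show (⟨e, hE he⟩ : ↥(Subgroup.centralizer ({a} : Set Y))) ∈ E.subgroupOf _ from he))
    exact (hπ _).1 (congrArg Subtype.val hmem)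

end H68
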