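import Mathlib

/-! The involution of a cyclic group is unique. -/

set_option autoImplicit false

namespace H68

theorem involution_unique_of_isCyclic {A : Type*} [Group A] [IsCyclic A] [Finite A] {x y : A}
    (hx : orderOf x = 2) (hy : orderOf y = 2) : x = y := by
  classical
  haveI := Fintype.ofFinite A
  have hd : 2 ∣ Fintype.card A := hx ▸ orderOf_dvd_card
  have h1 : (Finset.univ.filter fun a : A => orderOf a = 2).card = 1 := by
    rw [IsCyclic.card_orderOf_eq_totient hd, Nat.totient_two]
  exact Finset.card_le_one.mp h1.le x (by simp [hx]) y (by simp [hy])

end H68
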