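import Cfsg.Agent.H68.DihedralFusion

/-!
Classes of four-groups for dihedral Sylow `2`-subgroups.
-/

set_option autoImplicit false

namespace H68

open Subgroup H65 H70

variable {G : Type*} [Group G]

namespace Dih

variable {S : Subgroup G} {c : G} (h : Dih S c)
include h

theorem conj_not_mem {s y : G} (hs : s ∈ S) (_hy : y ∈ S) (hyA : y ∉ zpowers c) :
    s * y * s⁻¹ ∉ zpowers c := by
  intro hh
  obtain ⟨i, hi⟩ := mem_zpowers_iff.1 hh
  have hy' : y = s⁻¹ * c ^ i * s := by rw [hi]; group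
  refine hyA (hy'.symm ▸ ?_)
  by_cases hsA : s ∈ zpowers c
  · exact mul_mem (mul_mem (inv_mem hsA) (zpow_mem (mem_zpowers c) _)) hsA
  · have h1 := h.conj_zpow' (S.inv_mem hs) (fun e => hsA ((inv_mem_iff (H := zpowers c)).1 e)) i
    rw [inv_inv] at h1
    rw [h1]
    exact zpow_mem (mem_zpowers c) _

theorem cj_four [Finite G] {s y y' : G} (hs : s ∈ S) (hy : y ∈ S) (hyA : y ∉ zpowers c)
    (hy' : y' ∈ S) (hyA' : y' ∉ zpowers c) (he : s * y * s⁻¹ = y') :
    cj s (h.four hy hyA) = h.four hy' hyA' := by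
  refine Subgroup.eq_of_le_of_card_ge ?_ ?_
  · have hz : s * dz c * s⁻¹ = dz c := mul_inv_eq_iff_eq_mul.2 (h.dz_comm hs)
    rintro _ ⟨u, hu, rfl⟩
    show s * u * s⁻¹ ∈ h.four hy' hyA'
    rw [h.mem_four]
    rcases (h.mem_four hy hyA).1 hu with rfl | rfl | rfl | rfl
    · left; group
    · right; left; exact hz
    · right; right; left; exact he
    · right; right; right
      rw [← he]
      calc s * (dz c * y) * s⁻¹ = (s * dz c * s⁻¹) * (s * y * s⁻¹) := by group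
        _ = _ := by rw [hz]
  · rw [card_cj, (h.isKleinFour_four hy hyA).card_four, (h.isKleinFour_four hy' hyA').card_four]

theorem conj_mul_self_mem {s y : G} (hs : s ∈ S) (hy : y ∈ S) (hyA : y ∉ zpowers c) :
    s * y * s⁻¹ * y ∈ zpowers (c ^ (2 : ℤ)) := by
  have hyy : y * y = 1 := h.invol y hy hyA
  by_cases hsA : s ∈ zpowers c
  · obtain ⟨i, rfl⟩ := mem_zpowers_iff.1 hsA
    refine mem_zpowers_iff.2 ⟨i, ?_⟩
    have h1 := h.zpow_mul_comm' hy hyA (-i)
    rw [neg_neg] at h1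
    symm
    calc c ^ i * y * (c ^ i)⁻¹ * y = c ^ i * (y * c ^ (-i)) * y := by rw [← zpow_neg]; group
      _ = c ^ i * (c ^ i * y) * y := by rw [h1]
      _ = c ^ i * c ^ i * (y * y) := by group
      _ = (c ^ (2 : ℤ)) ^ i := by rw [hyy, mul_one, ← zpow_add, ← zpow_mul, two_mul]
  · obtain ⟨i, hi⟩ := mem_zpowers_iff.1 (h.idx y hy s hs hyA hsA)
    refine mem_zpowers_iff.2 ⟨-i, ?_⟩
    have hs' : s = y * c ^ i := by rw [hi, ← mul_assoc, hyy, one_mul]
    have h1 := h.zpow_mul_comm' hy hyA i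
    symm
    calc s * y * s⁻¹ * y = y * c ^ i * y * c ^ (-i) := by
          rw [hs', mul_inv_rev, h.inv_eq hy hyA, zpow_neg]
          simp only [mul_assoc, hyy, mul_one]
      _ = c ^ (-i) * (y * y) * c ^ (-i) := by rw [h1]; group
      _ = (c ^ (2 : ℤ)) ^ (-i) := by rw [hyy, mul_one, ← zpow_add, ← zpow_mul, two_mul]

theorem not_mem_sq : c ∉ zpowers (c ^ (2 : ℤ)) := by
  intro hh
  obtain ⟨i, hi⟩ := mem_zpowers_iff.1 hh
  have h1 : c ^ (2 * i - 1) = 1 := by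
    rw [zpow_sub, zpow_mul, hi, zpow_one, mul_inv_cancel]
  have h2 : (2 : ℤ) ∣ 2 * i - 1 :=
    (Int.natCast_dvd_natCast.2 h.two_dvd).trans (orderOf_dvd_iff_zpow_eq_one.2 h1)
  omega

end Dih

/-- In the centraliser of the central involution, fusion in `S` is controlled by `S`. -/
theorem exists_mem_conj_eq [Finite G] (S : Sylow 2 G) {m : ℕ}
    (eS : (S : Subgroup G) ≃* DihedralGroup m) {c : G} (h : Dih (S : Subgroup G) c) {g : G}
    (hg : g * dz c * g⁻¹ = dz c) :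
    ∃ s ∈ (S : Subgroup G), ∀ a ∈ (S : Subgroup G), g * a * g⁻¹ ∈ (S : Subgroup G) →
      s * a * s⁻¹ = g * a * g⁻¹ := by
  haveI : Fact (Nat.Prime 2) := ⟨Nat.prime_two⟩
  set C := centralizer ({dz c} : Set G) with hC
  have hSC : (S : Subgroup G) ≤ C := fun s hs =>
    mem_centralizer_singleton_iff.2 (h.dz_comm hs)
  have hgC : g ∈ C := mem_centralizer_singleton_iff.2 (mul_inv_eq_iff_eq_mul.1 hg)
  obtain ⟨N, hN, hNodd, k, hNk⟩ :=
    exists_complement_of_dihedral S m eS (t := dz c) h.dz_two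
  set T := (S : Subgroup G).subgroupOf C with hT
  have htop : N ⊔ T = ⊤ := by
    rw [← index_eq_one]
    have h1 : (N ⊔ T).index ∣ 2 ^ k := hNk ▸ index_dvd_of_le le_sup_left
    have h2 : (N ⊔ T).index ∣ (S : Subgroup G).index :=
      (index_dvd_of_le le_sup_right).trans (relIndex_dvd_index_of_le hSC)
    refine Nat.eq_one_of_dvd_coprimes ?_ h1 h2
    exact ((Nat.prime_two.coprime_iff_not_dvd).2 S.not_dvd_index).pow_left k
  obtain ⟨n, hn, s, hs, hgs⟩ : ∃ n ∈ N, ∃ s ∈ T, n * s = (⟨g, hgC⟩ : C) :=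
    mem_sup_of_normal_left.1 (htop ▸ mem_top _)
  have hgs' : (n : G) * (s : G) = g := congrArg Subtype.val hgs
  have hsS : (s : G) ∈ (S : Subgroup G) := hs
  refine ⟨s, hsS, fun a ha hga => ?_⟩
  have hdiff : ((⟨g * a * g⁻¹, hSC hga⟩ : C) * (s * ⟨a, hSC ha⟩ * s⁻¹)⁻¹) ∈ N := by
    have := N.mul_mem hn (hN.conj_mem n⁻¹ (N.inv_mem hn) (s * ⟨a, hSC ha⟩ * s⁻¹))
    convert this using 1
    apply Subtype.ext
    show g * a * g⁻¹ * (s * a * (s : G)⁻¹)⁻¹
      = n * (s * a * (s : G)⁻¹ * (n : G)⁻¹ * (s * a * (s : G)⁻¹)⁻¹)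
    rw [← hgs']
    group
  have hdiffT : ((⟨g * a * g⁻¹, hSC hga⟩ : C) * (s * ⟨a, hSC ha⟩ * s⁻¹)⁻¹) ∈ T :=
    T.mul_mem hga (T.inv_mem (T.mul_mem (T.mul_mem hs ha) (T.inv_mem hs)))
  have hco : Nat.Coprime (Nat.card N) (Nat.card T) := by
    obtain ⟨e, he⟩ := (S.2.of_equiv (subgroupOfEquivOfLe hSC).symm).exists_card_eq
    rw [hT, he]
    exact (Nat.coprime_two_right.2 hNodd).pow_right e
  have h3 := (disjoint_def.1 (disjoint_iff.2 (inf_eq_bot_of_coprime hco))) hdiff hdiffT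
  exact (mul_inv_eq_one.1 (congrArg Subtype.val h3)).symm

/-- Four-groups from different classes of reflections are not conjugate. -/
theorem four_not_conj [Finite G] (S : Sylow 2 G) {m : ℕ}
    (eS : (S : Subgroup G) ≃* DihedralGroup m) {c : G} (h : Dih (S : Subgroup G) c)
    (h4 : 4 ∣ orderOf c) {y : G} (hy : y ∈ (S : Subgroup G)) (hyA : y ∉ zpowers c)
    (hy' : y * c ∈ (S : Subgroup G)) (hyA' : y * c ∉ zpowers c) (g : G) :
    cj g (h.four hy hyA) ≠ h.four hy' hyA' := by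
  intro hg
  set U₁ := h.four hy hyA with hU₁
  set U₂ := h.four hy' hyA' with hU₂
  set z := dz c with hz
  have hzz : z * z = 1 := mul_self_of_two h.dz_two
  obtain ⟨q, hq⟩ := h4
  set d := c ^ (q : ℤ) with hd
  have hdd : d * d = z := by
    rw [hd, hz, dz, ← zpow_natCast c (orderOf c / 2), ← zpow_add]
    congr 1
    omega
  have hdS : d ∈ (S : Subgroup G) := h.pow_mem _
  have hdz : z ∈ zpowers (c ^ (2 : ℤ)) := mem_zpowers_iff.2 ⟨(q : ℤ), by
    rw [← hdd, hd, ← zpow_add, ← zpow_mul, two_mul]⟩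
  have hmove : ∀ u ∈ (S : Subgroup G), u ∉ zpowers c → d * u * d⁻¹ = z * u := by
    intro u hu huA
    have h1 := h.zpow_mul_comm' hu huA (-(q : ℤ))
    rw [neg_neg, zpow_neg] at h1
    rw [mul_assoc, h1, ← mul_assoc, hdd]
  have hdN : ∀ {u : G} (hu : u ∈ (S : Subgroup G)) (huA : u ∉ zpowers c),
      cj d (h.four hu huA) = h.four hu huA := by
    intro u hu huA
    refine eq_of_cj_le ?_
    rintro _ ⟨v, hv, rfl⟩
    show d * v * d⁻¹ ∈ h.four hu huA
    by_cases hvA : v ∈ zpowers c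
    · have : d * v * d⁻¹ = v := by
        obtain ⟨i, rfl⟩ := mem_zpowers_iff.1 hvA
        rw [hd]; group
      rw [this]; exact hv
    · rw [hmove v (h.four_le hu huA hv) hvA]
      exact mul_mem ((h.mem_four hu huA).2 (Or.inr (Or.inl rfl))) hv
  have hin : ∀ v ∈ U₁, g * v * g⁻¹ ∈ U₂ := fun v hv => hg ▸ (⟨v, hv, rfl⟩ : g * v * g⁻¹ ∈ cj g U₁)
  have hzU₁ : z ∈ U₁ := (h.mem_four hy hyA).2 (Or.inr (Or.inl rfl))
  have hU₂A : ∀ v ∈ U₂, v ≠ 1 → v ≠ z → v ∉ zpowers c := by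
    intro v hv hv1 hvz hvA
    exact hvz (h.dz_unique (two_iff.2 ⟨klein_sub_mul_self (h.isKleinFour_four hy' hyA') hv, hv1⟩) hvA)
  have hU₁A : ∀ v ∈ U₁, v ≠ 1 → v ≠ z → v ∉ zpowers c := by
    intro v hv hv1 hvz hvA
    exact hvz (h.dz_unique (two_iff.2 ⟨klein_sub_mul_self (h.isKleinFour_four hy hyA) hv, hv1⟩) hvA)
  obtain ⟨g', hg', hgz⟩ : ∃ g', cj g' U₁ = U₂ ∧ g' * z * g'⁻¹ = z := by
    by_cases hcase : g * z * g⁻¹ = z
    · exact ⟨g, hg, hcase⟩
    set z' := g * z * g⁻¹ with hz'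
    have hz'1 : z' ≠ 1 := fun e => ne_one_of_two h.dz_two (conj_eq_one_iff.1 e)
    have hz'U : z' ∈ U₂ := hin z hzU₁
    refine ⟨g * d * g⁻¹ * d * g, ?_, ?_⟩
    · have e0 : cj d U₂ = U₂ := hdN hy' hyA'
      have e3 : cj d U₁ = U₁ := hdN hy hyA
      rw [← cj_cj, hg, ← cj_cj, e0, ← hg, cj_cj,
        show g * d * g⁻¹ * g = g * d by group, ← cj_cj, e3]
    · have hzU₂ : z ∈ U₂ := (h.mem_four hy' hyA').2 (Or.inr (Or.inl rfl))
      have e1 : d * z' * d⁻¹ = z * z' :=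
        hmove z' (h.four_le _ _ hz'U) (hU₂A z' hz'U hz'1 hcase)
      have hwU : g⁻¹ * (z * z') * g ∈ U₁ :=
        mem_cj.1 (hg.symm ▸ U₂.mul_mem hzU₂ hz'U)
      have e2 : d * (g⁻¹ * (z * z') * g) * d⁻¹ = z * (g⁻¹ * (z * z') * g) := by
        refine hmove _ (h.four_le _ _ hwU) (hU₁A _ hwU ?_ ?_)
        · intro e
          have e' : z * z' = 1 := by
            calc z * z' = g * (g⁻¹ * (z * z') * g) * g⁻¹ := by group
              _ = 1 := by rw [e]; group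
          exact hcase (((inv_eq_of_mul_eq_one_right e').symm).trans (inv_of_two h.dz_two))
        · intro e
          have e' : z * z' = z' := by
            calc z * z' = g * (g⁻¹ * (z * z') * g) * g⁻¹ := by group
              _ = z' := by rw [e]
          exact ne_one_of_two h.dz_two (mul_right_cancel (e'.trans (one_mul z').symm))
      calc g * d * g⁻¹ * d * g * z * (g * d * g⁻¹ * d * g)⁻¹
          = g * (d * (g⁻¹ * (d * z' * d⁻¹) * g) * d⁻¹) * g⁻¹ := by rw [hz']; group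
        _ = z' * (z * z') := by rw [e1, e2, hz']; group
        _ = z := by
          have hk : z * z' = z' * z := klein_sub_comm (h.isKleinFour_four hy' hyA') hzU₂ hz'U
          rw [hk, ← mul_assoc, klein_sub_mul_self (h.isKleinFour_four hy' hyA') hz'U, one_mul]
  obtain ⟨s, hs, hsconj⟩ := exists_mem_conj_eq S eS h hgz
  have hyU : y ∈ U₁ := (h.mem_four hy hyA).2 (Or.inr (Or.inr (Or.inl rfl)))
  have hyim : g' * y * g'⁻¹ ∈ U₂ := hg' ▸ (⟨y, hyU, rfl⟩ : g' * y * g'⁻¹ ∈ cj g' U₁)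
  rw [← hsconj y hy (h.four_le _ _ hyim)] at hyim
  have hnA := h.conj_not_mem hs hy hyA
  have hmem := h.conj_mul_self_mem hs hy hyA
  have hyc : y * c * y = c⁻¹ := by
    have := h.conj_zpow' hy hyA 1
    rwa [zpow_one, h.inv_eq hy hyA, zpow_neg, zpow_one] at this
  rcases (h.mem_four hy' hyA').1 hyim with e | e | e | e
  · exact hnA (e.symm ▸ one_mem _)
  · exact hnA (e.symm ▸ h.dz_mem_zpowers)
  · rw [e, hyc, inv_mem_iff] at hmem
    exact h.not_mem_sq hmem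
  · rw [e, mul_assoc, hyc] at hmem
    exact h.not_mem_sq (inv_mem_iff.1 (((zpowers (c ^ (2 : ℤ))).mul_mem_cancel_left hdz).1 hmem))

/-- Every four-group of `S` is `S`-conjugate to one of two standard ones. -/
theorem four_classes [Finite G] {S : Subgroup G} {c : G} (h : Dih S c) {y : G} (hy : y ∈ S)
    (hyA : y ∉ zpowers c) (hy' : y * c ∈ S) (hyA' : y * c ∉ zpowers c) {U : Subgroup G}
    (hU : IsKleinFour U) (hUS : U ≤ S) :
    (∃ s : G, cj s U = h.four hy hyA) ∨ (∃ s : G, cj s U = h.four hy' hyA') := by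
  obtain ⟨x, hx, hxA, rfl⟩ := h.klein_eq hU hUS
  obtain ⟨i, hi⟩ := mem_zpowers_iff.1 (h.idx y hy x hx hyA hxA)
  have hx' : x = y * c ^ i := by rw [hi, ← mul_assoc, h.invol y hy hyA, one_mul]
  have key : ∀ j : ℤ, c ^ j * x * (c ^ j)⁻¹ = y * c ^ (i - 2 * j) := fun j => by
    have h1 := h.zpow_mul_comm' hy hyA (-j)
    rw [neg_neg] at h1
    rw [hx', ← mul_assoc, ← h1, ← zpow_neg, mul_assoc, mul_assoc, ← zpow_add, ← zpow_add]
    congr 2
    ring
  rcases Int.even_or_odd i with ⟨j, hj⟩ | ⟨j, hj⟩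
  · left
    refine ⟨c ^ j, h.cj_four (h.pow_mem j) hx hxA hy hyA ?_⟩
    rw [key, show i - 2 * j = 0 by omega, zpow_zero, mul_one]
  · right
    refine ⟨c ^ j, h.cj_four (h.pow_mem j) hx hxA hy' hyA' ?_⟩
    rw [key, show i - 2 * j = 1 by omega, zpow_one]

end H68
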