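import Mathlib
import Cfsg.Prelude.Def_Transfer

/-! Elementary abelian 2-subgroups: extension by an element and fixed points of involutions. -/

set_option autoImplicit false

namespace H68

variable {G : Type*} [Group G]

theorem elemAb_of_le {A B : Subgroup G} (hA : Cfsg.IsElementaryAbelian 2 A) (h : B ≤ A) :
    Cfsg.IsElementaryAbelian 2 B := by
  haveI := hA.1
  exact ⟨⟨⟨fun a b => Subtype.ext (congrArg Subtype.val (mul_comm' (⟨a, h a.2⟩ : A) ⟨b, h b.2⟩) :)⟩⟩,
    fun a ha => hA.2 a (h ha)⟩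

theorem elemAb_commute {A : Subgroup G} (hA : Cfsg.IsElementaryAbelian 2 A) {a b : G}
    (ha : a ∈ A) (hb : b ∈ A) : a * b = b * a := by
  haveI := hA.1
  exact congrArg Subtype.val (mul_comm' (⟨a, ha⟩ : A) ⟨b, hb⟩)

/-- Adjoining a commuting element of order at most 2. -/
theorem elemAb_sup_zpowers {V : Subgroup G} (hV : Cfsg.IsElementaryAbelian 2 V) {e : G}
    (he2 : e ^ 2 = 1) (hc : ∀ v ∈ V, v * e = e * v) :
    Cfsg.IsElementaryAbelian 2 (V ⊔ Subgroup.zpowers e) := by
  have hcomm : IsMulCommutative (V ⊔ Subgroup.zpowers e : Subgroup G) := by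
    rw [Subgroup.zpowers_eq_closure, ← Subgroup.closure_eq V, ← Subgroup.closure_union]
    refine Subgroup.isMulCommutative_closure ?_
    rintro x (hx | hx) y (hy | hy)
    · exact elemAb_commute hV hx hy
    · rw [Set.mem_singleton_iff.mp hy]; exact hc x hx
    · rw [Set.mem_singleton_iff.mp hx]; exact (hc y hy).symm
    · rw [Set.mem_singleton_iff.mp hx, Set.mem_singleton_iff.mp hy]
  refine ⟨hcomm, ?_⟩
  intro a ha
  haveI := hcomm
  let q : (V ⊔ Subgroup.zpowers e : Subgroup G) →* (V ⊔ Subgroup.zpowers e : Subgroup G) :=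
    { toFun := fun x => x ^ 2
      map_one' := one_pow 2
      map_mul' := fun x y => (Commute.mul_pow (mul_comm' x y) 2) }
  have hle : V ⊔ Subgroup.zpowers e ≤ q.ker.map (V ⊔ Subgroup.zpowers e).subtype := by
    refine sup_le ?_ (Subgroup.zpowers_le.mpr ?_)
    · intro v hv
      exact ⟨⟨v, Subgroup.mem_sup_left hv⟩, Subtype.ext (hV.2 v hv), rfl⟩
    · exact ⟨⟨e, Subgroup.mem_sup_right (Subgroup.mem_zpowers e)⟩, Subtype.ext he2, rfl⟩
  obtain ⟨b, hb, rfl⟩ := hle ha
  exact congrArg Subtype.val (MonoidHom.mem_ker.mp hb)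

/-- Adjoining such an element outside `V` doubles the order. -/
theorem card_sup_zpowers [Finite G] {V : Subgroup G} {e : G} (he : e ∉ V) (he2 : e ^ 2 = 1)
    (hc : ∀ v ∈ V, v * e = e * v) :
    Nat.card (V ⊔ Subgroup.zpowers e : Subgroup G) = 2 * Nat.card V := by
  haveI : Fact (Nat.Prime 2) := ⟨Nat.prime_two⟩
  have he1 : e ≠ 1 := fun h => he (h ▸ V.one_mem)
  have hord : orderOf e = 2 := orderOf_eq_prime he2 he1
  have hn : V ≤ Subgroup.normalizer (Subgroup.zpowers e : Set G) := fun v hv => by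
    refine Subgroup.centralizer_le_normalizer _ ?_
    rw [Subgroup.mem_centralizer_iff]
    intro w hw
    obtain ⟨n, rfl⟩ := Subgroup.mem_zpowers_iff.mp hw
    exact ((show Commute v e from hc v hv).zpow_right n).symm.eq
  have hle : Nat.card (V ⊔ Subgroup.zpowers e : Subgroup G) ≤ Nat.card V * 2 := by
    rw [← hord, ← Nat.card_zpowers e, ← SetLike.coe_sort_coe,
      Subgroup.coe_mul_of_left_le_normalizer_right V (Subgroup.zpowers e) hn, Nat.card_coe_set_eq]
    exact Set.natCard_mul_le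
  obtain ⟨k, hk⟩ := Subgroup.card_dvd_of_le (le_sup_left : V ≤ V ⊔ Subgroup.zpowers e)
  have hpos := Nat.card_pos (α := (V ⊔ Subgroup.zpowers e : Subgroup G))
  have hk2 : 2 ≤ k := by
    by_contra h
    interval_cases k
    · omega
    · rw [mul_one] at hk
      have heq := Subgroup.eq_of_le_of_card_ge (le_sup_left : V ≤ V ⊔ Subgroup.zpowers e) hk.le
      exact he (heq ▸ Subgroup.mem_sup_right (Subgroup.mem_zpowers e))
  rw [hk] at hle ⊢
  have := Nat.le_of_mul_le_mul_left hle Nat.card_pos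
  rw [show k = 2 by omega, mul_comm]

/-- An involution normalizing an elementary abelian 2-group `D` fixes at least `√|D|` of it. -/
theorem card_le_sq_fixed [Finite G] {D : Subgroup G} (hD : Cfsg.IsElementaryAbelian 2 D) {x : G}
    (hx : x ^ 2 = 1) (hn : x ∈ Subgroup.normalizer (D : Set G)) :
    Nat.card D ≤ Nat.card (D ⊓ Subgroup.centralizer ({x} : Set G) : Subgroup G) ^ 2 := by
  set C := D ⊓ Subgroup.centralizer ({x} : Set G) with hC
  have hmem : ∀ d ∈ D, x * d * x⁻¹ ∈ D := fun d hd => (Subgroup.mem_normalizer_iff.mp hn d).mp hd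
  have hxx : x * x = 1 := by rw [← pow_two, hx]
  let φ : D →* D :=
    { toFun := fun d => ⟨d * (x * d * x⁻¹), D.mul_mem d.2 (hmem d d.2)⟩
      map_one' := by ext; simp
      map_mul' := fun a b => by
        ext
        have h := elemAb_commute hD (hmem a a.2) b.2
        simp only [Subgroup.coe_mul]
        calc (a : G) * b * (x * (a * b) * x⁻¹)
            = a * (b * (x * a * x⁻¹)) * (x * b * x⁻¹) := by group
          _ = a * (x * a * x⁻¹ * b) * (x * b * x⁻¹) := by rw [h]
          _ = _ := by group }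
  have hker : φ.ker ≤ C.subgroupOf D := by
    intro d hd
    have h : (d : G) * (x * d * x⁻¹) = 1 := congrArg Subtype.val hd
    have hd2 : (d : G)⁻¹ = d := inv_eq_of_mul_eq_one_right (by rw [← pow_two]; exact hD.2 d d.2)
    rw [mul_eq_one_iff_inv_eq, hd2] at h
    refine Subgroup.mem_inf.mpr ⟨d.2, Subgroup.mem_centralizer_singleton_iff.mpr ?_⟩
    show (d : G) * x = x * d
    nth_rewrite 1 [h]
    group
  have hran : φ.range ≤ C.subgroupOf D := by
    rintro _ ⟨d, rfl⟩
    refine Subgroup.mem_inf.mpr ⟨(φ d).2, Subgroup.mem_centralizer_singleton_iff.mpr ?_⟩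
    show (d : G) * (x * d * x⁻¹) * x = x * (d * (x * d * x⁻¹))
    have hxi : x⁻¹ = x := inv_eq_of_mul_eq_one_right hxx
    calc (d : G) * (x * d * x⁻¹) * x = x * d * x⁻¹ * d * x := by
          rw [elemAb_commute hD d.2 (hmem d d.2)]
      _ = x * (d * (x⁻¹ * d * x)) := by group
      _ = x * (d * (x * d * x⁻¹)) := by rw [hxi]
  have h1 := Subgroup.card_le_of_le hker
  have h2 := Subgroup.card_le_of_le hran
  have h3 : Nat.card (C.subgroupOf D) = Nat.card C :=
    Nat.card_congr (Subgroup.subgroupOfEquivOfLe inf_le_left).toEquiv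
  rw [← φ.ker.index_mul_card, Subgroup.index_ker, pow_two]
  rw [h3] at h1 h2
  exact Nat.mul_le_mul h2 h1

end H68
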