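import Cfsg.Agent.H68.ExtraComm

/-! An involution acting on an extraspecial `2`-subgroup: `[α, Q] = Z(Q₀)`. -/

set_option autoImplicit false

namespace H68

open scoped commutatorElement
open Subgroup

variable {G : Type*} [Group G]

theorem closure_comm_eq_center [Finite G] (Q : Subgroup G) (hQ : Cfsg.IsExtraspecial 2 Q) (z : G)
    (hzQ : z ∈ Q) (hz : orderOf z = 2) (hzc : ∀ q ∈ Q, q * z = z * q) (α : G) (hα : α * α = 1)
    (hαz : α * z = z * α) (hαN : ∀ q ∈ Q, α * q * α⁻¹ ∈ Q)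
    (hαQ : α ∉ Q ⊔ centralizer (Q : Set G))
    (Q₀ : Subgroup G) (hQ₀ : ∀ q, q ∈ Q₀ ↔ (q ∈ Q ∧ α * q * α⁻¹ * q⁻¹ ∈ zpowers z)) :
    closure ((fun q : G => α * q * α⁻¹ * q⁻¹) '' (Q : Set G)) = (center Q₀).map Q₀.subtype := by
  haveI : Fact (Nat.Prime 2) := ⟨Nat.prime_two⟩
  have hzz : z * z = 1 := by rw [← sq, ← hz]; exact pow_orderOf_eq_one z
  have hz1 : z ≠ 1 := fun h => by rw [h, orderOf_one] at hz; omega
  -- the centre of `Q` is `⟨z⟩`
  have hZ : ∀ q : Q, q ∈ center Q ↔ (q : G) ∈ zpowers z := by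
    have hle : zpowers (⟨z, hzQ⟩ : Q) ≤ center Q := by
      rw [zpowers_le, mem_center_iff]
      exact fun g => Subtype.ext (hzc g g.2)
    have heq : center Q = zpowers (⟨z, hzQ⟩ : Q) :=
      (eq_of_le_of_card_ge hle (by rw [hQ.2, Nat.card_zpowers, Subgroup.orderOf_mk, hz])).symm
    intro q
    rw [heq, mem_zpowers_iff, mem_zpowers_iff]
    constructor
    · rintro ⟨k, rfl⟩; exact ⟨k, by simp⟩
    · rintro ⟨k, hk⟩; exact ⟨k, Subtype.ext (by simpa using hk)⟩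
  have hzmem : ∀ w ∈ zpowers z, w = 1 ∨ w = z := by
    intro w hw
    obtain ⟨k, rfl⟩ := mem_zpowers_iff.1 hw
    rcases Int.even_or_odd k with ⟨r, rfl⟩ | ⟨r, rfl⟩
    · left; rw [← two_mul, zpow_mul, zpow_two, hzz, one_zpow]
    · right; rw [zpow_add, zpow_mul, zpow_two, hzz, one_zpow, one_mul, zpow_one]
  have hfZ : ∀ u ∈ Q, ∀ v ∈ Q, ⁅u, v⁆ ∈ zpowers z := by
    intro u hu v hv
    exact (hZ ⁅⟨u, hu⟩, ⟨v, hv⟩⁆).1 (H6.extraspecial_commutator_mem_center hQ _ _)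
  have hcentral : ∀ w ∈ zpowers z, ∀ q ∈ Q, Commute w q := by
    intro w hw q hq
    rcases hzmem w hw with h | h <;> subst h
    · exact Commute.one_left q
    · exact (hzc q hq).symm
  have hfsym : ∀ u ∈ Q, ∀ v ∈ Q, ⁅v, u⁆ = ⁅u, v⁆ := by
    intro u hu v hv
    rw [← commutatorElement_inv u v]
    rcases hzmem _ (hfZ u hu v hv) with h | h <;> rw [h]
    · exact inv_one
    · exact inv_eq_of_mul_eq_one_right hzz
  have hfmul : ∀ u ∈ Q, ∀ w ∈ Q, ∀ v ∈ Q, ⁅u * w, v⁆ = ⁅w, v⁆ * ⁅u, v⁆ := by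
    intro u hu w hw v hv
    calc ⁅u * w, v⁆ = (u * ⁅w, v⁆) * v * u⁻¹ * v⁻¹ := by
          simp only [commutatorElement_def]; group
      _ = (⁅w, v⁆ * u) * v * u⁻¹ * v⁻¹ := by
          rw [(hcentral _ (hfZ w hw v hv) u hu).eq]
      _ = ⁅w, v⁆ * ⁅u, v⁆ := by simp only [commutatorElement_def]; group
  have hfinv : ∀ u ∈ Q, ∀ v ∈ Q, ⁅u⁻¹, v⁆ = ⁅u, v⁆ := by
    intro u hu v hv
    have h := hfmul u hu u⁻¹ (Q.inv_mem hu) v hv
    rw [mul_inv_cancel, commutatorElement_one_left] at h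
    rw [eq_inv_of_mul_eq_one_left h.symm, commutatorElement_inv, hfsym u hu v hv]
  have hαinv : α⁻¹ = α := inv_eq_of_mul_eq_one_right hα
  have hααi : ∀ g : G, α * (α * g * α⁻¹) * α⁻¹ = g := by
    intro g
    calc α * (α * g * α⁻¹) * α⁻¹ = (α * α) * g * (α * α)⁻¹ := by group
      _ = g := by rw [hα]; group
  have hconjf : ∀ u ∈ Q, ∀ v ∈ Q, ⁅α * u * α⁻¹, α * v * α⁻¹⁆ = ⁅u, v⁆ := by
    intro u hu v hv
    have e : ⁅α * u * α⁻¹, α * v * α⁻¹⁆ = α * ⁅u, v⁆ * α⁻¹ := by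
      simp only [commutatorElement_def]; group
    rw [e]
    rcases hzmem _ (hfZ u hu v hv) with h | h <;> rw [h]
    · group
    · exact mul_inv_eq_iff_eq_mul.2 hαz
  set c : G → G := fun q => α * q * α⁻¹ * q⁻¹ with hc
  have hcQ : ∀ q ∈ Q, c q ∈ Q := fun q hq => Q.mul_mem (hαN q hq) (Q.inv_mem hq)
  -- the adjointness
  have hadj : ∀ u ∈ Q, ∀ v ∈ Q, ⁅c u, v⁆ = ⁅u, c v⁆ := by
    intro u hu v hv
    rw [← hfsym u hu (c v) (hcQ v hv)]
    show ⁅α * u * α⁻¹ * u⁻¹, v⁆ = ⁅α * v * α⁻¹ * v⁻¹, u⁆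
    rw [hfmul _ (hαN u hu) _ (Q.inv_mem hu) _ hv, hfmul _ (hαN v hv) _ (Q.inv_mem hv) _ hu,
      hfinv u hu v hv, hfinv v hv u hu, hfsym u hu v hv]
    have h1 := hconjf (α * u * α⁻¹) (hαN u hu) v hv
    rw [hααi] at h1
    rw [← hfsym _ (hαN v hv) u hu] at *
    rw [← h1]
  set D := closure (c '' (Q : Set G)) with hD
  have hDQ : D ≤ Q := (closure_le Q).2 (by rintro _ ⟨q, hq, rfl⟩; exact hcQ q hq)
  have hcD : ∀ q ∈ Q, c q ∈ D := fun q hq => subset_closure ⟨q, hq, rfl⟩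
  have hDnorm : ∀ v ∈ Q, ∀ q ∈ Q, v * c q * v⁻¹ ∈ D := by
    intro v hv q hq
    have e : v * c q * v⁻¹ = (c v)⁻¹ * c (v * q) := by simp only [hc]; group
    rw [e]
    exact D.mul_mem (D.inv_mem (hcD v hv)) (hcD _ (Q.mul_mem hv hq))
  -- `z ∈ D`
  have hzD : z ∈ D := by
    obtain ⟨q, hq, v, hv, hne⟩ : ∃ q ∈ Q, ∃ v ∈ Q, ⁅v, c q⁆ ≠ 1 := by
      by_contra hall
      push Not at hall
      refine hαQ (mem_sup_centralizer_of_comm Q hQ α fun q hq => ⟨hcQ q hq, ?_⟩)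
      refine mem_centralizer_iff.2 fun v hv => ?_
      exact (commutatorElement_eq_one_iff_commute.1 (hall q hq v hv)).eq
    have h1 : ⁅v, c q⁆ ∈ D := by
      rw [commutatorElement_def]
      exact D.mul_mem (hDnorm v hv q hq) (D.inv_mem (hcD q hq))
    exact ((hzmem _ (hfZ v hv _ (hcQ q hq))).resolve_left hne) ▸ h1
  -- `Q₀ = C_Q(D)`
  have hQ₀C : ∀ q ∈ Q₀, ∀ d ∈ D, Commute q d := by
    intro q hq d hd
    obtain ⟨hqQ, hcq⟩ := (hQ₀ q).1 hq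
    induction hd using closure_induction with
    | mem x hx =>
      obtain ⟨v, hv, rfl⟩ := hx
      refine commutatorElement_eq_one_iff_commute.1 ?_
      rw [← hadj q hqQ v hv]
      exact commutatorElement_eq_one_iff_commute.2 (hcentral _ hcq v hv)
    | one => exact Commute.one_right q
    | mul x y _ _ hx hy => exact hx.mul_right hy
    | inv x _ hx => exact hx.inv_right
  have hCQ₀ : ∀ q ∈ Q, (∀ d ∈ D, Commute q d) → q ∈ Q₀ := by
    intro q hq hd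
    refine (hQ₀ q).2 ⟨hq, (hZ ⟨c q, hcQ q hq⟩).1 (mem_center_iff.2 fun v => Subtype.ext ?_)⟩
    have h1 : ⁅c q, (v : G)⁆ = 1 := by
      rw [hadj q hq v v.2]
      exact commutatorElement_eq_one_iff_commute.2 (hd _ (hcD v v.2))
    exact (commutatorElement_eq_one_iff_commute.1 h1).eq.symm
  have hsq : ∀ q ∈ Q, q * q ∈ zpowers z := by
    intro q hq
    have := (hZ (⟨q, hq⟩ ^ 2)).1 (H6.extraspecial_pow_mem_center hQ _)
    simpa [sq] using this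
  have hDQ₀ : D ≤ Q₀ := by
    refine (closure_le Q₀).2 ?_
    rintro _ ⟨q, hq, rfl⟩
    refine (hQ₀ _).2 ⟨hcQ q hq, ?_⟩
    have e : α * c q * α⁻¹ = (c q)⁻¹ := by
      calc α * c q * α⁻¹ = (α * (α * q * α⁻¹) * α⁻¹) * (α * q * α⁻¹)⁻¹ := by
            simp only [hc]; group
        _ = (c q)⁻¹ := by rw [hααi]; simp only [hc]; group
    show α * c q * α⁻¹ * (c q)⁻¹ ∈ zpowers z
    rw [e, ← mul_inv_rev]
    exact inv_mem (hsq _ (hcQ q hq))
  apply le_antisymm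
  · intro d hd
    refine ⟨⟨d, hDQ₀ hd⟩, mem_center_iff.2 fun q => Subtype.ext ?_, rfl⟩
    exact (hQ₀C q q.2 d hd).eq
  · rintro _ ⟨x, hx, rfl⟩
    by_contra hxD
    have hxQ : (x : G) ∈ Q := ((hQ₀ x).1 x.2).1
    have hle : center Q ≤ D.subgroupOf Q := by
      intro q hq
      rw [mem_subgroupOf]
      rcases hzmem _ ((hZ q).1 hq) with h | h <;> rw [h]
      · exact one_mem D
      · exact hzD
    obtain ⟨e, he1, he2⟩ := exists_separating hQ (D.subgroupOf Q) hle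
      (x := ⟨x, hxQ⟩) (by rw [mem_subgroupOf]; exact hxD)
    have heQ₀ : (e : G) ∈ Q₀ := hCQ₀ e e.2 fun d hd =>
      congrArg Subtype.val (he1 ⟨d, hDQ hd⟩ (mem_subgroupOf.2 hd)).eq
    exact he2 (Subtype.ext (show (e : G) * (x : G) = (x : G) * (e : G) from
      congrArg Subtype.val (mem_center_iff.1 hx ⟨(e : G), heQ₀⟩)))

end H68
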