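import Mathlib
import Cfsg.Prelude.Def_Local
import Cfsg.Agent.H68.Iso

/-! Normality of the layer and of the generalized Fitting subgroup. -/

set_option autoImplicit false

namespace H68

theorem map_isSubnormal_equiv {A : Type*} [Group A] {B : Type*} [Group B] (e : A ≃* B) {K : Subgroup A}
    (h : K.IsSubnormal) : (K.map e.toMonoidHom).IsSubnormal :=
  h.map e.surjective

theorem normal_of_map_conj_le {G : Type*} [Group G] (N : Subgroup G)
    (h : ∀ g : G, N.map (MulAut.conj g).toMonoidHom ≤ N) : N.Normal :=
  ⟨fun n hn g => h g ⟨n, hn, rfl⟩⟩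

theorem fittingSubgroup_normal' (G : Type*) [Group G] : (Cfsg.fittingSubgroup G).Normal :=
  Subgroup.sSup_normal _ (fun _ h => h.1)

theorem isComponent_map {A : Type*} [Group A] {B : Type*} [Group B] (e : A ≃* B) {K : Subgroup A}
    (h : Cfsg.IsComponent K) : Cfsg.IsComponent (K.map e.toMonoidHom) :=
  ⟨map_isSubnormal_equiv e h.1, isQuasisimple_of_equiv (e.subgroupMap K) h.2⟩

theorem layer_normal (G : Type*) [Group G] : (Cfsg.layer G).Normal := by
  refine normal_of_map_conj_le _ fun g => ?_
  rw [Cfsg.layer, sSup_eq_iSup, Subgroup.map_iSup]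
  refine iSup_le fun K => ?_
  rw [Subgroup.map_iSup]
  exact iSup_le fun hK => le_iSup₂_of_le _ (isComponent_map (MulAut.conj g) hK) le_rfl

theorem gfs_normal (G : Type*) [Group G] : (Cfsg.generalizedFittingSubgroup G).Normal := by
  haveI := layer_normal G
  haveI := fittingSubgroup_normal' G
  exact Subgroup.sup_normal _ _

theorem fittingSubgroup_le_gfs (G : Type*) [Group G] :
    Cfsg.fittingSubgroup G ≤ Cfsg.generalizedFittingSubgroup G := le_sup_right

theorem layer_le_gfs (G : Type*) [Group G] :
    Cfsg.layer G ≤ Cfsg.generalizedFittingSubgroup G := le_sup_left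

/-- A central element lies in the generalized Fitting subgroup. -/
theorem mem_gfs_of_mem_center {G : Type*} [Group G] {z : G} (hz : z ∈ Subgroup.center G) :
    z ∈ Cfsg.generalizedFittingSubgroup G :=
  fittingSubgroup_le_gfs G (le_sSup (show Subgroup.center G ∈
    {N : Subgroup G | N.Normal ∧ Group.IsNilpotent N} from
    ⟨inferInstance, @CommGroup.isNilpotent _ ({ (inferInstance : Group ↥(Subgroup.center G)) with mul_comm := mul_comm' })⟩) hz)

end H68
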