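import Mathlib
import Cfsg.Agent.H31.RankBound

/-!
Anisotropic quadratic maps with equal fibres from an elementary abelian `2`-group of rank `2n`
onto one of rank `n`: an elementary abelian group of isometries whose fixed points form a totally
singular subspace of rank `n` has order at most `2`.
-/

set_option autoImplicit false

namespace H68.IQ

/-- One step of `1 + w` at a time one reaches an element moved only into `B`. -/
theorem exists_settled {U : Type*} [CommGroup U] (hU : ∀ x : U, x ^ 2 = 1)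
    (W : Subgroup (MulAut U)) [Finite W] (hW2 : ∀ w ∈ W, w * w = 1) (A B : Subgroup U)
    (hA : ∀ w ∈ W, ∀ x ∈ A, w x ∈ A) (hB : ∀ w ∈ W, ∀ x ∈ B, w x ∈ B) {x₀ : U} (hx : x₀ ∈ A)
    (hxB : x₀ ∉ B) : ∃ x ∈ A, x ∉ B ∧ ∀ w ∈ W, x * w x ∈ B := by
  classical
  haveI := Fintype.ofFinite W
  suffices h : ∀ s : Finset W, ∃ x ∈ A, x ∉ B ∧ ∀ w ∈ s, x * (w : MulAut U) x ∈ B by
    obtain ⟨x, h1, h2, h3⟩ := h Finset.univ
    exact ⟨x, h1, h2, fun w hw => h3 ⟨w, hw⟩ (Finset.mem_univ _)⟩
  intro s
  induction s using Finset.induction with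
  | empty => exact ⟨x₀, hx, hxB, fun w hw => absurd hw (Finset.notMem_empty w)⟩
  | @insert w s hws ih =>
    obtain ⟨x, hxA, hxB, hxs⟩ := ih
    by_cases h : x * (w : MulAut U) x ∈ B
    · exact ⟨x, hxA, hxB, fun u hu => (Finset.mem_insert.mp hu).elim (fun e => e ▸ h) (hxs u)⟩
    have hsq : ∀ u : MulAut U, u ∈ W → u (u x) = x := fun u hu => by
      rw [← MulAut.mul_apply, hW2 u hu, MulAut.one_apply]
    refine ⟨x * (w : MulAut U) x, mul_mem hxA (hA _ w.2 _ hxA), h, fun u hu => ?_⟩
    rcases Finset.mem_insert.mp hu with rfl | hu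
    · rw [map_mul, hsq _ u.2, mul_comm ((u : MulAut U) x) x, ← pow_two, hU]
      exact B.one_mem
    · have hc : (u : MulAut U) ((w : MulAut U) x) = (w : MulAut U) ((u : MulAut U) x) := by
        have hinv : ∀ v ∈ W, v⁻¹ = v := fun v hv => inv_eq_of_mul_eq_one_left (hW2 v hv)
        have : (u : MulAut U) * w = w * u := by
          calc (u : MulAut U) * w = ((u : MulAut U) * w)⁻¹ := (hinv _ (mul_mem u.2 w.2)).symm
            _ = w * u := by rw [mul_inv_rev, hinv _ w.2, hinv _ u.2]
        exact DFunLike.congr_fun this x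
      have h1 := hxs u hu
      have h2 := mul_mem h1 (hB _ w.2 _ h1)
      rw [map_mul] at h2
      rw [map_mul, hc]
      convert h2 using 1
      simp only [mul_assoc, mul_left_comm]

/-- A fibre with an odd number of points contains a point fixed by all of `W`. -/
theorem exists_fixed_in_fibre {U V : Type*} [CommGroup U] [Finite U] (q : U → V)
    (W : Subgroup (MulAut U)) (hW : IsPGroup 2 W) (hinv : ∀ w ∈ W, ∀ x, q (w x) = q x)
    (v : V) (hodd : Odd (Nat.card {x : U // q x = v})) :
    ∃ x : U, q x = v ∧ ∀ w ∈ W, w x = x := by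
  letI : MulAction W {x : U // q x = v} :=
    { smul := fun w x => ⟨(w : MulAut U) x, (hinv _ w.2 _).trans x.2⟩
      one_smul := fun x => Subtype.ext rfl
      mul_smul := fun a b x => Subtype.ext rfl }
  haveI : Fact (Nat.Prime 2) := ⟨Nat.prime_two⟩
  obtain ⟨x, hx⟩ := hW.nonempty_fixed_point_of_prime_not_dvd_card {x : U // q x = v}
    (Nat.two_dvd_ne_zero.mpr (Nat.odd_iff.mp hodd))
  exact ⟨x, x.2, fun w hw => congrArg Subtype.val (hx ⟨w, hw⟩)⟩

/-- A set invariant under translation by a subgroup has cardinality divisible by its order. -/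
theorem card_dvd_of_invariant {U : Type*} [CommGroup U] [Finite U] (H : Subgroup U) (P : U → Prop)
    (hP : ∀ h ∈ H, ∀ x, P x → P (x * h)) : Nat.card H ∣ Nat.card {x : U // P x} := by
  classical
  have hiff : ∀ x y : U, x⁻¹ * y ∈ H → (P x ↔ P y) := by
    intro x y h
    constructor
    · intro hx
      simpa using hP _ h _ hx
    · intro hy
      simpa using hP _ (inv_mem h) _ hy
  let P' : U ⧸ H → Prop := Quotient.lift P fun x y h =>
    propext (hiff x y (QuotientGroup.leftRel_apply.mp h))
  have e : {x : U // P x} ≃ H × {c : U ⧸ H // P' c} :=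
    { toFun := fun x => (⟨(Quotient.out (x.1 : U ⧸ H))⁻¹ * x.1, by
          rw [← QuotientGroup.eq]; exact QuotientGroup.out_eq' _⟩, ⟨(x.1 : U ⧸ H), x.2⟩)
      invFun := fun p => ⟨Quotient.out p.2.1 * p.1, by
        refine (hiff (Quotient.out p.2.1) _ ?_).mp ?_
        · rw [inv_mul_cancel_left]; exact p.1.2
        · have h := p.2.2
          rw [← QuotientGroup.out_eq' p.2.1] at h
          exact h⟩
      left_inv := fun x => Subtype.ext (mul_inv_cancel_left _ _)
      right_inv := fun p => by
        have h : ((Quotient.out p.2.1 * (p.1 : U) : U) : U ⧸ H) = p.2.1 := by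
          rw [QuotientGroup.mk_mul_of_mem _ p.1.2]; exact QuotientGroup.out_eq' _
        refine Prod.ext (Subtype.ext ?_) (Subtype.ext h)
        simp only [h, inv_mul_cancel_left] }
  rw [Nat.card_congr e, Nat.card_prod]
  exact dvd_mul_right _ _

/-- A homomorphism takes values outside a subgroup of index two never, or half of the time. -/
theorem card_compl {U V : Type*} [Group U] [Finite U] [Group V] {M : Subgroup V} (hM : M.index = 2)
    (g : U →* V) :
    Nat.card {x : U // g x ∉ M} = 0 ∨ 2 * Nat.card {x : U // g x ∉ M} = Nat.card U := by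
  by_cases h : ∀ x, g x ∈ M
  · left
    haveI : IsEmpty {x : U // g x ∉ M} := ⟨fun x => x.2 (h x.1)⟩
    exact Nat.card_of_isEmpty
  · right
    push Not at h
    obtain ⟨x₁, hx₁⟩ := h
    have hflip : ∀ x : U, g (x * x₁) ∈ M ↔ g x ∉ M := by
      intro x
      rw [map_mul, Subgroup.mul_mem_iff_of_index_two hM]
      tauto
    have e : {x : U // g x ∉ M} ≃ {x : U // ¬ g x ∉ M} :=
      { toFun := fun x => ⟨x.1 * x₁, not_not_intro ((hflip x.1).mpr x.2)⟩
        invFun := fun x => ⟨x.1 * x₁⁻¹, by
          have := hflip (x.1 * x₁⁻¹)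
          rw [inv_mul_cancel_right] at this
          exact this.mp (not_not.mp x.2)⟩
        left_inv := fun x => Subtype.ext (mul_inv_cancel_right _ _)
        right_inv := fun x => Subtype.ext (inv_mul_cancel_right _ _) }
    classical
    rw [two_mul]
    nth_rw 2 [Nat.card_congr e]
    rw [← Nat.card_sum, Nat.card_congr (Equiv.sumCompl _)]

/-- The main lemma. -/
theorem card_le_two {U V : Type*} [CommGroup U] [CommGroup V] [Finite U] [Finite V]
    (hU : ∀ x : U, x ^ 2 = 1) (hV : ∀ v : V, v ^ 2 = 1) {n : ℕ} (hn : 2 ≤ n)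
    (hcV : Nat.card V = 2 ^ n) (hcU : Nat.card U = 2 ^ (2 * n)) (q : U → V) (β : U → U →* V)
    (hq : ∀ x y, q (x * y) = q x * q y * β x y) (hq0 : ∀ x, q x = 1 ↔ x = 1)
    (hfib : ∀ v : V, v ≠ 1 → Nat.card {x : U // q x = v} = 2 ^ n + 1)
    (W : Subgroup (MulAut U)) (hinv : ∀ w ∈ W, ∀ x, q (w x) = q x)
    (U0 : Subgroup U) (hU0 : ∀ x, x ∈ U0 ↔ ∀ w ∈ W, w x = x) (hcU0 : Nat.card U0 = 2 ^ n)
    (hiso : ∀ u ∈ U0, ∀ u' ∈ U0, β u u' = 1) (himg : ∀ w ∈ W, ∀ x, x * w x ∈ U0) :
    Nat.card W ≤ 2 := by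
  classical
  haveI := Fintype.ofFinite U
  haveI := Fintype.ofFinite V
  have hsym : ∀ a b : U, β a b = β b a := fun a b => by
    have h1 := hq a b
    rw [mul_comm a b, hq b a, mul_comm (q b) (q a)] at h1
    exact (mul_left_cancel h1).symm
  have hbl : ∀ a b c : U, β (a * b) c = β a c * β b c := fun a b c => by
    rw [hsym (a * b) c, map_mul, hsym c a, hsym c b]
  have hinvU : ∀ x : U, x * x = 1 := fun x => by rw [← pow_two, hU]
  have hinvV : ∀ x : V, x * x = 1 := fun x => by rw [← pow_two, hV]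
  have hVeq : ∀ a b : V, a * b = 1 → a = b := fun a b h => by
    calc a = a * (b * b) := by rw [hinvV, mul_one]
      _ = b := by rw [← mul_assoc, h, one_mul]
  -- every nonzero functional on `V` separates the translates of `U0`
  have key : ∀ M : Subgroup V, M.index = 2 → ∀ z : U, (∀ u ∈ U0, β z u ∈ M) → z ∈ U0 := by
    intro M hM z hz
    by_contra hzU
    let Sol : U → Prop := fun x => ∀ u ∈ U0, β x u * q u ∈ M
    let H : Subgroup U := U0 ⊔ Subgroup.zpowers z
    have hH : ∀ h ∈ H, ∀ u ∈ U0, β h u ∈ M := by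
      intro h hh u hu
      obtain ⟨a, ha, b, ⟨k, rfl⟩, rfl⟩ := Subgroup.mem_sup.mp hh
      rw [hbl]
      refine mul_mem (by rw [hiso a ha u hu]; exact M.one_mem) ?_
      rw [hsym, map_zpow, hsym]
      exact M.zpow_mem (hz u hu) k
    have hSolH : ∀ h ∈ H, ∀ x, Sol x → Sol (x * h) := by
      intro h hh x hx u hu
      rw [hbl, mul_comm (β x u), mul_assoc]
      exact mul_mem (hH h hh u hu) (hx u hu)
    have hcH : 2 ^ (n + 1) ∣ Nat.card H := by
      haveI : Fact (Nat.Prime 2) := ⟨Nat.prime_two⟩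
      have hp : IsPGroup 2 H := fun x => ⟨1, Subtype.ext (by simpa using hU x)⟩
      obtain ⟨k, hk⟩ := IsPGroup.iff_card.mp hp
      rw [hk]
      refine pow_dvd_pow 2 ?_
      have hlt : U0 < H := lt_of_le_of_ne le_sup_left fun e => hzU <| by
        rw [e]; exact Subgroup.mem_sup_right (Subgroup.mem_zpowers z)
      have h1 : Nat.card U0 < Nat.card H := Set.Finite.card_lt_card (Set.toFinite _) hlt
      rw [hcU0, hk] at h1
      exact (Nat.pow_lt_pow_iff_right (by norm_num)).mp h1
    obtain ⟨c, hc⟩ : (2 ^ (n + 1)) ∣ Nat.card {x : U // Sol x} :=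
      hcH.trans (card_dvd_of_invariant H Sol hSolH)
    obtain ⟨a, ha⟩ : (2 ^ n) ∣ Nat.card {x : U // Sol x ∧ q x ∉ M} := by
      rw [← hcU0]
      refine card_dvd_of_invariant U0 _ fun h hh x hx => ⟨hSolH h (Subgroup.mem_sup_left hh) x hx.1, ?_⟩
      rw [hq, mul_assoc, mul_comm (q h)]
      exact fun hm => hx.2 ((M.mul_mem_cancel_right (hx.1 h hh)).mp hm)
    -- count the pairs `(x, u)` with `q (x * u) ∉ M`
    have hN : Nat.card {x : U // q x ∉ M} = 2 ^ (n - 1) * (2 ^ n + 1) := by
      have e : {x : U // q x ∉ M} ≃ Σ v : {v : V // v ∉ M}, {x : U // q x = v.1} :=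
        { toFun := fun x => ⟨⟨q x.1, x.2⟩, ⟨x.1, rfl⟩⟩
          invFun := fun p => ⟨p.2.1, by rw [p.2.2]; exact p.1.2⟩
          left_inv := fun x => rfl
          right_inv := fun p => Sigma.subtype_ext (Subtype.ext p.2.2) rfl }
      rw [Nat.card_congr e, Nat.card_sigma, Finset.sum_congr rfl
        (fun v _ => hfib v.1 fun h1 => v.2 (h1 ▸ M.one_mem)), Finset.sum_const, Finset.card_univ,
        smul_eq_mul, ← Nat.card_eq_fintype_card]
      congr 1
      have h1 : Nat.card M * 2 = 2 ^ n := by rw [← hcV, ← M.card_mul_index, hM]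
      have h3 : Nat.card {v : V // v ∉ M} = 2 ^ n - Nat.card M := by
        rw [Nat.card_eq_fintype_card, Fintype.card_subtype_compl, ← Nat.card_eq_fintype_card,
          ← Nat.card_eq_fintype_card, hcV]
      have h4 : 2 ^ n = 2 ^ (n - 1) * 2 := by rw [← pow_succ, Nat.sub_add_cancel (by omega)]
      rw [h3]
      omega
    have hrow : ∀ x : U, Nat.card {u : U0 // q (x * u) ∉ M} =
        if Sol x then (if q x ∉ M then 2 ^ n else 0) else 2 ^ (n - 1) := by
      intro x
      have hqm : ∀ u ∈ U0, (q (x * u) ∈ M ↔ (q x ∈ M ↔ β x u * q u ∈ M)) := fun u hu => by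
        rw [hq, mul_assoc, mul_comm (q u), Subgroup.mul_mem_iff_of_index_two hM]
      by_cases hs : Sol x
      · rw [if_pos hs]
        by_cases hx : q x ∈ M
        · rw [if_neg (not_not_intro hx)]
          haveI : IsEmpty {u : U0 // q (x * u) ∉ M} :=
            ⟨fun u => u.2 ((hqm _ u.1.2).mpr (iff_of_true hx (hs _ u.1.2)))⟩
          exact Nat.card_of_isEmpty
        · rw [if_pos hx, ← hcU0]
          exact Nat.card_congr (Equiv.subtypeUnivEquiv fun u hm =>
            hx (((hqm _ u.2).mp hm).mpr (hs _ u.2)))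
      · rw [if_neg hs]
        have hs' : ∃ u ∈ U0, β x u * q u ∉ M := by
          by_contra hcon
          push Not at hcon
          exact hs hcon
        obtain ⟨u₁, hu₁, hu₁M⟩ := hs'
        have hflip : ∀ u : U0, q (x * ((u : U) * u₁)) ∈ M ↔ q (x * u) ∉ M := by
          intro u
          rw [hqm _ (mul_mem u.2 hu₁), hqm _ u.2,
            show β x ((u : U) * u₁) * q ((u : U) * u₁) = (β x u * q u) * (β x u₁ * q u₁) by
              rw [map_mul, hq, hiso _ u.2 _ hu₁, mul_one]; ac_rfl,
            Subgroup.mul_mem_iff_of_index_two hM]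
          tauto
        have e : {u : U0 // q (x * u) ∉ M} ≃ {u : U0 // ¬ q (x * u) ∉ M} :=
          { toFun := fun u => ⟨u.1 * ⟨u₁, hu₁⟩, not_not_intro ((hflip u.1).mpr u.2)⟩
            invFun := fun u => ⟨u.1 * ⟨u₁, hu₁⟩, fun h => ((hflip u.1).mp h) (not_not.mp u.2)⟩
            left_inv := fun u => Subtype.ext (Subtype.ext (by simp [mul_assoc, hinvU]))
            right_inv := fun u => Subtype.ext (Subtype.ext (by simp [mul_assoc, hinvU])) }
        have h2 : Nat.card {u : U0 // q (x * u) ∉ M} + Nat.card {u : U0 // ¬ q (x * u) ∉ M} =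
            2 ^ n := by
          rw [← Nat.card_sum, Nat.card_congr (Equiv.sumCompl _), hcU0]
        rw [← Nat.card_congr e] at h2
        have h4 : 2 ^ n = 2 ^ (n - 1) * 2 := by rw [← pow_succ, Nat.sub_add_cancel (by omega)]
        omega
    have htot : Nat.card (Σ x : U, {u : U0 // q (x * u) ∉ M}) =
        2 ^ n * Nat.card {x : U // q x ∉ M} := by
      rw [← hcU0, ← Nat.card_prod]
      exact Nat.card_congr
        { toFun := fun p => (p.2.1, ⟨p.1 * p.2.1, p.2.2⟩)
          invFun := fun p => ⟨p.2.1 * p.1, ⟨p.1, by rw [mul_assoc, hinvU, mul_one]; exact p.2.2⟩⟩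
          left_inv := fun ⟨x, u, hu⟩ => by
            refine Sigma.subtype_ext ?_ rfl
            show x * u * u = x
            rw [mul_assoc, hinvU, mul_one]
          right_inv := fun ⟨u, x, hx⟩ => Prod.ext rfl (Subtype.ext (by
            show x * u * u = x
            rw [mul_assoc, hinvU, mul_one])) }
    rw [Nat.card_sigma, Finset.sum_congr rfl (fun x _ => hrow x), hN] at htot
    rw [Finset.sum_ite, Finset.sum_ite, Finset.sum_const_zero, add_zero, Finset.sum_const,
      Finset.sum_const, smul_eq_mul, smul_eq_mul, Finset.filter_filter] at htot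
    have hc1 : (Finset.univ.filter fun x : U => Sol x ∧ q x ∉ M).card = 2 ^ n * a := by
      rw [← ha, Nat.card_eq_fintype_card, Fintype.card_subtype]
    have hc2 : (Finset.univ.filter fun x : U => ¬ Sol x).card + 2 ^ (n + 1) * c = 2 ^ (2 * n) := by
      rw [← hc, ← hcU, Nat.card_eq_fintype_card, Fintype.card_subtype, Nat.card_eq_fintype_card,
        add_comm, Finset.card_filter_add_card_filter_not]
      exact Finset.card_univ
    rw [hc1] at htot
    set d := (Finset.univ.filter fun x : U => ¬ Sol x).card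
    obtain ⟨m, rfl⟩ : ∃ m, n = m + 1 := ⟨n - 1, by omega⟩
    rw [Nat.add_sub_cancel] at htot
    set P := 2 ^ m with hPdef
    have e1 : 2 ^ (m + 1) = 2 * P := by rw [hPdef, pow_succ, mul_comm]
    have e2 : 2 ^ (m + 1 + 1) = 4 * P := by rw [pow_succ, e1]; ring
    have e3 : 2 ^ (2 * (m + 1)) = 4 * (P * P) := by
      rw [hPdef, mul_add, mul_one, pow_add, two_mul, pow_add]
      ring
    rw [e1] at htot
    rw [e2, e3] at hc2
    have hP0 : 0 < P := Nat.pos_of_ne_zero (by simp [hPdef])
    have h5 : 4 * P * a + d = 2 * P * (2 * P + 1) := by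
      apply Nat.eq_of_mul_eq_mul_left hP0
      linarith [htot]
    have h6 : 2 * (2 * a) = 4 * c + 2 := by
      apply Nat.eq_of_mul_eq_mul_left hP0
      linarith [h5, hc2]
    omega
  -- injectivity of the pairing
  have hnd : ∀ u ∈ U0, u ≠ 1 → ∀ z : U, β z u = 1 → z ∈ U0 := by
    intro u hu hu1 z hz
    by_contra hzU
    set g : U →* V := β u
    have hker : ¬ Nat.card g.range = 2 ^ n := by
      intro hr
      have h1 : U0 ⊔ Subgroup.zpowers z ≤ g.ker := sup_le
        (fun a ha => MonoidHom.mem_ker.mpr (hiso u hu a ha))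
        (Subgroup.zpowers_le.mpr (MonoidHom.mem_ker.mpr ((hsym u z).trans hz)))
      have h2 := g.ker.card_mul_index
      rw [Subgroup.index_ker, hr, hcU, two_mul, pow_add] at h2
      have h3 : Nat.card g.ker = 2 ^ n := Nat.eq_of_mul_eq_mul_right (by positivity) h2
      have h4 : U0 = g.ker := Subgroup.eq_of_le_of_card_ge (le_sup_left.trans h1)
        (by rw [h3, hcU0])
      exact hzU (h4 ▸ h1 (Subgroup.mem_sup_right (Subgroup.mem_zpowers z)))
    obtain ⟨v₀, hv₀⟩ : ∃ v₀ : V, v₀ ∉ g.range := by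
      by_contra hcon
      push Not at hcon
      exact hker (by rw [(eq_top_iff.mpr fun v _ => hcon v : g.range = ⊤), Subgroup.card_top, hcV])
    obtain ⟨M, hM1, -, hM2⟩ := H31.RankBound.exists_index_two hV g.range hv₀
    -- count the pairs `(z, a)` with `β z a ∉ M` in two ways
    have htwo : Nat.card (Σ z : U, {a : U0 // β z a ∉ M}) =
        Nat.card (Σ a : U0, {z : U // β a z ∉ M}) := Nat.card_congr
      { toFun := fun p => ⟨p.2.1, p.1, by rw [hsym]; exact p.2.2⟩
        invFun := fun p => ⟨p.2.1, p.1, by rw [hsym]; exact p.2.2⟩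
        left_inv := fun _ => rfl
        right_inv := fun _ => rfl }
    rw [Nat.card_sigma, Nat.card_sigma] at htwo
    have hle : ∀ a : U0, 2 * Nat.card {z : U // β a z ∉ M} ≤
        if (a = 1 ∨ a = ⟨u, hu⟩) then 0 else 2 ^ (2 * n) := by
      intro a
      split_ifs with h
      · haveI : IsEmpty {z : U // β a z ∉ M} := ⟨fun z => z.2 <| by
          rcases h with rfl | rfl
          · show β ((1 : U0) : U) z.1 ∈ M
            rw [hsym]; simp
          · exact hM1 ⟨_, rfl⟩⟩
        simp
      · rcases card_compl hM2 (β (a : U)) with h1 | h1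
        · rw [h1]; simp
        · rw [h1, hcU]
    have hge : ∀ z : U, (if z ∈ U0 then 0 else 2 ^ n) ≤ 2 * Nat.card {a : U0 // β z a ∉ M} := by
      intro z
      split_ifs with h
      · exact Nat.zero_le _
      · rcases card_compl hM2 ((β z).comp U0.subtype) with h1 | h1
        · refine absurd (key M hM2 z fun a ha => ?_) h
          by_contra hna
          have : Nonempty {x : U0 // ((β z).comp U0.subtype) x ∉ M} := ⟨⟨⟨a, ha⟩, hna⟩⟩
          exact absurd h1 Nat.card_pos.ne'
        · exact le_of_eq (by rw [← hcU0]; exact h1.symm)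
    have h1 := Finset.sum_le_sum (s := Finset.univ) fun z _ => hge z
    have h2 := Finset.sum_le_sum (s := Finset.univ) fun a _ => hle a
    rw [← Finset.mul_sum, htwo] at h1
    rw [← Finset.mul_sum] at h2
    have h3 := h1.trans h2
    rw [Finset.sum_ite, Finset.sum_ite, Finset.sum_const_zero, Finset.sum_const_zero, zero_add,
      zero_add, Finset.sum_const, Finset.sum_const, smul_eq_mul, smul_eq_mul] at h3
    have hc1 : (Finset.univ.filter fun z : U => ¬ z ∈ U0).card + 2 ^ n = 2 ^ (2 * n) := by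
      rw [← hcU0, ← hcU, Nat.card_eq_fintype_card, Nat.card_eq_fintype_card (α := U),
        Fintype.card_subtype, add_comm, Finset.card_filter_add_card_filter_not, Finset.card_univ]
    have hc2 : (Finset.univ.filter fun a : U0 => ¬ (a = 1 ∨ a = ⟨u, hu⟩)).card + 2 = 2 ^ n := by
      rw [← hcU0, Nat.card_eq_fintype_card, ← Finset.card_univ,
        ← Finset.card_filter_add_card_filter_not (s := Finset.univ)
          (fun a : U0 => a = 1 ∨ a = ⟨u, hu⟩), add_comm]
      congr 1
      rw [Finset.filter_or, Finset.filter_eq', Finset.filter_eq', if_pos (Finset.mem_univ _),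
        if_pos (Finset.mem_univ _), Finset.singleton_union, Finset.card_pair]
      exact fun h => hu1 (congrArg Subtype.val h).symm
    rw [two_mul, pow_add] at hc1 h3
    nlinarith [Nat.one_le_two_pow (n := n), h3, hc1, hc2]
  -- for each `x ∉ U0` there is exactly one admissible translation
  have hmove : ∀ w ∈ W, ∀ x, β x (x * w x) = q (x * w x) := by
    intro w hw x
    apply hVeq
    have h1 := hq x (x * w x)
    rw [← mul_assoc x x, hinvU, one_mul, hinv w hw, mul_assoc] at h1
    rw [mul_comm, ← left_eq_mul.mp h1]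
  have huniq : ∀ u ∈ U0, u ≠ 1 → ∀ x y : U, β x u = q u → β y u = q u → x * y ∈ U0 := by
    intro u hu hu1 x y hx hy
    refine hnd u hu hu1 _ ?_
    rw [hbl, hx, hy, hinvV]
  -- a nonidentity element of `W` fixes nothing outside `U0`
  have hfree : ∀ w ∈ W, w ≠ 1 → ∀ x, w x = x → x ∈ U0 := by
    intro w hw hw1 x hx
    by_contra hxU
    have hy : ∃ y, w y ≠ y := by
      by_contra h
      push Not at h
      exact hw1 (MulEquiv.ext h)
    obtain ⟨y, hy⟩ := hy
    have hu1 : y * w y ≠ 1 := fun h => hy <| by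
      calc w y = y * (y * w y) := by rw [← mul_assoc, hinvU, one_mul]
        _ = y := by rw [h, mul_one]
    have h2 : (x * y) * w (x * y) = y * w y := by
      rw [map_mul, hx, show x * y * (x * w y) = (x * x) * (y * w y) by ac_rfl, hinvU, one_mul]
    have h3 := huniq _ (himg w hw y) hu1 (x * y) y (by rw [← h2]; exact hmove w hw _) (hmove w hw y)
    rw [mul_assoc, hinvU, mul_one] at h3
    exact hxU h3
  -- at most one translation for each `x`
  obtain ⟨x, hx⟩ : ∃ x : U, x ∉ U0 := by
    by_contra h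
    push Not at h
    have : U0 = ⊤ := eq_top_iff.mpr fun v _ => h v
    rw [this, Subgroup.card_top, hcU] at hcU0
    have := Nat.pow_right_injective le_rfl hcU0
    omega
  have hKcard : ∀ u₁ ∈ U0, ∀ u₂ ∈ U0, u₁ ≠ 1 → u₂ ≠ 1 → β x u₁ = q u₁ → β x u₂ = q u₂ →
      u₁ = u₂ := by
    intro u₁ hu₁ u₂ hu₂ h1 h2 e1 e2
    by_contra hne
    -- otherwise too few translations are left for the other cosets
    let Adm : U ⧸ U0 → U0 → Prop := fun c a => a ≠ 1 ∧ β (Quotient.out c) a = q a
    have hwd : ∀ y : U, ∀ a ∈ U0, β (Quotient.out (y : U ⧸ U0)) a = β y a := by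
      intro y a ha
      have h : y⁻¹ * Quotient.out (y : U ⧸ U0) ∈ U0 := by
        rw [← QuotientGroup.eq]; exact (QuotientGroup.out_eq' _).symm
      have h' := hiso _ h a ha
      rw [hbl, hsym y⁻¹, map_inv, hsym, inv_mul_eq_one] at h'
      exact h'.symm
    have hex : ∀ c : U ⧸ U0, c ≠ 1 → ∃ a, Adm c a := by
      intro c hc
      have hout : Quotient.out c ∉ U0 := fun h => hc <| by
        rw [← QuotientGroup.out_eq' c]; exact (QuotientGroup.eq_one_iff _).mpr h
      obtain ⟨w, hw, hwc⟩ : ∃ w ∈ W, w (Quotient.out c) ≠ Quotient.out c := by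
        by_contra h
        push Not at h
        exact hout ((hU0 _).mpr h)
      refine ⟨⟨_, himg w hw (Quotient.out c)⟩, fun h => hwc ?_, hmove w hw _⟩
      have h' : Quotient.out c * w (Quotient.out c) = 1 := congrArg Subtype.val h
      calc w (Quotient.out c) = Quotient.out c * (Quotient.out c * w (Quotient.out c)) := by
            rw [← mul_assoc, hinvU, one_mul]
        _ = Quotient.out c := by rw [h', mul_one]
    choose! g hg using hex
    let Φ : Option {c : U ⧸ U0 // c ≠ 1} → {a : U0 // a ≠ 1} := fun o => o.elim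
      (if g (x : U ⧸ U0) = ⟨u₁, hu₁⟩ then ⟨⟨u₂, hu₂⟩, fun h => h2 (congrArg Subtype.val h)⟩
        else ⟨⟨u₁, hu₁⟩, fun h => h1 (congrArg Subtype.val h)⟩)
      (fun c => ⟨g c.1, (hg c.1 c.2).1⟩)
    have hxne : (x : U ⧸ U0) ≠ 1 := fun h => hx ((QuotientGroup.eq_one_iff _).mp h)
    have hcase : ∀ c : U ⧸ U0, c ≠ 1 → ∀ a : U0, a ≠ 1 → β x a = q a → g c = a →
        c = (x : U ⧸ U0) := by
      intro c hc a ha ea hga
      have h := (hg c hc).2
      rw [hga] at h
      have h2 := huniq _ a.2 (fun h' => ha (Subtype.ext h')) _ _ ea h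
      rw [← QuotientGroup.out_eq' c]
      refine (QuotientGroup.eq.mpr ?_).symm
      rwa [inv_eq_of_mul_eq_one_right (hinvU x)]
    have hΦ : Function.Injective Φ := by
      have hnone : ∀ c : {c : U ⧸ U0 // c ≠ 1}, Φ none ≠ Φ (some c) := by
        intro c h
        simp only [Φ, Option.elim] at h
        split_ifs at h with hg1
        · have h' : g c.1 = ⟨u₂, hu₂⟩ := (congrArg Subtype.val h).symm
          rw [hcase c.1 c.2 ⟨u₂, hu₂⟩ (fun h => h2 (congrArg Subtype.val h)) e2 h', hg1] at h'
          exact hne (congrArg Subtype.val h')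
        · have h' : g c.1 = ⟨u₁, hu₁⟩ := (congrArg Subtype.val h).symm
          exact hg1 (hcase c.1 c.2 ⟨u₁, hu₁⟩ (fun h => h1 (congrArg Subtype.val h)) e1 h' ▸ h')
      intro o o' h
      rcases o with _ | c <;> rcases o' with _ | c'
      · rfl
      · exact absurd h (hnone c')
      · exact absurd h.symm (hnone c)
      · have h' : g c.1 = g c'.1 := congrArg Subtype.val h
        have e := (hg c.1 c.2)
        have e' := (hg c'.1 c'.2).2
        rw [← h'] at e'
        have h3 := huniq _ (g c.1).2 (fun h' => e.1 (Subtype.ext h')) _ _ e.2 e'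
        refine congrArg some (Subtype.ext ?_)
        rw [← QuotientGroup.out_eq' c.1, ← QuotientGroup.out_eq' c'.1]
        refine QuotientGroup.eq.mpr ?_
        rwa [inv_eq_of_mul_eq_one_right (hinvU _)]
    have hle := Nat.card_le_card_of_injective Φ hΦ
    rw [Finite.card_option] at hle
    have hc1 : ∀ (α : Type _) [Finite α] (a : α), Nat.card {c : α // c ≠ a} + 1 = Nat.card α := by
      intro α _ a
      haveI := Fintype.ofFinite α
      rw [Nat.card_eq_fintype_card, Nat.card_eq_fintype_card, Fintype.card_subtype_compl,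
        Fintype.card_subtype_eq]
      have := Fintype.card_pos_iff.mpr ⟨a⟩
      omega
    have h5 := hc1 U0 1
    have h6 := hc1 (U ⧸ U0) 1
    have h8 : Nat.card (U ⧸ U0) = 2 ^ n := by
      rw [← Subgroup.index_eq_card]
      have h := U0.card_mul_index
      rw [hcU0, hcU, two_mul, pow_add] at h
      exact Nat.eq_of_mul_eq_mul_left (by positivity) h
    omega
  -- hence `W` has at most one nonidentity element
  have hone : ∀ w ∈ W, ∀ w' ∈ W, w ≠ 1 → w' ≠ 1 → w = w' := by
    intro w hw w' hw' h1 h2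
    by_contra hne
    have hW2 : w' * w' = 1 := by
      refine MulEquiv.ext fun y => ?_
      have h := (hU0 _).mp (himg w' hw' y) w' hw'
      rw [map_mul, mul_comm y] at h
      rw [MulAut.mul_apply, MulAut.one_apply]
      exact mul_left_cancel h
    have hmv : ∀ v ∈ W, v ≠ 1 → x * v x ≠ 1 := fun v hv hv1 h => hx <| hfree v hv hv1 x <| by
      calc v x = x * (x * v x) := by rw [← mul_assoc, hinvU, one_mul]
        _ = x := by rw [h, mul_one]
    have he := hKcard _ (himg w hw x) _ (himg w' hw' x) (hmv w hw h1) (hmv w' hw' h2)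
      (hmove w hw x) (hmove w' hw' x)
    have he2 : w x = w' x := mul_left_cancel he
    have hfix : (w' * w) x = x := by
      rw [MulAut.mul_apply, he2, ← MulAut.mul_apply, hW2, MulAut.one_apply]
    refine hx (hfree _ (mul_mem hw' hw) (fun h => hne ?_) x hfix)
    calc w = (w' * w') * w := by rw [hW2, one_mul]
      _ = w' := by rw [mul_assoc, h, mul_one]
  by_contra hgt
  haveI := Fintype.ofFinite W
  have hgt' : 2 < (Finset.univ : Finset W).card := by
    rw [Finset.card_univ, ← Nat.card_eq_fintype_card]; omega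
  obtain ⟨a, b, c, -, -, -, hab, hac, hbc⟩ := Finset.two_lt_card_iff.mp hgt'
  have h : ∀ p r : W, p ≠ r → p ≠ 1 → r ≠ 1 → False := fun p r hpr hp hr =>
    hpr (Subtype.ext (hone _ p.2 _ r.2 (fun h => hp (Subtype.ext h)) (fun h => hr (Subtype.ext h))))
  by_cases ha : a = 1
  · exact h b c hbc (fun h' => hab (ha.trans h'.symm)) (fun h' => hac (ha.trans h'.symm))
  by_cases hb : b = 1
  · exact h a c hac ha (fun h' => hbc (hb.trans h'.symm))
  exact h a b hab ha hb

end H68.IQ
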