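import Mathlib
import Cfsg.Agent.S3360

/-!
A solvable group transitive on the involutions of a normal elementary abelian `2`-subgroup:
the cyclic part `K` of its semilinear action, and fixed-point-free automorphisms.
-/

set_option autoImplicit false

namespace H68.IT

/-- `m ∣ 2 ^ d - 1` forces `n ∣ d` when `m` is large enough. -/
theorem dvd_of_large {n m d : ℕ} (hn : 2 ≤ n) (hm : m ∣ 2 ^ n - 1) (hbig : 2 ^ n - 1 ≤ n * m)
    (hd : m ∣ 2 ^ d - 1) : n ∣ d := by
  have hg : m ∣ 2 ^ (n.gcd d) - 1 := by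
    rw [← Nat.pow_sub_one_gcd_pow_sub_one]; exact Nat.dvd_gcd hm hd
  set g := n.gcd d with hgdef
  by_contra hnd
  have hgn : g ∣ n := Nat.gcd_dvd_left n d
  have hne : g ≠ n := fun h => hnd (h ▸ Nat.gcd_dvd_right n d)
  have hg0 : 0 < g := Nat.gcd_pos_of_pos_left d (by omega)
  obtain ⟨c, hc⟩ := hgn
  have hc2 : 2 ≤ c := by
    rcases c with _ | _ | c
    · omega
    · simp only [zero_add, mul_one] at hc; omega
    · omega
  have hle : g + g ≤ n := by
    calc g + g = g * 2 := by ring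
      _ ≤ g * c := Nat.mul_le_mul_left g hc2
      _ = n := hc.symm
  clear_value g
  clear hgdef hnd hd hc
  obtain ⟨x, rfl⟩ : ∃ x, n = g + x := ⟨n - g, by omega⟩
  have h1 : m ≤ 2 ^ g - 1 := Nat.le_of_dvd (by
    have : 2 ≤ 2 ^ g := Nat.le_self_pow hg0.ne' 2
    omega) hg
  have h2 : 2 ^ (g + x) - 1 ≤ (g + x) * (2 ^ g - 1) := hbig.trans (Nat.mul_le_mul_left _ h1)
  obtain ⟨y, rfl⟩ : ∃ y, x = y + 1 := ⟨x - 1, by omega⟩
  have h3 : y + 1 ≤ 2 ^ y := Nat.lt_two_pow_self
  have h4 : 2 ^ g ≤ 2 ^ (y + 1) := Nat.pow_le_pow_right (by norm_num) (by omega)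
  have h5 : (g + (y + 1)) * (2 ^ g - 1) ≤ 2 ^ (y + 1) * (2 ^ g - 1) :=
    Nat.mul_le_mul_right _ (by rw [pow_succ]; omega)
  have h6 : 2 ≤ 2 ^ g := Nat.le_self_pow hg0.ne' 2
  rw [pow_add] at h2
  rw [Nat.mul_sub (2 ^ (y + 1)), mul_one, mul_comm (2 ^ (y + 1)) (2 ^ g)] at h5
  have h7 : 2 ≤ 2 ^ (y + 1) := Nat.le_self_pow (by omega) 2
  have h8 : 2 ^ (y + 1) ≤ 2 ^ g * 2 ^ (y + 1) := Nat.le_mul_of_pos_left _ (by omega)
  omega

/-- If only multiples of `m` give powers with fixed points, then `m` divides the number of points. -/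
theorem dvd_card {X : Type*} [Finite X] (σ : Equiv.Perm X) (m : ℕ)
    (h : ∀ (j : ℕ) (x : X), (σ ^ j) x = x → m ∣ j) : m ∣ Nat.card X := by
  classical
  haveI := Fintype.ofFinite X
  rw [Nat.card_congr (MulAction.selfEquivSigmaOrbits (Subgroup.zpowers σ) X), Nat.card_sigma]
  refine Finset.dvd_sum fun c _ => ?_
  rw [Nat.card_eq_fintype_card, ← MulAction.minimalPeriod_eq_card]
  refine h _ (Quotient.out c) ?_
  have h1 := Function.isPeriodicPt_minimalPeriod (fun x => σ • x) (Quotient.out c)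
  rw [Function.IsPeriodicPt, Function.IsFixedPt, smul_iterate] at h1
  exact h1

/-- The fixed-point-free cyclic part of a solvable transitive group. -/
theorem exists_irred {G : Type*} [Group G] [Finite G] (hsol : Group.IsSolvable G) (V : Subgroup G)
    [V.Normal] (hab : ∀ a ∈ V, ∀ b ∈ V, a * b = b * a) (hexp : ∀ v ∈ V, v ^ 2 = 1) {n : ℕ}
    (hn : 2 ≤ n) (hcard : Nat.card V = 2 ^ n)
    (htrans : ∀ a ∈ V, ∀ b ∈ V, a ≠ 1 → b ≠ 1 → ∃ g : G, g * a * g⁻¹ = b) :
    ∃ (K : Subgroup G) (k : G) (m : ℕ), K.Normal ∧ Subgroup.centralizer (V : Set G) ≤ K ∧ k ∈ K ∧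
      Odd m ∧ 1 < m ∧ (∀ j : ℕ, k ^ j ∈ Subgroup.centralizer (V : Set G) ↔ m ∣ j) ∧
      ((Subgroup.centralizer (V : Set G)).subgroupOf K).index = m ∧
      (∀ g ∈ K, g ∉ Subgroup.centralizer (V : Set G) → ∀ v ∈ V, g * v = v * g → v = 1) ∧
      (∀ d : ℕ, m ∣ 2 ^ d - 1 → n ∣ d) := by
  classical
  set C := Subgroup.centralizer (V : Set G) with hC
  haveI : IsMulCommutative V := ⟨⟨fun a b => Subtype.ext (hab a a.2 b b.2)⟩⟩
  letI : CommGroup V := { (inferInstance : Group V) with mul_comm := fun a b => mul_comm' a b }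
  letI : Module (ZMod 2) (Additive V) := AddCommGroup.zmodModule fun x => by
    refine Additive.toMul.injective ?_
    rw [toMul_nsmul, toMul_zero]
    exact Subtype.ext (by simpa using hexp _ x.toMul.2)
  let ψ : G →* (Additive V ≃ₗ[ZMod 2] Additive V) :=
    { toFun := fun g => (MulEquiv.toAdditive (MulAut.conjNormal g : MulAut V)).toLinearEquiv
        (ZMod.map_smul (MulEquiv.toAdditive (MulAut.conjNormal g : MulAut V)))
      map_one' := by ext x; simp
      map_mul' := fun a b => by ext x; simp }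
  have hψ : ∀ (g : G) (x : Additive V),
      ((ψ g x).toMul : G) = g * (x.toMul : G) * g⁻¹ := fun g x => MulAut.conjNormal_apply g _
  haveI : Nontrivial (Additive V) := by
    have : 1 < Nat.card V := hcard ▸ Nat.one_lt_two_pow (by omega)
    exact (Finite.one_lt_card_iff_nontrivial (α := V)).mp this
  have htr : ∀ v w : Additive V, v ≠ 0 → w ≠ 0 → ∃ h : ψ.range, (ψ.range.subtype h) v = w := by
    intro v w hv hw
    obtain ⟨g, hg⟩ := htrans _ v.toMul.2 _ w.toMul.2
      (fun h => hv (Additive.toMul.injective (Subtype.ext h)))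
      (fun h => hw (Additive.toMul.injective (Subtype.ext h)))
    exact ⟨⟨ψ g, g, rfl⟩, Additive.toMul.injective (Subtype.ext ((hψ g v).trans hg))⟩
  haveI := hsol
  haveI : Finite ψ.range := Finite.of_surjective _ ψ.rangeRestrict_surjective
  rcases Cfsg.Agent.S3360.result 2 (G := ψ.range)
      (Group.isSolvable_of_surjective (f := ψ.rangeRestrict) ψ.rangeRestrict_surjective)
      ψ.range.subtype Subtype.val_injective htr with ⟨F, iF, iFt, e, hsl⟩ | hexc
  rotate_left
  · rw [Nat.card_congr Additive.toMul, hcard] at hexc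
    simp only [Set.mem_insert_iff, Set.mem_singleton_iff] at hexc
    have he : Even (2 ^ n) := Nat.even_pow.mpr ⟨even_two, by omega⟩
    rcases hexc with h | h | h | h | h | h <;> rw [h] at he <;> exact absurd he (by decide)
  have hsl' : ∀ g : G, ∃ (a : F) (σ : F ≃+* F), ∀ v, e (ψ g v) = a * σ (e v) := fun g =>
    hsl ⟨ψ g, g, rfl⟩
  choose a σ has using hsl'
  have ha : ∀ g, a g ≠ 0 := by
    intro g h
    have h1 := has g (e.symm 1)
    rw [h, zero_mul, AddEquiv.map_eq_zero_iff, LinearEquiv.map_eq_zero_iff,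
      AddEquiv.map_eq_zero_iff] at h1
    exact one_ne_zero h1
  have huniq : ∀ (g : G) (b : F) (τ : F ≃+* F), (∀ y, e (ψ g (e.symm y)) = b * τ y) →
      b = a g ∧ τ = σ g := by
    intro g b τ h
    have hb : b = a g := by
      have h1 := h 1
      rw [has, e.apply_symm_apply, map_one, map_one, mul_one, mul_one] at h1
      exact h1.symm
    refine ⟨hb, RingEquiv.ext fun y => ?_⟩
    have h1 := h y
    rw [has, e.apply_symm_apply, hb] at h1
    exact (mul_left_cancel₀ (ha g) h1).symm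
  have hmul : ∀ g h : G, a g * σ g (a h) = a (g * h) ∧ σ g * σ h = σ (g * h) := by
    intro g h
    refine huniq _ _ _ fun y => ?_
    rw [map_mul, LinearEquiv.mul_apply, has, has, map_mul, e.apply_symm_apply, mul_assoc]
    rfl
  let Φ : G →* (F ≃+* F) := MonoidHom.mk' σ fun g h => (hmul g h).2.symm
  let χ : Φ.ker →* Fˣ := MonoidHom.mk' (fun g => Units.mk0 (a g.1) (ha _)) fun g h => Units.ext <| by
    show a (g.1 * h.1) = a g.1 * a h.1
    rw [← (hmul g.1 h.1).1, show σ g.1 = 1 from g.2]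
    rfl
  have hCiff : ∀ g, g ∈ C ↔ a g = 1 ∧ σ g = 1 := by
    intro g
    constructor
    · intro hg
      obtain ⟨h1, h2⟩ := huniq g 1 1 fun y => by
        have : ψ g (e.symm y) = e.symm y := by
          refine Additive.toMul.injective (Subtype.ext ?_)
          rw [hψ, ← Subgroup.mem_centralizer_iff.mp hg _ (e.symm y).toMul.2, mul_inv_cancel_right]
        rw [this, e.apply_symm_apply, one_mul]
        rfl
      exact ⟨h1.symm, h2.symm⟩
    · rintro ⟨h1, h2⟩
      refine Subgroup.mem_centralizer_iff.mpr fun v hv => ?_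
      have h3 := has g (Additive.ofMul ⟨v, hv⟩)
      rw [h1, h2, one_mul, RingAut.one_apply] at h3
      have h4 := (hψ g (Additive.ofMul ⟨v, hv⟩)).symm.trans
        (congrArg (fun x : Additive V => (x.toMul : G)) (e.injective h3))
      exact (mul_inv_eq_iff_eq_mul.mp h4).symm
  have hCK : C ≤ Φ.ker := fun g hg => MonoidHom.mem_ker.mpr ((hCiff g).mp hg).2
  have hker : χ.ker = C.subgroupOf Φ.ker := by
    ext g
    rw [MonoidHom.mem_ker, Subgroup.mem_subgroupOf, hCiff, Units.ext_iff]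
    exact ⟨fun h => ⟨h, g.2⟩, fun h => h.1⟩
  obtain ⟨⟨u, hu⟩, hgen⟩ := IsCyclic.exists_generator (α := χ.range)
  obtain ⟨k, hk⟩ := hu
  set m := Nat.card χ.range with hm
  have hcF : Nat.card F = 2 ^ n := by
    rw [← hcard, ← Nat.card_congr e.toEquiv]; exact Nat.card_congr Additive.toMul
  have hmdvd : m ∣ 2 ^ n - 1 := by
    rw [← hcF, ← Nat.card_units]; exact Subgroup.card_subgroup_dvd_card _
  have hcAut : Nat.card (F ≃+* F) ≤ n := by
    haveI : CharP F 2 := by
      refine CharP.charP_iff_prime_eq_zero Nat.prime_two |>.mpr ?_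
      obtain ⟨x, hx⟩ := e.surjective 1
      have h0 : e (x + x) = (1 : F) + 1 := by rw [map_add, hx]
      have hxx : x + x = 0 := Additive.toMul.injective (Subtype.ext (by
        simpa [pow_two] using hexp _ x.toMul.2))
      rw [hxx, map_zero, one_add_one_eq_two] at h0
      exact_mod_cast h0.symm
    letI : Algebra (ZMod 2) F := ZMod.algebra F 2
    have hfin : Module.finrank (ZMod 2) F = n := by
      have h := Module.card_eq_pow_finrank (K := ZMod 2) (V := F)
      rw [← Nat.card_eq_fintype_card, hcF, ZMod.card] at h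
      exact (Nat.pow_right_injective le_rfl h).symm
    rw [← hfin, ← IsGalois.card_aut_eq_finrank (ZMod 2) F]
    exact le_of_eq (Nat.card_congr
      { toFun := fun s => AlgEquiv.ofRingEquiv (f := s) fun r =>
          DFunLike.congr_fun (Subsingleton.elim ((s : F →+* F).comp (algebraMap (ZMod 2) F))
            (algebraMap (ZMod 2) F)) r
        invFun := fun s => s.toRingEquiv
        left_inv := fun s => rfl
        right_inv := fun s => rfl })
  haveI : Finite (F ≃+* F) := Finite.of_injective _ DFunLike.coe_injective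
  have hbig : 2 ^ n - 1 ≤ n * m := by
    have hex : ∀ τ : Φ.range, ∃ g : G, Φ g = (τ : F ≃+* F) := fun τ => τ.2
    choose rep hrep using hex
    have hsurj : Function.Surjective
        (fun p : χ.range × Φ.range => (p.1 : Fˣ) * Units.mk0 (a (rep p.2)) (ha _)) := by
      intro y
      obtain ⟨⟨_, g, rfl⟩, hh⟩ := htr (e.symm 1) (e.symm (y : F))
        (by simp) (by simp)
      have hay : a g = y := by
        have h1 := congrArg e hh
        rw [Subgroup.subtype_apply] at h1
        simp only [e.apply_symm_apply] at h1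
        rw [has, e.apply_symm_apply, map_one, mul_one] at h1
        exact h1
      set g₀ := rep ⟨Φ g, g, rfl⟩ with hg₀
      have hmem : g * g₀⁻¹ ∈ Φ.ker := by
        rw [MonoidHom.mem_ker, map_mul, map_inv, hrep, mul_inv_cancel]
      refine ⟨(⟨χ ⟨_, hmem⟩, _, rfl⟩, ⟨Φ g, g, rfl⟩), Units.ext ?_⟩
      show a (g * g₀⁻¹) * a g₀ = y
      have h2 := (hmul (g * g₀⁻¹) g₀).1
      rw [inv_mul_cancel_right, show σ (g * g₀⁻¹) = 1 from hmem, RingAut.one_apply] at h2
      rw [h2, hay]
    have h := Nat.card_le_card_of_surjective _ hsurj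
    rw [Nat.card_units, hcF, Nat.card_prod, ← hm] at h
    have h' : Nat.card Φ.range ≤ n :=
      (Nat.card_le_card_of_injective _ Subtype.val_injective).trans hcAut
    calc 2 ^ n - 1 ≤ m * Nat.card Φ.range := h
      _ ≤ n * m := by rw [mul_comm]; exact Nat.mul_le_mul_right _ h'
  have hm1 : 1 < m := by
    by_contra hle
    have : 2 ^ n - 1 ≤ n := hbig.trans (by
      calc n * m ≤ n * 1 := Nat.mul_le_mul_left n (by omega)
        _ = n := mul_one n)
    obtain ⟨j, rfl⟩ : ∃ j, n = j + 2 := ⟨n - 2, by omega⟩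
    have h2 : j < 2 ^ j := Nat.lt_two_pow_self
    rw [pow_add] at this
    omega
  refine ⟨Φ.ker, k, m, inferInstance, hCK, k.2, ?_, hm1, fun j => ?_, ?_, ?_,
    fun d hd => dvd_of_large hn hmdvd hbig hd⟩
  · refine Odd.of_dvd_nat ?_ hmdvd
    exact Nat.Even.sub_odd Nat.one_le_two_pow (Nat.even_pow.mpr ⟨even_two, by omega⟩) odd_one
  · rw [show ((k : G) ^ j ∈ C) ↔ (k ^ j : Φ.ker) ∈ C.subgroupOf Φ.ker by
      rw [Subgroup.mem_subgroupOf, SubmonoidClass.coe_pow], ← hker, MonoidHom.mem_ker, map_pow, hk,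
      hm, ← orderOf_eq_card_of_forall_mem_zpowers hgen, ← Subgroup.orderOf_coe,
      orderOf_dvd_iff_pow_eq_one]
  · rw [← hker, Subgroup.index_ker]
  · intro g hg hgC v hv hcomm
    by_contra hv1
    have hfix : ψ g (Additive.ofMul ⟨v, hv⟩) = Additive.ofMul ⟨v, hv⟩ := by
      refine Additive.toMul.injective (Subtype.ext ?_)
      rw [hψ]
      show g * v * g⁻¹ = v
      rw [hcomm, mul_inv_cancel_right]
    have h1 := has g (Additive.ofMul ⟨v, hv⟩)
    rw [hfix, show σ g = 1 from hg, RingAut.one_apply] at h1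
    refine hgC ((hCiff g).mpr ⟨?_, hg⟩)
    have hne : e (Additive.ofMul ⟨v, hv⟩) ≠ 0 := fun h => hv1 <| by
      rw [AddEquiv.map_eq_zero_iff] at h
      simpa [Subtype.ext_iff] using congrArg (fun x : Additive V => (x.toMul : G)) h
    exact (mul_eq_right₀ hne).mp h1.symm

end H68.IT
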