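import Mathlib
import Cfsg.Agent.H68.Basic

/-! Automorphisms of abelian 2-groups and TI abelian 2-subgroups. -/

set_option autoImplicit false

namespace H68

open H70

/-- An automorphism of a commutative group all of whose non-trivial powers-of-2 of displacements
are controlled: if `t² a = a` forces `t a = a`, every `d = a⁻¹ t a` fixed by `t` with `d` a
2-element is trivial. -/
theorem eq_one_of_displacement {A : Type*} [CommGroup A] (t : MulAut A)
    (hC : ∀ a : A, t (t a) = a → t a = a) :
    ∀ (m : ℕ) (a d : A), t a = a * d → t d = d → d ^ (2 ^ m) = 1 → d = 1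
  | 0, a, d, _, _, h => by simpa using h
  | m + 1, a, d, ha, hd, h => by
    have h2 : d ^ (2 : ℕ) = 1 := by
      refine eq_one_of_displacement t hC m (a ^ 2) (d ^ 2) ?_ ?_ ?_
      · rw [map_pow, ha, mul_pow]
      · rw [map_pow, hd]
      · rw [← pow_mul, ← pow_succ', h]
    have h3 : t (t a) = a := by
      rw [ha, map_mul, ha, hd, mul_assoc, ← pow_two, h2, mul_one]
    have := hC a h3
    rw [ha] at this
    simpa using this

/-- If a 2-automorphism `t` of an abelian 2-group has the same fixed points as `t²`, then `t = 1`. -/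
theorem fixed_of_fixed_sq {A : Type*} [CommGroup A] [Finite A]
    (hA : IsPGroup 2 A) (t : MulAut A) (ht : ∃ k : ℕ, orderOf t = 2 ^ k)
    (hC : ∀ a : A, t (t a) = a → t a = a) : ∀ a : A, t a = a := by
  obtain ⟨k, hk⟩ := ht
  obtain ⟨e, he⟩ := hA.exists_card_eq
  let T : AddMonoid.End (Additive A) := MonoidHom.toAdditive t.toMonoidHom
  have hTpow : ∀ (n : ℕ) (x : A), (T ^ n) (Additive.ofMul x) = Additive.ofMul ((t ^ n) x) := by
    intro n
    induction n with
    | zero => intro x; rfl
    | succ n ih => intro x; rw [pow_succ, pow_succ]; exact ih (t x)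
  have hT1 : T ^ (2 ^ k) = 1 := by
    refine AddMonoidHom.ext fun x => ?_
    have hk1 : t ^ 2 ^ k = 1 := by rw [← hk, pow_orderOf_eq_one]
    have := hTpow (2 ^ k) x.toMul
    rw [hk1] at this
    exact this
  obtain ⟨r, hr⟩ := (Commute.neg_one_right T).exists_add_pow_prime_pow_eq Nat.prime_two k
  have hnil : ∃ n : ℕ, ∀ x : Additive A, ((T - 1) ^ n) x = 0 := by
    by_cases hk0 : k = 0
    · refine ⟨1, fun x => ?_⟩
      subst hk0
      have hT : T = 1 := by simpa using hT1
      simp [hT]
    refine ⟨2 ^ k * e, fun x => ?_⟩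
    have hev : Even (2 ^ k) := Nat.even_pow.mpr ⟨even_two, hk0⟩
    have h1 : (T - 1) ^ (2 ^ k) = 2 * (1 + T * (-1) * r) := by
      rw [sub_eq_add_neg, hr, hT1, hev.neg_one_pow, Nat.cast_ofNat, mul_add, mul_one,
        show (2 : AddMonoid.End (Additive A)) * (T * -1 * r) = 2 * T * -1 * r by simp only [mul_assoc],
        one_add_one_eq_two]
    rw [pow_mul, h1, (Nat.cast_commute 2 _).mul_pow, ← Nat.cast_ofNat (n := 2), ← Nat.cast_pow,
      ← nsmul_eq_mul]
    change (2 ^ e) • (((1 + T * -1 * r) ^ e) x) = 0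
    exact Additive.toMul.injective (by rw [toMul_nsmul, toMul_zero, ← he]; exact pow_card_eq_one')
  obtain ⟨n, hn⟩ := hnil
  have main : ∀ (j : ℕ) (a : A), ((T - 1) ^ j) (Additive.ofMul a) = 0 → t a = a := by
    intro j
    induction j with
    | zero => intro a ha; have : a = 1 := ha; rw [this, map_one]
    | succ j ih =>
      intro a ha
      rw [pow_succ] at ha
      have hd : t (a⁻¹ * t a) = a⁻¹ * t a := ih _ (by
        have : (T - 1) (Additive.ofMul a) = Additive.ofMul (a⁻¹ * t a) := by
          rw [mul_comm, ofMul_mul, ofMul_inv]; exact (sub_eq_add_neg _ _)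
        rw [← this]; exact ha)
      have hd2 : (a⁻¹ * t a) ^ 2 ^ e = 1 := by rw [← he]; exact pow_card_eq_one'
      have := eq_one_of_displacement t hC e a (a⁻¹ * t a) (by rw [mul_inv_cancel_left]) hd hd2
      rw [inv_mul_eq_one] at this
      exact this.symm
  exact fun a => main n a (hn _)

end H68
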