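import Cfsg.Agent.H1.Cores
import Cfsg.Agent.H10.PSolvable
import Cfsg.Agent.H68.InvolQuad
import Cfsg.Agent.H68.InvolTrans

/-!
Thompson: a soluble group with trivial odd core in which all involutions are conjugate, with at
least two of them, has normal Sylow `2`-subgroup.
-/

set_option autoImplicit false

namespace H68.OC

open Subgroup

variable {G : Type*} [Group G] [Finite G]

/-- All involutions lie in a normal elementary abelian subgroup central in `O_2(G)`. -/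
theorem exists_V [Group.IsSolvable G] (hO : Cfsg.pPrimeCore 2 G = ⊥)
    (hone : ∀ x y : G, x ≠ 1 → x ^ 2 = 1 → y ≠ 1 → y ^ 2 = 1 → IsConj x y)
    {x₀ : G} (hx₀ : x₀ ≠ 1) (hx₀2 : x₀ ^ 2 = 1) :
    ∃ V : Subgroup G, V.Normal ∧ (∀ x, x ∈ V ↔ x ^ 2 = 1) ∧ V ≤ Cfsg.pCore 2 G ∧
      ∀ t ∈ Cfsg.pCore 2 G, ∀ v ∈ V, t * v = v * t := by
  haveI : Fact (Nat.Prime 2) := ⟨Nat.prime_two⟩
  set T := Cfsg.pCore 2 G with hT
  haveI : T.Normal := H1.pCore_normal' 2 G
  have hTne : T ≠ ⊥ := by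
    intro h
    have h1 := H10.centralizer_pCore_le (H10.isPSolvable_of_isSolvable (p := 2) (G := G)) hO
    rw [← hT, h, le_bot_iff] at h1
    have h2 : x₀ ∈ centralizer ((⊥ : Subgroup G) : Set G) :=
      mem_centralizer_iff.mpr fun y hy => by
        obtain rfl : y = 1 := by simpa using hy
        simp
    rw [h1] at h2
    exact hx₀ (mem_bot.mp h2)
  set Z := (Subgroup.center T).map T.subtype with hZ
  haveI : Z.Normal := H1.map_subtype_normal_of_characteristic T _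
  have hZc : ∀ z ∈ Z, ∀ t ∈ T, t * z = z * t := by
    rintro _ ⟨z, hz, rfl⟩ t ht
    exact congrArg Subtype.val (Subgroup.mem_center_iff.mp hz ⟨t, ht⟩)
  have hZT : Z ≤ T := Subgroup.map_subtype_le _
  obtain ⟨z, hz, hz1, hz2⟩ : ∃ z ∈ Z, z ≠ 1 ∧ z ^ 2 = 1 := by
    haveI : Nontrivial T := (Subgroup.nontrivial_iff_ne_bot T).mpr hTne
    haveI := (H1.isPGroup_pCore 2 G).center_nontrivial
    have hp : IsPGroup 2 (Subgroup.center T) := (H1.isPGroup_pCore 2 G).to_subgroup _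
    obtain ⟨k, hk, hk2⟩ : ∃ k, 0 < k ∧ Nat.card (Subgroup.center T) = 2 ^ k :=
      hp.nontrivial_iff_card.mp inferInstance
    obtain ⟨c, hc⟩ := exists_prime_orderOf_dvd_card' 2
      (hk2 ▸ dvd_pow_self 2 hk.ne' : (2 : ℕ) ∣ Nat.card (Subgroup.center T))
    refine ⟨((c : T) : G), ⟨c, c.2, rfl⟩, ?_, ?_⟩
    · intro h
      have : c = 1 := Subtype.ext (Subtype.ext h)
      rw [this, orderOf_one] at hc
      exact absurd hc (by norm_num)
    · have := pow_orderOf_eq_one c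
      rw [hc] at this
      simpa using congrArg (fun q : Subgroup.center T => ((q : T) : G)) this
  have hinvZ : ∀ x : G, x ^ 2 = 1 → x ∈ Z := by
    intro x hx
    by_cases h : x = 1
    · exact h ▸ one_mem _
    obtain ⟨g, hg⟩ := isConj_iff.mp (hone z x hz1 hz2 h hx)
    exact hg ▸ (inferInstance : Z.Normal).conj_mem z hz g
  refine ⟨{ carrier := {x | x ^ 2 = 1}
            one_mem' := one_pow 2
            mul_mem' := fun {a b} ha hb => by
              show (a * b) ^ 2 = 1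
              rw [(show Commute a b from hZc b (hinvZ b hb) a (hZT (hinvZ a ha))).mul_pow,
                show a ^ 2 = 1 from ha, show b ^ 2 = 1 from hb, one_mul]
            inv_mem' := fun {a} ha => by
              show a⁻¹ ^ 2 = 1
              rw [inv_pow, show a ^ 2 = 1 from ha, inv_one] }, ⟨fun a ha g => ?_⟩, fun x => Iff.rfl,
    fun x hx => hZT (hinvZ x hx), fun t ht v hv => hZc v (hinvZ v hv) t ht⟩
  show (g * a * g⁻¹) ^ 2 = 1
  rw [conj_pow, show a ^ 2 = 1 from ha, mul_one, mul_inv_cancel]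

/-- Fixed-point-free action on a Sylow section: the normalizer argument. -/
theorem mem_of_normalizes (V : Subgroup G) [V.Normal] (hV : ∀ x, x ∈ V ↔ x ^ 2 = 1)
    (K : Subgroup G) {s : G} (hsK : s ∈ Subgroup.normalizer (K : Set G)) (hs2 : s ^ 2 ∈ K)
    {g : G} (hg : g ∈ K) (hgC : g ∉ centralizer (V : Set G))
    (hodd : Odd ((centralizer (V : Set G)).subgroupOf K).index)
    (hfpf : ∀ y ∈ K, y ∉ centralizer (V : Set G) → ∀ v ∈ V, y * v = v * y → v = 1) : s ∈ K := by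
  by_contra hsn
  set C := centralizer (V : Set G) with hC
  set L := Subgroup.normalizer (K : Set G) with hL
  have hKL : K ≤ L := Subgroup.le_normalizer
  haveI hKn : (K.subgroupOf L).Normal := Subgroup.normal_in_normalizer
  obtain ⟨r, hr, hrd⟩ := Nat.exists_prime_and_dvd (n := (C.subgroupOf K).index) (fun h => by
    rw [Subgroup.index_eq_one, Subgroup.subgroupOf_eq_top] at h
    exact hgC (h hg))
  haveI := Fact.mk hr
  have hr2 : r ≠ 2 := fun h => Nat.not_even_iff_odd.mpr hodd (even_iff_two_dvd.mpr (h ▸ hrd))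
  obtain ⟨Q⟩ : Nonempty (Sylow r ↥(K.subgroupOf L)) := inferInstance
  set QL := (Q : Subgroup ↥(K.subgroupOf L)).map (K.subgroupOf L).subtype with hQL
  set Q₀ := QL.map L.subtype with hQ₀
  have hQK : Q₀ ≤ K := by
    rintro _ ⟨y, hy, rfl⟩
    exact Subgroup.mem_subgroupOf.mp (Subgroup.map_subtype_le _ hy)
  have hQnotC : ¬ Q₀ ≤ C := by
    intro h
    refine Q.not_dvd_index (hrd.trans ?_)
    let e : ↥(K.subgroupOf L) ≃* K := Subgroup.subgroupOfEquivOfLe hKL
    have h1 : (Q : Subgroup ↥(K.subgroupOf L)) ≤ (C.subgroupOf K).comap e.toMonoidHom := by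
      intro y hy
      rw [Subgroup.mem_comap, Subgroup.mem_subgroupOf]
      exact h ⟨(y : L), ⟨y, hy, rfl⟩, rfl⟩
    have h2 := Subgroup.index_dvd_of_le h1
    rwa [Subgroup.index_comap_of_surjective _ e.surjective] at h2
  have hQ2 : ∀ v ∈ V, v ∈ Q₀ → v = 1 := by
    intro v hv hvQ
    have hp : IsPGroup r Q₀ := (Q.isPGroup'.map _).map _
    obtain ⟨j, hj⟩ := hp ⟨v, hvQ⟩
    have hj' : v ^ r ^ j = 1 := by simpa using congrArg Subtype.val hj
    have h1 : orderOf v ∣ r ^ j := orderOf_dvd_of_pow_eq_one hj'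
    have h2 : orderOf v ∣ 2 := orderOf_dvd_of_pow_eq_one ((hV v).mp hv)
    exact orderOf_eq_one_iff.mp (Nat.eq_one_of_dvd_coprimes
      (((Nat.coprime_primes hr Nat.prime_two).mpr hr2).pow_left j) h1 h2)
  have hfrat : (⟨s, hsK⟩ : L) ∈ Subgroup.normalizer (QL : Set L) ⊔ K.subgroupOf L := by
    rw [hQL, Sylow.normalizer_sup_eq_top Q]; trivial
  rw [← SetLike.mem_coe, Subgroup.mul_normal] at hfrat
  obtain ⟨y, hy, c, hc, hyc⟩ := hfrat
  have hys : (y : G) * c = s := by simpa using congrArg Subtype.val hyc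
  have hcK : (c : G) ∈ K := Subgroup.mem_subgroupOf.mp hc
  have hyN : ∀ q ∈ Q₀, (y : G) * q * (y : G)⁻¹ ∈ Q₀ := by
    rintro _ ⟨q, hq, rfl⟩
    exact ⟨y * q * y⁻¹, (Subgroup.mem_normalizer_iff.mp hy q).mp hq, by simp⟩
  have hyK : (y : G) ∉ K := fun h => hsn (hys ▸ mul_mem h hcK)
  have hy2 : (y : G) ^ 2 ∈ K := by
    have hc' : (c : G) * (y : G) = (y : G) * ((y : G)⁻¹ * c * y) := by group
    have hm : (y : G)⁻¹ * c * y ∈ K := by
      have := Subgroup.mem_subgroupOf.mp (hKn.conj_mem c hc y⁻¹)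
      simpa using this
    have h1 : s ^ 2 = (y : G) ^ 2 * (((y : G)⁻¹ * c * y) * c) := by rw [← hys, pow_two, pow_two]; group
    rw [h1] at hs2
    exact (K.mul_mem_cancel_right (mul_mem hm hcK)).mp hs2
  have heven : 2 ∣ orderOf (y : G) := by
    by_contra h
    have hodd : Odd (orderOf (y : G)) := Nat.odd_iff.mpr (Nat.two_dvd_ne_zero.mp h)
    obtain ⟨i, hi⟩ := hodd
    refine hyK ?_
    have h1 : (y : G) = (((y : G) ^ 2) ^ i)⁻¹ := by
      rw [eq_inv_iff_mul_eq_one, ← pow_mul, ← pow_succ', ← hi, pow_orderOf_eq_one]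
    rw [h1]
    exact inv_mem (pow_mem hy2 i)
  obtain ⟨w, hw⟩ := heven
  set v := (y : G) ^ w with hv
  have hv2 : v ^ 2 = 1 := by rw [hv, ← pow_mul, mul_comm, ← hw, pow_orderOf_eq_one]
  have hv1 : v ≠ 1 := by
    have h2w : 2 * w ≠ 0 := hw ▸ (orderOf_pos (y : G)).ne'
    refine fun h => pow_ne_one_of_lt_orderOf (x := (y : G)) (by omega) ?_ h
    omega
  have aux : ∀ i : ℕ, ∀ q ∈ Q₀, (y : G) ^ i * q * ((y : G) ^ i)⁻¹ ∈ Q₀ := by
    intro i
    induction i with
    | zero => intro q hq; simpa using hq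
    | succ i ih =>
      intro q hq
      have : (y : G) ^ (i + 1) * q * ((y : G) ^ (i + 1))⁻¹
          = (y : G) * ((y : G) ^ i * q * ((y : G) ^ i)⁻¹) * (y : G)⁻¹ := by
        rw [pow_succ']; group
      rw [this]
      exact hyN _ (ih q hq)
  have hvN : ∀ q ∈ Q₀, v * q * v⁻¹ ∈ Q₀ := aux w
  obtain ⟨q, hq, hqC⟩ := SetLike.not_le_iff_exists.mp hQnotC
  have hvV : v ∈ V := (hV v).mpr hv2
  have hcomm : q * v = v * q := by
    have h1 : v * q * v⁻¹ * q⁻¹ ∈ Q₀ := mul_mem (hvN q hq) (inv_mem hq)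
    have h2 : v * q * v⁻¹ * q⁻¹ ∈ V := by
      rw [show v * q * v⁻¹ * q⁻¹ = v * (q * v⁻¹ * q⁻¹) by group]
      exact mul_mem hvV ((inferInstance : V.Normal).conj_mem _ (inv_mem hvV) q)
    have h3 := hQ2 _ h2 h1
    rw [mul_inv_eq_one, mul_inv_eq_iff_eq_mul] at h3
    exact h3.symm
  exact hv1 (hfpf q (hQK hq) hqC v hvV hcomm)

/-- squares generate the commutators -/
theorem comm_mem_of_sq {X : Type*} [Group X] (Φ : Subgroup X) (A : Subgroup X)
    (h : ∀ a ∈ A, a ^ 2 ∈ Φ) {x y : X} (hx : x ∈ A) (hy : y ∈ A) : x⁻¹ * y⁻¹ * x * y ∈ Φ := by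
  have : x⁻¹ * y⁻¹ * x * y = x⁻¹ ^ 2 * (x * y⁻¹) ^ 2 * y ^ 2 := by
    simp only [pow_two]; group
  rw [this]
  exact mul_mem (mul_mem (h _ (inv_mem hx)) (h _ (mul_mem hx (inv_mem hy)))) (h _ hy)

/-- `(a b)⁴ = a⁴ b⁴` when squares and the commutator are central. -/
theorem pow_four_mul {X : Type*} [Group X] {a b : X} (ha : Commute (a * a) b)
    (hza : Commute (a⁻¹ * b⁻¹ * a * b) a) (hzb : Commute (a⁻¹ * b⁻¹ * a * b) b)
    (hb : Commute (b * b) a) : (a * b) ^ 4 = a ^ 4 * b ^ 4 := by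
  set z := a⁻¹ * b⁻¹ * a * b with hz
  have hab : a * b = b * a * z := by rw [hz]; group
  have hz2 : z * z = 1 := by
    have h1 : a * a * b = b * (a * a) * (z * z) := by
      calc a * a * b = a * (a * b) := mul_assoc _ _ _
        _ = a * (b * a * z) := congrArg (a * ·) hab
        _ = a * b * a * z := by group
        _ = b * a * z * a * z := congrArg (· * a * z) hab
        _ = b * a * (z * a) * z := by group
        _ = b * a * (a * z) * z := by rw [hza.eq]
        _ = b * (a * a) * (z * z) := by group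
    rw [ha.eq] at h1
    exact left_eq_mul.mp h1
  have h2 : a * b * (a * b) = a * a * (b * b) * z := by
    have hba : b * a = a * b * z := by
      calc b * a = b * a * (z * z) := by rw [hz2, mul_one]
        _ = a * b * z := by rw [← mul_assoc, ← hab]
    calc a * b * (a * b) = a * (b * a) * b := by group
      _ = a * a * b * (z * b) := by rw [hba]; group
      _ = a * a * b * (b * z) := by rw [hzb.eq]
      _ = a * a * (b * b) * z := by group
  have hbb : Commute (b * b) (a * a) := hb.mul_right hb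
  have hzaa : Commute z (a * a * (b * b)) := (hza.mul_right hza).mul_right (hzb.mul_right hzb)
  calc (a * b) ^ 4 = (a * b * (a * b)) * (a * b * (a * b)) := by
        simp only [pow_succ, pow_zero, one_mul, mul_assoc]
    _ = (a * a * (b * b)) * (z * (a * a * (b * b))) * z := by rw [h2]; group
    _ = (a * a * (b * b)) * (a * a * (b * b)) * (z * z) := by rw [hzaa.eq]; group
    _ = (a * a) * ((b * b) * (a * a)) * (b * b) := by rw [hz2]; group
    _ = a ^ 4 * b ^ 4 := by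
        rw [hbb.eq]; simp only [pow_succ, pow_zero, one_mul, mul_assoc]

theorem eq_of_fixed {X : Type*} [Group X] {r t : X} (hodd : Odd (orderOf r))
    (hc : Commute r (t⁻¹ * (r * t * r⁻¹))) {e : ℕ} (h2 : (t⁻¹ * (r * t * r⁻¹)) ^ 2 ^ e = 1) :
    r * t = t * r := by
  set c := t⁻¹ * (r * t * r⁻¹) with hcdef
  have key : ∀ i : ℕ, r ^ i * t * (r ^ i)⁻¹ = t * c ^ i := by
    intro i
    induction i with
    | zero => simp
    | succ i ih =>
      calc r ^ (i + 1) * t * (r ^ (i + 1))⁻¹ = r * (r ^ i * t * (r ^ i)⁻¹) * r⁻¹ := by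
            rw [pow_succ']; group
        _ = (r * t * r⁻¹) * (r * c ^ i * r⁻¹) := by rw [ih]; group
        _ = t * c * c ^ i := by rw [(hc.pow_right i).eq, mul_inv_cancel_right, hcdef]; group
        _ = t * c ^ (i + 1) := by rw [pow_succ', mul_assoc]
  have h3 := key (orderOf r)
  rw [pow_orderOf_eq_one, one_mul, inv_one, mul_one, left_eq_mul] at h3
  have h4 : c = 1 := orderOf_eq_one_iff.mp (Nat.eq_one_of_dvd_coprimes
    ((Nat.Coprime.pow_left e (Nat.prime_two.coprime_iff_not_dvd.mpr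
      (Nat.two_dvd_ne_zero.mpr (Nat.odd_iff.mp hodd))))) (orderOf_dvd_of_pow_eq_one h2)
      (orderOf_dvd_of_pow_eq_one h3))
  rw [hcdef, inv_mul_eq_one, eq_mul_inv_iff_mul_eq] at h4
  exact h4.symm

/-- The action on `T₀ / V` is impossible. -/
theorem quotient_false (V T0 : Subgroup G) [V.Normal] [T0.Normal] (hV : ∀ x, x ∈ V ↔ x ^ 2 = 1)
    {n : ℕ} (hn : 2 ≤ n) (hcV : Nat.card V = 2 ^ n)
    (htrans : ∀ a ∈ V, ∀ b ∈ V, a ≠ 1 → b ≠ 1 → ∃ g : G, g * a * g⁻¹ = b) (hVT0 : V ≤ T0)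
    (hsqV : ∀ t ∈ T0, t ^ 2 ∈ V) (hVc : ∀ t ∈ T0, ∀ v ∈ V, t * v = v * t) (hT02 : IsPGroup 2 T0)
    (S : Subgroup G) (hS2 : IsPGroup 2 S) (hSV : ∀ s ∈ S, ∀ v ∈ V, s * v = v * s)
    (k : G) (hkS : ∀ x ∈ S, k * x * k⁻¹ ∈ S) (hkodd : Odd (orderOf k)) {m : ℕ} (hm1 : 1 < m)
    (hnd : ∀ d : ℕ, m ∣ 2 ^ d - 1 → n ∣ d)
    (hfix : ∀ j : ℕ, ¬ m ∣ j → ∀ v ∈ V, k ^ j * v = v * k ^ j → v = 1)
    (hfpf : ∀ j : ℕ, ¬ m ∣ j → ∀ x ∈ S, k ^ j * x = x * k ^ j → x = 1)
    {r : G} (hr : r ∈ Subgroup.normalClosure (S : Set G)) (hrV : ∀ v ∈ V, r * v = v * r)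
    (hrodd : Odd (orderOf r)) {a : G} (ha : a ∈ T0) (hra : r * a ≠ a * r) : False := by
  classical
  haveI : Fact (Nat.Prime 2) := ⟨Nat.prime_two⟩
  have hVab : ∀ x ∈ V, ∀ y ∈ V, x * y = y * x := fun x hx y hy => hVc x (hVT0 hx) y hy
  set N := V.subgroupOf T0 with hNdef
  have hUexp : ∀ x : T0 ⧸ N, x ^ 2 = 1 := fun x => QuotientGroup.induction_on x fun t => by
    rw [← QuotientGroup.mk_pow, QuotientGroup.eq_one_iff, hNdef, Subgroup.mem_subgroupOf]
    simpa using hsqV t t.2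
  letI : CommGroup (T0 ⧸ N) := { (inferInstance : Group (T0 ⧸ N)) with
    mul_comm := fun x y => by
      have hi : ∀ z : T0 ⧸ N, z⁻¹ = z := fun z =>
        inv_eq_of_mul_eq_one_left (by rw [← pow_two, hUexp])
      calc x * y = (x * y)⁻¹ := (hi _).symm
        _ = y * x := by rw [mul_inv_rev, hi, hi] }
  haveI : IsMulCommutative V := ⟨⟨fun x y => Subtype.ext (hVab x x.2 y y.2)⟩⟩
  letI : CommGroup V := { (inferInstance : Group V) with mul_comm := fun a b => mul_comm' a b }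
  have hVexp : ∀ v : V, v ^ 2 = 1 := fun v => Subtype.ext (by simpa using (hV v).mp v.2)
  -- the squaring map
  let q : T0 ⧸ N → V := Quotient.lift (fun t : T0 => (⟨(t : G) ^ 2, hsqV t t.2⟩ : V)) fun x y h => by
    have h' := Subgroup.mem_subgroupOf.mp (QuotientGroup.leftRel_apply.mp h)
    refine Subtype.ext ?_
    have hy : (y : G) = (x : G) * ((x⁻¹ * y : T0) : G) := by simp
    show (x : G) ^ 2 = (y : G) ^ 2
    rw [hy, (show Commute (x : G) _ from hVc x x.2 _ h').mul_pow, (hV _).mp h', mul_one]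
  have hq : ∀ t : T0, (q (t : T0 ⧸ N) : G) = (t : G) ^ 2 := fun t => rfl
  have hq1 : q 1 = 1 := Subtype.ext (by
    rw [show (1 : T0 ⧸ N) = ((1 : T0) : T0 ⧸ N) from rfl, hq]; simp)
  have hq0 : ∀ x, q x = 1 ↔ x = 1 := fun x => QuotientGroup.induction_on x fun t => by
    rw [Subtype.ext_iff, hq, Subgroup.coe_one, QuotientGroup.eq_one_iff, hNdef,
      Subgroup.mem_subgroupOf, hV]
  -- the commutator pairing
  have hcomV : ∀ x ∈ T0, ∀ y ∈ T0, x⁻¹ * y⁻¹ * x * y ∈ V := fun x hx y hy =>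
    comm_mem_of_sq V T0 hsqV hx hy
  have hz : ∀ x y : T0, q ((x : T0 ⧸ N) * y) * q x * q y =
      ⟨_, hcomV x x.2 y y.2⟩ := by
    intro x y
    refine Subtype.ext ?_
    rw [Subgroup.coe_mul, Subgroup.coe_mul, ← QuotientGroup.mk_mul, hq, hq, hq, Subgroup.coe_mul]
    show ((x : G) * y) ^ 2 * (x : G) ^ 2 * (y : G) ^ 2 = (x : G)⁻¹ * (y : G)⁻¹ * x * y
    set z := (x : G)⁻¹ * (y : G)⁻¹ * x * y with hzdef
    have hzV : z ∈ V := hcomV x x.2 y y.2
    have hzz : z * z = 1 := by rw [← pow_two]; exact (hV z).mp hzV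
    have hyx : (y : G) * x = (x : G) * y * z := by
      calc (y : G) * x = (y : G) * x * (z * z) := by rw [hzz, mul_one]
        _ = (x : G) * y * z := by rw [hzdef]; group
    have hxx : (x : G) ^ 2 ∈ V := hsqV x x.2
    have hyy : (y : G) ^ 2 ∈ V := hsqV y y.2
    have e1 : ((x : G) * y) ^ 2 = (x : G) ^ 2 * (y : G) ^ 2 * z := by
      calc ((x : G) * y) ^ 2 = (x : G) * ((y : G) * x) * y := by rw [pow_two]; group
        _ = (x : G) * x * y * (z * y) := by rw [hyx]; group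
        _ = (x : G) * x * y * ((y : G) * z) := by rw [hVc y y.2 z hzV]
        _ = (x : G) ^ 2 * (y : G) ^ 2 * z := by rw [pow_two, pow_two]; group
    rw [e1, hVab _ (mul_mem hxx hyy) _ hzV, mul_assoc, mul_assoc z,
      ← pow_two ((x : G) ^ 2 * (y : G) ^ 2), (hV _).mp (mul_mem hxx hyy), mul_one]
  let β : T0 ⧸ N → T0 ⧸ N →* V := fun x => MonoidHom.mk' (fun y => q (x * y) * q x * q y) <| by
    refine QuotientGroup.induction_on x fun a y₁ y₂ => QuotientGroup.induction_on y₁ fun b =>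
      QuotientGroup.induction_on y₂ fun c => ?_
    rw [← QuotientGroup.mk_mul, hz, hz, hz]
    refine Subtype.ext ?_
    show (a : G)⁻¹ * ((b * c : T0) : G)⁻¹ * a * ((b * c : T0) : G) = _
    rw [Subgroup.coe_mul, Subgroup.coe_mul]
    show _ = ((a : G)⁻¹ * (b : G)⁻¹ * a * b) * ((a : G)⁻¹ * (c : G)⁻¹ * a * c)
    calc _ = ((a : G)⁻¹ * (c : G)⁻¹ * a) * ((a : G)⁻¹ * (b : G)⁻¹ * a * b) * c := by group
      _ = ((a : G)⁻¹ * (c : G)⁻¹ * a) * c * ((a : G)⁻¹ * (b : G)⁻¹ * a * b) := by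
        rw [mul_assoc, ← hVc c c.2 _ (hcomV a a.2 b b.2), ← mul_assoc]
      _ = _ := hVab _ (hcomV a a.2 c c.2) _ (hcomV a a.2 b b.2)
  have hvv : ∀ v : V, v * v = 1 := fun v => by rw [← pow_two, hVexp]
  have hqβ : ∀ x y, q (x * y) = q x * q y * β x y := fun x y => by
    show q (x * y) = q x * q y * (q (x * y) * q x * q y)
    rw [show q x * q y * (q (x * y) * q x * q y) = q (x * y) * ((q x * q x) * (q y * q y)) by ac_rfl,
      hvv, hvv, one_mul, mul_one]
  -- the action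
  let act : G →* MulAut (T0 ⧸ N) := MonoidHom.mk' (fun g =>
    QuotientGroup.congr N N (MulAut.conjNormal g : MulAut T0) (by
      ext y
      constructor
      · rintro ⟨z, hz, rfl⟩
        rw [hNdef, Subgroup.mem_subgroupOf]
        rw [MonoidHom.coe_coe, MulAut.conjNormal_apply]
        exact (inferInstance : V.Normal).conj_mem _ (Subgroup.mem_subgroupOf.mp hz) g
      · intro hy
        refine ⟨(MulAut.conjNormal g⁻¹ : MulAut T0) y, ?_, ?_⟩
        · rw [hNdef, SetLike.mem_coe, Subgroup.mem_subgroupOf, MulAut.conjNormal_apply]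
          exact (inferInstance : V.Normal).conj_mem _ (Subgroup.mem_subgroupOf.mp hy) g⁻¹
        · rw [MonoidHom.coe_coe, ← MulAut.mul_apply, ← map_mul, mul_inv_cancel, map_one,
            MulAut.one_apply]))
    fun g h => MulEquiv.ext fun x => QuotientGroup.induction_on x fun t => by
      show (((MulAut.conjNormal (g * h) : MulAut T0) t : T0) : T0 ⧸ N) = _
      rw [map_mul]
      rfl
  have hact : ∀ (g : G) (t : T0), act g (t : T0 ⧸ N) =
      (((MulAut.conjNormal g : MulAut T0) t : T0) : T0 ⧸ N) := fun g t => rfl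
  have hqg : ∀ (g : G) x, (q (act g x) : G) = g * (q x : G) * g⁻¹ := fun g x =>
    QuotientGroup.induction_on x fun t => by
      rw [hact, hq, hq, MulAut.conjNormal_apply, conj_pow]
  have hqS : ∀ s ∈ S, ∀ x, q (act s x) = q x := fun s hs x => Subtype.ext <| by
    rw [hqg, hSV s hs _ (q x).2, mul_inv_cancel_right]
  -- fixed-point-freeness of the powers of `k` on `T₀ / V`
  have hfixU : ∀ j : ℕ, ¬ m ∣ j → ∀ x, act (k ^ j) x = x → x = 1 := by
    intro j hj x hx
    refine (hq0 x).mp (Subtype.ext (hfix j hj _ (q x).2 ?_))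
    have h1 := hqg (k ^ j) x
    rw [hx] at h1
    exact (mul_inv_eq_iff_eq_mul.mp h1.symm)
  have hdvd : ∀ A : Subgroup (T0 ⧸ N), (∀ x ∈ A, act k x ∈ A) → ∀ d : ℕ, Nat.card A = 2 ^ d →
      n ∣ d := by
    intro A hA d hd
    have hAiff : ∀ x, x ∈ A ↔ act k x ∈ A := by
      have hmap : A.map (act k).toMonoidHom = A :=
        Subgroup.eq_of_le_of_card_ge (by rintro _ ⟨y, hy, rfl⟩; exact hA y hy)
          (Subgroup.card_map_of_injective (act k).injective).ge
      intro x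
      refine ⟨hA x, fun hx => ?_⟩
      rw [← hmap] at hx
      obtain ⟨y, hy, hyx⟩ := hx
      exact (act k).injective hyx ▸ hy
    let σ : Equiv.Perm {x : A // x ≠ 1} :=
      ((act k).toEquiv.subtypeEquiv hAiff).subtypeEquiv fun x => by
        rw [ne_eq, ne_eq, not_iff_not, Subtype.ext_iff, Subtype.ext_iff]
        exact (MulEquiv.map_eq_one_iff (act k)).symm
    have hσ : ∀ (j : ℕ) (x : {x : A // x ≠ 1}), (((σ ^ j) x).1 : T0 ⧸ N) = act (k ^ j) x.1 := by
      intro j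
      induction j with
      | zero => intro x; simp
      | succ j ih =>
        intro x
        rw [pow_succ', pow_succ', map_mul, MulAut.mul_apply, ← ih x]
        rfl
    refine hnd d ?_
    have h1 := H68.IT.dvd_card σ m fun j x hx => by
      by_contra hj
      exact x.2 (Subtype.ext (hfixU j hj _ (by rw [← hσ, hx])))
    haveI := Fintype.ofFinite A
    rwa [Nat.card_eq_fintype_card, Fintype.card_subtype_compl, Fintype.card_subtype_eq,
      ← Nat.card_eq_fintype_card, hd] at h1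
  -- the image of `S`
  set Sb := S.map act with hSb
  have hSbne : Sb ≠ ⊥ := by
    intro h
    have h1 : Subgroup.normalClosure (S : Set G) ≤ act.ker :=
      Subgroup.normalClosure_le_normal fun s hs =>
        MonoidHom.mem_ker.mpr (Subgroup.mem_bot.mp (h ▸ ⟨s, hs, rfl⟩ : act s ∈ (⊥ : Subgroup _)))
    refine hra ?_
    have h2 : act r ((⟨a, ha⟩ : T0) : T0 ⧸ N) = ((⟨a, ha⟩ : T0) : T0 ⧸ N) := by
      rw [MonoidHom.mem_ker.mp (h1 hr), MulAut.one_apply]
    rw [hact] at h2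
    have h3 := Subgroup.mem_subgroupOf.mp (QuotientGroup.eq.mp h2.symm)
    simp only [Subgroup.coe_mul, Subgroup.coe_inv, MulAut.conjNormal_apply] at h3
    exact eq_of_fixed (e := 1) hrodd (hrV _ h3) (by rw [pow_one]; exact (hV _).mp h3)
  have hSb2 : IsPGroup 2 Sb := hS2.map _
  haveI : Nontrivial Sb := (Subgroup.nontrivial_iff_ne_bot Sb).mpr hSbne
  haveI := hSb2.center_nontrivial
  let W : Subgroup (MulAut (T0 ⧸ N)) :=
    { carrier := {w | w ∈ Sb ∧ w * w = 1 ∧ ∀ y ∈ Sb, w * y = y * w}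
      one_mem' := ⟨one_mem _, one_mul 1, fun y _ => by rw [one_mul, mul_one]⟩
      mul_mem' := fun {w w'} hw hw' => ⟨mul_mem hw.1 hw'.1, by
        rw [mul_assoc, ← mul_assoc w', hw'.2.2 w hw.1, mul_assoc w, hw'.2.1, mul_one, hw.2.1],
        fun y hy => by rw [mul_assoc, hw'.2.2 y hy, ← mul_assoc, hw.2.2 y hy, mul_assoc]⟩
      inv_mem' := fun {w} hw => by
        rw [inv_eq_of_mul_eq_one_left hw.2.1]; exact hw }
  have hW : ∀ w, w ∈ W ↔ w ∈ Sb ∧ w * w = 1 ∧ ∀ y ∈ Sb, w * y = y * w := fun w => Iff.rfl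
  obtain ⟨w₀, hw₀, hw₀1⟩ : ∃ w ∈ W, w ≠ 1 := by
    have hp : IsPGroup 2 (Subgroup.center Sb) := hSb2.to_subgroup _
    obtain ⟨i, hi, hi2⟩ : ∃ i, 0 < i ∧ Nat.card (Subgroup.center Sb) = 2 ^ i :=
      hp.nontrivial_iff_card.mp inferInstance
    obtain ⟨c, hc⟩ := exists_prime_orderOf_dvd_card' 2
      (hi2 ▸ dvd_pow_self 2 hi.ne' : (2 : ℕ) ∣ Nat.card (Subgroup.center Sb))
    refine ⟨((c : Sb) : MulAut _), ⟨(c : Sb).2, ?_, fun y hy =>
      (congrArg Subtype.val (Subgroup.mem_center_iff.mp c.2 ⟨y, hy⟩)).symm⟩, ?_⟩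
    · have h1 := pow_orderOf_eq_one c
      rw [hc, pow_two] at h1
      exact congrArg Subtype.val (congrArg Subtype.val h1)
    · intro h
      have : c = 1 := Subtype.ext (Subtype.ext h)
      rw [this, orderOf_one] at hc
      exact absurd hc (by norm_num)
  have hkWm : ∀ w ∈ W, act k * w * (act k)⁻¹ ∈ W := by
    intro w hw
    have hk' : ∀ y ∈ Sb, act k * y * (act k)⁻¹ ∈ Sb := by
      rintro _ ⟨s, hs, rfl⟩
      exact ⟨k * s * k⁻¹, hkS s hs, by simp⟩
    have hk'' : ∀ y ∈ Sb, (act k)⁻¹ * y * act k ∈ Sb := by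
      intro y hy
      have hmap : Sb.map (MulAut.conj (act k)).toMonoidHom = Sb :=
        Subgroup.eq_of_le_of_card_ge (by rintro _ ⟨z, hz, rfl⟩; exact hk' z hz)
          (Subgroup.card_map_of_injective (MulAut.conj (act k)).injective).ge
      rw [← hmap] at hy
      obtain ⟨z, hz, rfl⟩ := hy
      simpa [mul_assoc] using hz
    refine ⟨hk' w hw.1, ?_, fun y hy => ?_⟩
    · rw [show act k * w * (act k)⁻¹ * (act k * w * (act k)⁻¹) = act k * (w * w) * (act k)⁻¹ by group,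
        hw.2.1, mul_one, mul_inv_cancel]
    · have h1 := hw.2.2 _ (hk'' y hy)
      calc act k * w * (act k)⁻¹ * y = act k * (w * ((act k)⁻¹ * y * act k)) * (act k)⁻¹ := by group
        _ = y * (act k * w * (act k)⁻¹) := by rw [h1]; group
  -- `k` fixes no element of `Sb`
  have hkfix : ∀ x ∈ S, act k * act x = act x * act k → act x = 1 := by
    intro x hx hcomm
    have h1 : ¬ m ∣ 1 := by rw [Nat.dvd_one]; omega
    let f : S → S := fun y => ⟨(y : G)⁻¹ * (k * y * k⁻¹), mul_mem (inv_mem y.2) (hkS y y.2)⟩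
    have hf : Function.Injective f := by
      intro y z h
      have h' : (y : G)⁻¹ * (k * y * k⁻¹) = (z : G)⁻¹ * (k * z * k⁻¹) := congrArg Subtype.val h
      have hfx : k * ((z : G) * (y : G)⁻¹) = ((z : G) * (y : G)⁻¹) * k := by
        calc k * ((z : G) * (y : G)⁻¹)
            = (z : G) * ((z : G)⁻¹ * (k * z * k⁻¹)) * (k * (y : G)⁻¹) := by group
          _ = ((z : G) * (y : G)⁻¹) * k := by rw [← h']; group
      have := hfpf 1 h1 _ (mul_mem z.2 (inv_mem y.2)) (by rw [pow_one]; exact hfx)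
      exact Subtype.ext (mul_inv_eq_one.mp this).symm
    obtain ⟨y, hy⟩ := (Finite.injective_iff_surjective.mp hf) ⟨x, hx⟩
    have hy' : (y : G)⁻¹ * (k * y * k⁻¹) = x := congrArg Subtype.val hy
    have key : ∀ i : ℕ, act k ^ i * act y * (act k ^ i)⁻¹ = act y * act x ^ i := by
      intro i
      induction i with
      | zero => simp
      | succ i ih =>
        have hxy : act k * act y * (act k)⁻¹ = act y * act x := by
          rw [← hy']; simp only [map_mul, map_inv]; group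
        have hci : act k * act x ^ i = act x ^ i * act k := (show Commute _ _ from hcomm).pow_right i
        calc act k ^ (i + 1) * act y * (act k ^ (i + 1))⁻¹
            = act k * (act k ^ i * act y * (act k ^ i)⁻¹) * (act k)⁻¹ := by rw [pow_succ']; group
          _ = (act k * act y * (act k)⁻¹) * (act k * act x ^ i * (act k)⁻¹) := by rw [ih]; group
          _ = act y * act x * act x ^ i := by rw [hci, hxy, mul_inv_cancel_right]
          _ = act y * act x ^ (i + 1) := by rw [pow_succ', mul_assoc]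
    have h2 := key (orderOf k)
    rw [← map_pow, pow_orderOf_eq_one, map_one, one_mul, inv_one, mul_one, left_eq_mul] at h2
    obtain ⟨e, he⟩ := hS2 ⟨x, hx⟩
    have he' : x ^ 2 ^ e = 1 := by simpa using congrArg Subtype.val he
    exact orderOf_eq_one_iff.mp (Nat.eq_one_of_dvd_coprimes
      ((Nat.prime_two.coprime_iff_not_dvd.mpr
        (Nat.two_dvd_ne_zero.mpr (Nat.odd_iff.mp hkodd))).pow_left e)
      (orderOf_dvd_of_pow_eq_one (by rw [← map_pow, he', map_one])) (orderOf_dvd_of_pow_eq_one h2))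
  have hWgt : 2 < Nat.card W := by
    by_contra hle
    obtain ⟨x, hx, hxw⟩ := hw₀.1
    refine hw₀1 (hxw ▸ hkfix x hx ?_)
    rw [hxw, ← mul_inv_eq_iff_eq_mul]
    by_contra hne
    have h1 : act k * w₀ * (act k)⁻¹ ≠ 1 := fun h => hw₀1 <| by
      rwa [conj_eq_one_iff] at h
    let f : Fin 3 → W := ![1, ⟨w₀, hw₀⟩, ⟨_, hkWm w₀ hw₀⟩]
    have hf : Function.Injective f := by
      intro i j h
      fin_cases i <;> fin_cases j <;> simp [f, Subtype.ext_iff] at h ⊢ <;>
        first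
          | exact hw₀1 h.symm | exact hw₀1 h | exact h1 h.symm | exact h1 h | exact hne h
          | exact hne h.symm
    have := Nat.card_le_card_of_injective f hf
    rw [Nat.card_fin] at this
    omega
  have hWinv : ∀ w ∈ W, ∀ x, q (w x) = q x := by
    intro w hw x
    obtain ⟨s, hs, rfl⟩ := hw.1
    exact hqS s hs x
  have hW2 : ∀ w ∈ W, w * w = 1 := fun w hw => hw.2.1
  have hWp : IsPGroup 2 W := fun w => ⟨1, Subtype.ext (by
    rw [pow_one, pow_two, Subgroup.coe_mul, hW2 _ w.2, Subgroup.coe_one])⟩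
  -- the sizes
  have hU2 : IsPGroup 2 (T0 ⧸ N) := fun x => ⟨1, by rw [pow_one, hUexp]⟩
  obtain ⟨d, hd⟩ := IsPGroup.iff_card.mp hU2
  have hnd' : n ∣ d := hdvd ⊤ (fun x _ => Subgroup.mem_top _) d (by rw [Subgroup.card_top, hd])
  have hd2 : d ≤ 2 * n := by
    by_contra hlt
    push Not at hlt
    obtain ⟨v, hv, hv1⟩ := H31.RankBound.exists_zero hUexp hVexp q β
      (fun e v => by rw [mul_comm v e, hqβ, mul_comm (q e) (q v)]) hq1 (le_of_eq hcV)
      (by rw [hd]; exact Nat.pow_lt_pow_right (by norm_num) hlt)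
    exact hv ((hq0 v).mp hv1)
  haveI := Fintype.ofFinite (T0 ⧸ N)
  haveI := Fintype.ofFinite V
  obtain ⟨x₁, hx₁⟩ : ∃ x : T0 ⧸ N, x ≠ 1 := by
    by_contra h
    push Not at h
    exact hw₀1 (MulEquiv.ext fun x => (h _).trans (h _).symm)
  have hfibeq : ∀ v : V, v ≠ 1 → Nat.card {x // q x = v} = Nat.card {x // q x = q x₁} := by
    intro v hv
    obtain ⟨g, hg⟩ := htrans _ (q x₁).2 _ v.2
      (fun h => hx₁ ((hq0 x₁).mp (Subtype.ext h))) (fun h => hv (Subtype.ext h))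
    refine (Nat.card_congr ((act g).toEquiv.subtypeEquiv fun x => ?_)).symm
    rw [Subtype.ext_iff, Subtype.ext_iff]
    show _ ↔ (q (act g x) : G) = v
    rw [hqg, ← hg]
    exact ⟨fun h => by rw [h], fun h => mul_left_cancel (mul_right_cancel h)⟩
  set f := Nat.card {x // q x = q x₁} with hfdef
  have hf1 : 0 < f := Nat.card_pos_iff.mpr ⟨⟨⟨x₁, rfl⟩⟩, inferInstance⟩
  have hcnt : f * (2 ^ n - 1) + 1 = 2 ^ d := by
    have e : (T0 ⧸ N) ≃ Σ v : V, {x // q x = v} := (Equiv.sigmaFiberEquiv q).symm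
    rw [← hd, Nat.card_congr e, Nat.card_sigma, ← Finset.add_sum_erase _ _ (Finset.mem_univ (1 : V)),
      Finset.sum_congr rfl (fun v hv => hfibeq v (Finset.ne_of_mem_erase hv)), Finset.sum_const,
      Finset.card_erase_of_mem (Finset.mem_univ _), Finset.card_univ, ← Nat.card_eq_fintype_card,
      hcV, smul_eq_mul, mul_comm (2 ^ n - 1), add_comm]
    congr 1
    rw [eq_comm, Nat.card_eq_one_iff_unique]
    exact ⟨⟨fun x y => Subtype.ext (((hq0 _).mp x.2).trans ((hq0 _).mp y.2).symm)⟩, ⟨⟨1, hq1⟩⟩⟩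
  have h2n : 4 ≤ 2 ^ n := by
    calc 4 = 2 ^ 2 := rfl
      _ ≤ 2 ^ n := Nat.pow_le_pow_right (by norm_num) hn
  have hdn : d = 2 * n := by
    obtain ⟨c, rfl⟩ := hnd'
    rcases c with _ | _ | _ | c
    · rw [mul_zero, pow_zero] at hcnt
      have : 0 < f * (2 ^ n - 1) := Nat.mul_pos hf1 (by omega)
      omega
    · exfalso
      simp only [zero_add, mul_one] at hcnt
      have hf : f = 1 := by
        have h' : f * (2 ^ n - 1) = 1 * (2 ^ n - 1) := by omega
        exact Nat.eq_of_mul_eq_mul_right (by omega) h'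
      refine hw₀1 (MulEquiv.ext fun x => ?_)
      rw [MulAut.one_apply]
      by_cases hx : x = 1
      · rw [hx, map_one]
      have h1 := hfibeq (q x) (fun h => hx ((hq0 x).mp h))
      rw [hf] at h1
      obtain ⟨hsub, -⟩ := Nat.card_eq_one_iff_unique.mp h1
      exact congrArg Subtype.val (@Subsingleton.elim _ hsub ⟨w₀ x, hWinv w₀ hw₀ x⟩ ⟨x, rfl⟩)
    · ring
    · exfalso
      have : n * 3 ≤ n * (c + 1 + 1 + 1) := Nat.mul_le_mul_left n (by omega)
      omega
  rw [hdn] at hd hcnt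
  have hf : f = 2 ^ n + 1 := by
    refine Nat.eq_of_mul_eq_mul_right (show 0 < 2 ^ n - 1 by omega) ?_
    rw [two_mul, pow_add] at hcnt
    have e : (2 ^ n + 1) * (2 ^ n - 1) + 1 = 2 ^ n * 2 ^ n := by
      rw [add_mul, one_mul, Nat.mul_sub, mul_one]
      have : 2 ^ n ≤ 2 ^ n * 2 ^ n := Nat.le_mul_of_pos_left _ (by omega)
      omega
    omega
  have hfib : ∀ v : V, v ≠ 1 → Nat.card {x // q x = v} = 2 ^ n + 1 := fun v hv =>
    (hfibeq v hv).trans hf
  -- the fixed points of `W`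
  let U0 : Subgroup (T0 ⧸ N) :=
    { carrier := {x | ∀ w ∈ W, w x = x}
      one_mem' := fun w _ => map_one w
      mul_mem' := fun {x y} hx hy w hw => by rw [map_mul, hx w hw, hy w hw]
      inv_mem' := fun {x} hx w hw => by rw [map_inv, hx w hw] }
  have hkU0 : ∀ x ∈ U0, act k x ∈ U0 := by
    intro x hx w hw
    have hwc : (act k)⁻¹ * w * act k ∈ W := by
      have hmap : W.map (MulAut.conj (act k)).toMonoidHom = W :=
        Subgroup.eq_of_le_of_card_ge (by rintro _ ⟨y, hy, rfl⟩; exact hkWm y hy)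
          (Subgroup.card_map_of_injective (MulAut.conj (act k)).injective).ge
      have hw' : w ∈ W := hw
      rw [← hmap] at hw'
      obtain ⟨y, hy, rfl⟩ := hw'
      simpa [mul_assoc] using hy
    have h1 := congrArg (act k) (hx _ hwc)
    rwa [MulAut.mul_apply, MulAut.mul_apply, ← MulAut.mul_apply _ (act k) (act k)⁻¹, mul_inv_cancel,
      MulAut.one_apply] at h1
  obtain ⟨d0, hd0⟩ := IsPGroup.iff_card.mp (hU2.to_subgroup U0)
  have hU0big : 2 ^ n ≤ Nat.card U0 := by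
    rw [← hcV]
    refine Nat.card_le_card_of_surjective (fun x : U0 => q x) fun v => ?_
    by_cases hv : v = 1
    · exact ⟨1, hv ▸ hq1⟩
    obtain ⟨x, hx, hxf⟩ := H68.IQ.exists_fixed_in_fibre q W hWp hWinv v
      (by rw [hfib v hv]; exact (Nat.even_pow.mpr ⟨even_two, by omega⟩).add_one)
    exact ⟨⟨x, hxf⟩, hx⟩
  have hU0ne : U0 ≠ ⊤ := fun h => hw₀1 (MulEquiv.ext fun x =>
    (show x ∈ U0 from h ▸ Subgroup.mem_top x) w₀ hw₀)
  have hcU0 : Nat.card U0 = 2 ^ n := by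
    obtain ⟨c, rfl⟩ := hdvd U0 hkU0 d0 hd0
    have hlt : Nat.card U0 < 2 ^ (2 * n) := by
      rw [← hd]
      exact lt_of_le_of_ne (Subgroup.card_le_card_group U0) fun h => hU0ne (Subgroup.eq_top_of_card_eq U0 h)
    rw [hd0] at hlt hU0big ⊢
    have h1 := (Nat.pow_lt_pow_iff_right (by norm_num : 1 < 2)).mp hlt
    have h2 := (Nat.pow_le_pow_iff_right (by norm_num : 1 < 2)).mp hU0big
    rcases c with _ | _ | c
    · omega
    · simp
    · have : n * 2 ≤ n * (c + 1 + 1) := Nat.mul_le_mul_left n (by omega)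
      omega
  have hWU0 : ∀ w ∈ W, ∀ x ∈ U0, w x ∈ U0 := fun w hw x hx => by rw [hx w hw]; exact hx
  have hsymβ : ∀ x y, β x y = β y x := fun x y => by
    show q (x * y) * q x * q y = q (y * x) * q y * q x
    rw [mul_comm x y]; ac_rfl
  have hbl : ∀ x y z, β (x * y) z = β x z * β y z := fun x y z => by
    rw [hsymβ, map_mul, hsymβ z x, hsymβ z y]
  -- `U0` is totally singular
  let M : Subgroup (T0 ⧸ N) :=
    { carrier := {u | u ∈ U0 ∧ ∀ u' ∈ U0, β u u' = 1}
      one_mem' := ⟨one_mem _, fun u' _ => by rw [hsymβ, map_one]⟩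
      mul_mem' := fun {x y} hx hy => ⟨mul_mem hx.1 hy.1, fun u' hu' => by
        rw [hbl, hx.2 u' hu', hy.2 u' hu', one_mul]⟩
      inv_mem' := fun {x} hx => ⟨inv_mem hx.1, fun u' hu' => by
        rw [hsymβ, map_inv, hsymβ, hx.2 u' hu', inv_one]⟩ }
  have hβg : ∀ (g : G) x y, (β (act g x) (act g y) : G) = g * (β x y : G) * g⁻¹ := fun g x y => by
    show ((q (act g x * act g y) * q (act g x) * q (act g y) : V) : G)
      = g * ((q (x * y) * q x * q y : V) : G) * g⁻¹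
    rw [← map_mul]
    simp only [Subgroup.coe_mul, hqg]
    group
  have hkU0' : ∀ u ∈ U0, ∃ u' ∈ U0, act k u' = u := by
    intro u hu
    have hmap : U0.map (act k).toMonoidHom = U0 :=
      Subgroup.eq_of_le_of_card_ge (by rintro _ ⟨y, hy, rfl⟩; exact hkU0 y hy)
        (Subgroup.card_map_of_injective (act k).injective).ge
    rw [← hmap] at hu
    exact hu
  have hkM : ∀ x ∈ M, act k x ∈ M := by
    intro x hx
    refine ⟨hkU0 x hx.1, fun u hu => ?_⟩
    obtain ⟨u', hu', rfl⟩ := hkU0' u hu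
    refine Subtype.ext ?_
    rw [hβg, hx.2 u' hu']
    simp
  have hiso : ∀ u ∈ U0, ∀ u' ∈ U0, β u u' = 1 := by
    set I := Subgroup.closure {x | ∃ w ∈ W, ∃ y, x = y * w y} with hI
    have hIinv : ∀ w ∈ W, ∀ x ∈ I, w x ∈ I := by
      intro w hw x hx
      have hcomm : ∀ w' ∈ W, w * w' = w' * w := fun w' hw' => hw.2.2 w' hw'.1
      have : I.map w.toMonoidHom ≤ I := by
        rw [hI, MonoidHom.map_closure, Subgroup.closure_le]
        rintro _ ⟨_, ⟨w', hw', y, rfl⟩, rfl⟩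
        refine Subgroup.subset_closure ⟨w', hw', w y, ?_⟩
        simp only [MulEquiv.coe_toMonoidHom, map_mul]
        rw [← MulAut.mul_apply _ w w', hcomm w' hw', MulAut.mul_apply]
      exact this ⟨x, hx, rfl⟩
    obtain ⟨y₀, hy₀⟩ : ∃ y, w₀ y ≠ y := by
      by_contra h
      push Not at h
      exact hw₀1 (MulEquiv.ext h)
    have hx0 : y₀ * w₀ y₀ ≠ 1 := fun h => hy₀ <| by
      calc w₀ y₀ = y₀ * (y₀ * w₀ y₀) := by rw [← mul_assoc, ← pow_two, hUexp, one_mul]
        _ = y₀ := by rw [h, mul_one]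
    obtain ⟨u, huI, hu1, hufix⟩ := H68.IQ.exists_settled hUexp W hW2 I ⊥ hIinv
      (fun w _ x hx => by rw [Subgroup.mem_bot.mp hx, map_one]; exact Subgroup.one_mem _)
      (Subgroup.subset_closure ⟨w₀, hw₀, y₀, rfl⟩) (by rwa [Subgroup.mem_bot])
    have huU0 : u ∈ U0 := fun w hw => by
      have h := Subgroup.mem_bot.mp (hufix w hw)
      calc w u = u * (u * w u) := by rw [← mul_assoc, ← pow_two, hUexp, one_mul]
        _ = u := by rw [h, mul_one]
    have huM : u ∈ M := by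
      refine ⟨huU0, fun u' hu' => ?_⟩
      have hle : I ≤ (β u').ker := (Subgroup.closure_le _).mpr (by
        rintro _ ⟨w, hw, y, rfl⟩
        rw [SetLike.mem_coe, MonoidHom.mem_ker, map_mul]
        have h1 : β u' (w y) = β u' y := by
          obtain ⟨s, hs, rfl⟩ := hw.1
          conv_lhs => rw [← hu' (act s) hw]
          show q (act s u' * act s y) * q (act s u') * q (act s y) = q (u' * y) * q u' * q y
          rw [← map_mul, hqS s hs, hqS s hs, hqS s hs]
        rw [h1, hvv])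
      rw [hsymβ]; exact hle huI
    obtain ⟨dM, hdM⟩ := IsPGroup.iff_card.mp (hU2.to_subgroup M)
    have hMle : M ≤ U0 := fun x hx => hx.1
    have hMeq : M = U0 := Subgroup.eq_of_le_of_card_ge hMle (by
      rw [hcU0, hdM]
      refine Nat.pow_le_pow_right (by norm_num) (Nat.le_of_dvd ?_ (hdvd M hkM dM hdM))
      rcases Nat.eq_zero_or_pos dM with h | h
      · rw [h, pow_zero, Subgroup.card_eq_one] at hdM
        exact absurd (Subgroup.mem_bot.mp (hdM ▸ huM : u ∈ (⊥ : Subgroup _)))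
          (by rwa [Subgroup.mem_bot] at hu1)
      · exact h)
    exact fun x hx => (hMeq ▸ hx : x ∈ M).2
  -- `W` acts trivially on the quotient
  have himg : ∀ w ∈ W, ∀ x, x * w x ∈ U0 := by
    let J : Subgroup (T0 ⧸ N) :=
      { carrier := {x | ∀ w ∈ W, x * w x ∈ U0}
        one_mem' := fun w _ => by rw [map_one, one_mul]; exact U0.one_mem
        mul_mem' := fun {x y} hx hy w hw => by
          rw [map_mul, show x * y * (w x * w y) = x * w x * (y * w y) by ac_rfl]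
          exact mul_mem (hx w hw) (hy w hw)
        inv_mem' := fun {x} hx w hw => by
          rw [map_inv, ← mul_inv]
          exact inv_mem (hx w hw) }
    have hkJ : ∀ x ∈ J, act k x ∈ J := by
      intro x hx w hw
      have hwc : (act k)⁻¹ * w * act k ∈ W := by
        have hmap : W.map (MulAut.conj (act k)).toMonoidHom = W :=
          Subgroup.eq_of_le_of_card_ge (by rintro _ ⟨y, hy, rfl⟩; exact hkWm y hy)
            (Subgroup.card_map_of_injective (MulAut.conj (act k)).injective).ge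
        have hw' : w ∈ W := hw
        rw [← hmap] at hw'
        obtain ⟨y, hy, rfl⟩ := hw'
        simpa [mul_assoc] using hy
      have h1 := hkU0 _ (hx _ hwc)
      rwa [map_mul, MulAut.mul_apply, MulAut.mul_apply, ← MulAut.mul_apply _ (act k) (act k)⁻¹,
        mul_inv_cancel, MulAut.one_apply] at h1
    obtain ⟨z₀, -, hz₀⟩ : ∃ z, z ∈ (⊤ : Subgroup (T0 ⧸ N)) ∧ z ∉ U0 :=
      SetLike.exists_of_lt (lt_top_iff_ne_top.mpr hU0ne)
    obtain ⟨z, -, hzU, hzJ⟩ := H68.IQ.exists_settled hUexp W hW2 ⊤ U0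
      (fun _ _ _ _ => Subgroup.mem_top _) hWU0 (Subgroup.mem_top z₀) hz₀
    obtain ⟨dJ, hdJ⟩ := IsPGroup.iff_card.mp (hU2.to_subgroup J)
    have hJlt : U0 < J := lt_of_le_of_ne
      (fun x hx w hw => by rw [hx w hw, ← pow_two, hUexp]; exact U0.one_mem)
      fun e => hzU (e.symm ▸ (hzJ : z ∈ J))
    have hJ : J = ⊤ := by
      refine Subgroup.eq_top_of_le_card J ?_
      rw [hdJ, hd]
      refine Nat.pow_le_pow_right (by norm_num) ?_
      have h1 : Nat.card U0 < Nat.card J := Set.Finite.card_lt_card (Set.toFinite _) hJlt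
      rw [hcU0, hdJ] at h1
      have h2 := (Nat.pow_lt_pow_iff_right (by norm_num : 1 < 2)).mp h1
      obtain ⟨c, rfl⟩ := hdvd J hkJ dJ hdJ
      rcases c with _ | _ | c
      · omega
      · simp at h2
      · have : n * 2 ≤ n * (c + 1 + 1) := Nat.mul_le_mul_left n (by omega)
        omega
    exact fun w hw x => (hJ ▸ Subgroup.mem_top x : x ∈ J) w hw
  have := H68.IQ.card_le_two hUexp hVexp hn hcV hd q β hqβ hq0 hfib W hWinv U0
    (fun x => Iff.rfl) hcU0 hiso himg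
  omega

/-- **Thompson.** -/
theorem odd_index_pCore [Group.IsSolvable G] (hO : Cfsg.pPrimeCore 2 G = ⊥)
    (hone : ∀ x y : G, x ≠ 1 → x ^ 2 = 1 → y ≠ 1 → y ^ 2 = 1 → IsConj x y)
    {x₀ y₀ : G} (hxy : x₀ ≠ y₀) (hx₀ : x₀ ≠ 1) (hx₀2 : x₀ ^ 2 = 1) (hy₀ : y₀ ≠ 1)
    (hy₀2 : y₀ ^ 2 = 1) : Odd (Cfsg.pCore 2 G).index := by
  classical
  haveI : Fact (Nat.Prime 2) := ⟨Nat.prime_two⟩
  obtain ⟨V, hVn, hV, hVT, hVc⟩ := exists_V hO hone hx₀ hx₀2
  haveI := hVn
  set T := Cfsg.pCore 2 G with hTdef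
  haveI hTn : T.Normal := H1.pCore_normal' 2 G
  have hT2 : IsPGroup 2 T := H1.isPGroup_pCore 2 G
  have hVab : ∀ a ∈ V, ∀ b ∈ V, a * b = b * a := fun a ha b hb => hVc a (hVT ha) b hb
  set C := centralizer (V : Set G) with hCdef
  haveI hCn : C.Normal := inferInstance
  have hTC : T ≤ C := fun t ht => mem_centralizer_iff.mpr fun v hv => (hVc t ht v hv).symm
  have hCT : centralizer (T : Set G) ≤ T :=
    H10.centralizer_pCore_le (H10.isPSolvable_of_isSolvable (p := 2) (G := G)) hO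
  obtain ⟨n, hcV⟩ := IsPGroup.iff_card.mp (hT2.to_le hVT)
  have hn : 2 ≤ n := by
    by_contra hlt
    have hle : Nat.card V ≤ 2 := by
      rw [hcV]
      calc 2 ^ n ≤ 2 ^ 1 := Nat.pow_le_pow_right (by norm_num) (by omega)
        _ = 2 := pow_one 2
    let f : Fin 3 → V := ![1, ⟨x₀, (hV _).mpr hx₀2⟩, ⟨y₀, (hV _).mpr hy₀2⟩]
    have hf : Function.Injective f := by
      intro i j h
      fin_cases i <;> fin_cases j <;> simp [f, Subtype.ext_iff] at h ⊢ <;>
        first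
          | exact hx₀ h.symm | exact hx₀ h | exact hy₀ h.symm | exact hy₀ h | exact hxy h
          | exact hxy h.symm
    have := Nat.card_le_card_of_injective f hf
    rw [Nat.card_fin] at this
    omega
  have htransV : ∀ a ∈ V, ∀ b ∈ V, a ≠ 1 → b ≠ 1 → ∃ g : G, g * a * g⁻¹ = b :=
    fun a ha b hb h1 h2 => isConj_iff.mp (hone a b h1 ((hV a).mp ha) h2 ((hV b).mp hb))
  obtain ⟨K, k₀, m, hKn, hCK, hk₀, hm, hm1, hkC₀, hidx, hfpfK, hnd⟩ :=
    H68.IT.exists_irred (inferInstance : Group.IsSolvable G) V hVab (fun v hv => (hV v).mp hv) hn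
      hcV htransV
  haveI := hKn
  by_contra hne
  rcases Nat.even_or_odd (T.subgroupOf C).index with hCeven | hCodd
  rotate_left
  · -- `C / T` has odd order
    have hKodd : Odd (T.subgroupOf K).index := by
      show Odd (T.relIndex K)
      rw [← relIndex_mul_relIndex T C K hTC hCK]
      exact hCodd.mul (show Odd (C.subgroupOf K).index by rw [hidx]; exact hm)
    obtain ⟨q, hq⟩ : ∃ q : G ⧸ T, orderOf q = 2 := by
      refine exists_prime_orderOf_dvd_card' 2 ?_
      rw [← Subgroup.index_eq_card]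
      exact even_iff_two_dvd.mp (Nat.not_odd_iff_even.mp hne)
    obtain ⟨s, rfl⟩ := QuotientGroup.mk_surjective q
    have hs2 : s ^ 2 ∈ T := by
      have h1 := pow_orderOf_eq_one (s : G ⧸ T)
      rw [hq, ← QuotientGroup.mk_pow] at h1
      exact (QuotientGroup.eq_one_iff _).mp h1
    have hsT : s ∉ T := fun h => by
      rw [(QuotientGroup.eq_one_iff s).mpr h, orderOf_one] at hq
      exact absurd hq (by norm_num)
    have hsK : s ∉ K := by
      intro h
      haveI : (T.subgroupOf K).Normal := inferInstance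
      have h1 : orderOf ((⟨s, h⟩ : K) : K ⧸ T.subgroupOf K) ∣ 2 := by
        refine orderOf_dvd_of_pow_eq_one ?_
        rw [← QuotientGroup.mk_pow, QuotientGroup.eq_one_iff]
        exact Subgroup.mem_subgroupOf.mpr (by simpa using hs2)
      have h2 : orderOf ((⟨s, h⟩ : K) : K ⧸ T.subgroupOf K) ∣ (T.subgroupOf K).index := by
        rw [Subgroup.index_eq_card]; exact orderOf_dvd_natCard _
      have h3 := Nat.eq_one_of_dvd_coprimes
        (Nat.prime_two.coprime_iff_not_dvd.mpr (Nat.two_dvd_ne_zero.mpr (Nat.odd_iff.mp hKodd))) h1 h2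
      exact hsT (Subgroup.mem_subgroupOf.mp ((QuotientGroup.eq_one_iff _).mp
        (orderOf_eq_one_iff.mp h3)))
    refine hsK (mem_of_normalizes V hV K ?_ (hCK (hTC hs2)) hk₀ ?_ (by rw [hidx]; exact hm) hfpfK)
    · rw [Subgroup.normalizer_eq_top K]; trivial
    · intro h
      have := (hkC₀ 1).mp (by rwa [pow_one])
      rw [Nat.dvd_one] at this
      omega
  -- `C / T` has even order
  obtain ⟨P⟩ : Nonempty (Sylow 2 C) := inferInstance
  set S := (P : Subgroup C).map C.subtype with hSdef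
  have hSC : S ≤ C := map_subtype_le _
  have hS2 : IsPGroup 2 S := P.isPGroup'.map _
  have hTS : T ≤ S := by
    intro t ht
    have hp : IsPGroup 2 (T.subgroupOf C) := hT2.comap_of_injective C.subtype C.subtype_injective
    haveI : (T.subgroupOf C).Normal := inferInstance
    exact ⟨⟨t, hTC ht⟩, (H1.le_pCore hp).trans (H1.pCore_le_sylow P) (Subgroup.mem_subgroupOf.mpr ht), rfl⟩
  obtain ⟨s₀, hs₀, hs₀T⟩ : ∃ s₀ ∈ S, s₀ ∉ T := by
    by_contra h
    push Not at h
    refine P.not_dvd_index ((even_iff_two_dvd.mp hCeven).trans ?_)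
    exact Subgroup.index_dvd_of_le fun y hy => Subgroup.mem_subgroupOf.mpr (h _ ⟨y, hy, rfl⟩)
  -- an odd element `k` normalizing `S`
  obtain ⟨k, hkS, hkmem, hkodd, hkC⟩ : ∃ k : G, k ∈ Subgroup.normalizer (S : Set G) ∧ k ∈ K ∧
      Odd (orderOf k) ∧ ∀ j : ℕ, k ^ j ∈ C ↔ m ∣ j := by
    have htop := Sylow.normalizer_sup_eq_top P
    have hmem : k₀ ∈ Subgroup.normalizer (S : Set G) ⊔ C := by rw [hSdef, htop]; trivial
    rw [← SetLike.mem_coe, Subgroup.mul_normal] at hmem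
    obtain ⟨k₁, hk₁, c, hc, hkc⟩ := hmem
    have hiff : ∀ j : ℕ, k₁ ^ j ∈ C ↔ k₀ ^ j ∈ C := by
      intro j
      rw [← QuotientGroup.eq_one_iff (N := C), ← QuotientGroup.eq_one_iff (N := C),
        QuotientGroup.mk_pow, QuotientGroup.mk_pow, ← hkc]
      simp only [QuotientGroup.mk_mul, (QuotientGroup.eq_one_iff c).mpr hc, mul_one]
    obtain ⟨A, o, ho, hko⟩ := Nat.exists_eq_two_pow_mul_odd (orderOf_pos k₁).ne'
    refine ⟨k₁ ^ 2 ^ A, pow_mem hk₁ _,
      pow_mem ((K.mul_mem_cancel_right (hCK hc)).mp (show k₁ * c ∈ K from (show k₁ * c = k₀ from hkc) ▸ hk₀)) _, ?_, fun j => ?_⟩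
    · rw [orderOf_pow_of_dvd (pow_ne_zero _ two_ne_zero) (hko ▸ Dvd.intro _ rfl), hko,
        Nat.mul_div_cancel_left _ (by positivity)]
      exact ho
    · rw [← pow_mul, hiff, hkC₀]
      exact (Nat.Coprime.pow_right A (Nat.coprime_two_right.mpr hm)).dvd_mul_left
  have hkK : ∀ j : ℕ, ¬ m ∣ j → ∀ v ∈ V, k ^ j * v = v * k ^ j → v = 1 := fun j hj =>
    hfpfK _ (pow_mem hkmem j) fun h => hj ((hkC j).mp h)
  have hkS' : ∀ (j : ℕ), ∀ x ∈ S, k ^ j * x * (k ^ j)⁻¹ ∈ S := fun j x hx =>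
    (Subgroup.mem_normalizer_iff.mp (pow_mem hkS j) x).mp hx
  -- fixed-point-free action on `S / T`
  have hfpfST : ∀ j : ℕ, ¬ m ∣ j → ∀ x ∈ S,
      x⁻¹ * (k ^ j * x * (k ^ j)⁻¹) ∈ T → x ∈ T := by
    intro j hj x hx hxh
    set h := k ^ j with hh
    by_contra hxT
    -- a power of `x` of order two modulo `T`
    obtain ⟨s, hsx, hsT, hs2⟩ : ∃ s ∈ zpowers x, s ∉ T ∧ s ^ 2 ∈ T := by
      obtain ⟨e, he⟩ := hS2 ⟨x, hx⟩
      have he' : x ^ 2 ^ e = 1 := by simpa using congrArg Subtype.val he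
      have hex : ∃ i, x ^ 2 ^ i ∈ T := ⟨e, he' ▸ one_mem T⟩
      have hpos : Nat.find hex ≠ 0 := fun h0 => hxT (by simpa [h0] using Nat.find_spec hex)
      obtain ⟨i, hi⟩ := Nat.exists_eq_succ_of_ne_zero hpos
      refine ⟨x ^ 2 ^ i, pow_mem (mem_zpowers x) _, Nat.find_min hex (by omega), ?_⟩
      rw [← pow_mul, ← pow_succ, ← Nat.succ_eq_add_one, ← hi]
      exact Nat.find_spec hex
    have hsh : s⁻¹ * (h * s * h⁻¹) ∈ T := by
      obtain ⟨i, rfl⟩ := mem_zpowers_iff.mp hsx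
      have h1 : QuotientGroup.mk' T (h * x * h⁻¹) = QuotientGroup.mk' T x := by
        rw [QuotientGroup.mk'_apply, QuotientGroup.mk'_apply]
        exact (QuotientGroup.eq.mpr hxh).symm
      refine QuotientGroup.eq.mp ?_
      rw [← conj_zpow, QuotientGroup.mk_zpow, QuotientGroup.mk_zpow]
      exact congrArg (· ^ i) h1.symm
    set K₁ := T ⊔ zpowers h with hK₁
    have hsS : s ∈ S := by
      obtain ⟨i, rfl⟩ := mem_zpowers_iff.mp hsx
      exact zpow_mem hx i
    have hs1 : s ∈ Subgroup.normalizer (K₁ : Set G) := by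
      have hgen : ∀ z ∈ K₁, s * z * s⁻¹ ∈ K₁ := by
        intro z hz
        obtain ⟨t, ht, w, hw, rfl⟩ := (Subgroup.mem_sup_of_normal_left.mp hz)
        rw [show s * (t * w) * s⁻¹ = (s * t * s⁻¹) * (s * w * s⁻¹) by group]
        refine mul_mem (mem_sup_left (hTn.conj_mem t ht s)) ?_
        obtain ⟨i, rfl⟩ := mem_zpowers_iff.mp hw
        rw [← conj_zpow]
        refine zpow_mem ?_ i
        rw [show s * h * s⁻¹ = (s * (s⁻¹ * (h * s * h⁻¹))⁻¹ * s⁻¹) * h by group]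
        exact mul_mem (mem_sup_left (hTn.conj_mem _ (inv_mem hsh) s))
          (mem_sup_right (mem_zpowers h))
      refine Subgroup.mem_normalizer_iff.mpr fun z => ⟨hgen z, fun hz => ?_⟩
      have hz' := hgen _ hz
      rw [show s * (s * z * s⁻¹) * s⁻¹ = s ^ 2 * z * (s ^ 2)⁻¹ by simp only [pow_two]; group] at hz'
      have h2 := mul_mem (mul_mem (inv_mem (mem_sup_left hs2 : s ^ 2 ∈ K₁)) hz') (mem_sup_left hs2)
      simpa [mul_assoc] using h2
    have hhK : h ∈ K := pow_mem hkmem j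
    have hK₁K : K₁ ≤ K := sup_le (hTC.trans hCK) (zpowers_le.mpr hhK)
    have hs₁ := mem_of_normalizes V hV K₁ hs1 (mem_sup_left hs2) (mem_sup_right (mem_zpowers h))
      (fun hc => hj ((hkC j).mp hc)) (Odd.of_dvd_nat (n := (C.subgroupOf K).index) (by rw [hidx]; exact hm) (by
        have : C.subgroupOf K₁ = (C.subgroupOf K).comap (Subgroup.inclusion hK₁K) := rfl
        rw [this, Subgroup.index_comap]
        exact Subgroup.relIndex_dvd_index_of_normal _ _))
      (fun y hy hyC v hv hc => hfpfK y (hK₁K hy) hyC v hv hc)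
    replace hs₁ := Subgroup.mem_sup_of_normal_left.mp hs₁
    obtain ⟨t, ht, w, hw, htw⟩ := hs₁
    obtain ⟨i, rfl⟩ := mem_zpowers_iff.mp hw
    refine hsT (htw ▸ mul_mem ht ?_)
    -- `h ^ i` is an element of odd order with square in `T`
    have h2 : ((h ^ i : G) : G ⧸ T) ^ 2 = 1 := by
      have h3 : (s : G ⧸ T) = ((h ^ i : G) : G ⧸ T) := by
        rw [← htw, QuotientGroup.mk_mul, (QuotientGroup.eq_one_iff t).mpr ht, one_mul]
      rw [← h3, ← QuotientGroup.mk_pow, QuotientGroup.eq_one_iff]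
      exact hs2
    have h4 : orderOf ((h ^ i : G) : G ⧸ T) ∣ orderOf k := by
      refine orderOf_dvd_of_pow_eq_one ?_
      have e : (h ^ i) ^ orderOf k = 1 := by
        rw [← zpow_natCast, ← zpow_mul, mul_comm, zpow_mul, zpow_natCast, hh, ← pow_mul, mul_comm,
          pow_mul, pow_orderOf_eq_one, one_pow, one_zpow]
      rw [← QuotientGroup.mk_pow, e]
      rfl
    exact (QuotientGroup.eq_one_iff _).mp (orderOf_eq_one_iff.mp (Nat.eq_one_of_dvd_coprimes
      (Nat.prime_two.coprime_iff_not_dvd.mpr (Nat.two_dvd_ne_zero.mpr (Nat.odd_iff.mp hkodd)))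
      (orderOf_dvd_of_pow_eq_one h2) h4))
  have hfpfS : ∀ j : ℕ, ¬ m ∣ j → ∀ x ∈ S, k ^ j * x = x * k ^ j → x = 1 := by
    intro j hj x hx hcomm
    obtain ⟨e, he⟩ := hT2 ⟨x, hfpfST j hj x hx (by
      rw [hcomm, mul_inv_cancel_right, inv_mul_cancel]; exact one_mem T)⟩
    have he' : x ^ 2 ^ e = 1 := by simpa using congrArg Subtype.val he
    clear he
    induction e with
    | zero => simpa using he'
    | succ i ih =>
      refine ih (hkK j hj _ ((hV _).mpr (by rw [← pow_mul, ← pow_succ]; exact he')) ?_)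
      exact (show Commute (k ^ j) x from hcomm).pow_right _
  -- `R`: the elements of odd order in the normal closure of `S`
  set N₁ := Subgroup.normalClosure (S : Set G) with hN₁
  have hN₁C : N₁ ≤ C := Subgroup.normalClosure_le_normal fun x hx => hSC hx
  obtain ⟨r₀, hr₀, hr₀odd, hr₀T⟩ : ∃ r₀ ∈ N₁, Odd (orderOf r₀) ∧ r₀ ∉ T := by
    by_contra h
    push Not at h
    have hp : IsPGroup 2 N₁ := by
      refine fun x => ?_
      obtain ⟨A, o, ho, hxo⟩ := Nat.exists_eq_two_pow_mul_odd (orderOf_pos (x : G)).ne'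
      refine ⟨A, Subtype.ext ?_⟩
      have hy : (x : G) ^ 2 ^ A ∈ T := h _ (pow_mem x.2 _) (by
        rw [orderOf_pow_of_dvd (pow_ne_zero _ two_ne_zero) (hxo ▸ Dvd.intro _ rfl), hxo,
          Nat.mul_div_cancel_left _ (by positivity)]
        exact ho)
      obtain ⟨e, he⟩ := hT2 ⟨_, hy⟩
      have he' : ((x : G) ^ 2 ^ A) ^ 2 ^ e = 1 := by simpa using congrArg Subtype.val he
      have h1 : orderOf ((x : G) ^ 2 ^ A) ∣ o := by
        refine orderOf_dvd_of_pow_eq_one ?_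
        rw [← pow_mul, ← hxo, pow_orderOf_eq_one]
      have h2 := Nat.eq_one_of_dvd_coprimes ((Nat.prime_two.coprime_iff_not_dvd.mpr
        (Nat.two_dvd_ne_zero.mpr (Nat.odd_iff.mp ho))).pow_left e) (orderOf_dvd_of_pow_eq_one he') h1
      simpa using orderOf_eq_one_iff.mp h2
    exact hs₀T (H1.le_pCore hp (Subgroup.subset_normalClosure hs₀))
  let R : Set G := {r | r ∈ N₁ ∧ Odd (orderOf r)}
  have hRconj : ∀ g : G, ∀ r ∈ R, g * r * g⁻¹ ∈ R := fun g r hr =>
    ⟨(Subgroup.normalClosure_normal).conj_mem r hr.1 g, by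
      rw [← MulAut.conj_apply, MulEquiv.orderOf_eq]; exact hr.2⟩
  obtain ⟨T0, ⟨hT0n, hT0T, r₁, hr₁, a₁, ha₁, hr₁a₁⟩, hmin⟩ :=
    (Set.toFinite {A : Subgroup G | A.Normal ∧ A ≤ T ∧
      ∃ r ∈ R, ∃ a ∈ A, r * a ≠ a * r}).exists_minimal
      ⟨T, hTn, le_rfl, r₀, ⟨hr₀, hr₀odd⟩, by
        by_contra h
        push Not at h
        exact hr₀T (hCT (mem_centralizer_iff.mpr fun a ha => (h a ha).symm))⟩
  haveI := hT0n
  have hsmall : ∀ A : Subgroup G, A.Normal → A ≤ T0 → A ≠ T0 →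
      ∀ r ∈ R, ∀ a ∈ A, r * a = a * r := by
    intro A hA hle hne' r hr a ha
    by_contra hh
    exact hne' (le_antisymm hle (hmin ⟨hA, hle.trans hT0T, r, hr, a, ha, hh⟩ hle))
  have hc2e : ∀ c ∈ T0, ∃ e : ℕ, c ^ 2 ^ e = 1 := fun c hc => by
    obtain ⟨e, he⟩ := hT2 ⟨c, hT0T hc⟩
    exact ⟨e, by simpa using congrArg Subtype.val he⟩
  have hcT0 : ∀ r : G, ∀ t ∈ T0, t⁻¹ * (r * t * r⁻¹) ∈ T0 := fun r t ht =>
    mul_mem (inv_mem ht) (hT0n.conj_mem t ht r)
  -- the commutators with `R` generate `T0`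
  set Gen := {x : G | ∃ r ∈ R, ∃ t ∈ T0, x = t⁻¹ * (r * t * r⁻¹)} with hGen
  have hPT0 : Subgroup.closure Gen = T0 := by
    refine le_antisymm ((Subgroup.closure_le _).mpr ?_) ?_
    · rintro _ ⟨r, _, t, ht, rfl⟩; exact hcT0 r t ht
    by_contra hcon
    have hle : Subgroup.closure Gen ≤ T0 :=
      (Subgroup.closure_le _).mpr (by rintro _ ⟨r, _, t, ht, rfl⟩; exact hcT0 r t ht)
    have hn' : (Subgroup.closure Gen).Normal := by
      refine ⟨fun x hx g => ?_⟩
      have : (Subgroup.closure Gen).map (MulAut.conj g).toMonoidHom ≤ Subgroup.closure Gen := by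
        rw [MonoidHom.map_closure, Subgroup.closure_le]
        rintro _ ⟨_, ⟨r, hr, t, ht, rfl⟩, rfl⟩
        refine Subgroup.subset_closure ⟨g * r * g⁻¹, hRconj g r hr, g * t * g⁻¹,
          hT0n.conj_mem t ht g, ?_⟩
        simp only [MulEquiv.coe_toMonoidHom, MulAut.conj_apply]
        group
      exact this ⟨x, hx, rfl⟩
    have hfix := hsmall _ hn' hle (fun h => hcon h.ge)
    refine hr₁a₁ ?_
    obtain ⟨e, he⟩ := hc2e _ (hcT0 r₁ a₁ ha₁)
    exact eq_of_fixed hr₁.2 (hfix r₁ hr₁ _ (Subgroup.subset_closure ⟨r₁, hr₁, a₁, ha₁, rfl⟩)) he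
  -- squares in `T0`
  set Φ := Subgroup.closure {x : G | ∃ t ∈ T0, x = t ^ 2} with hΦdef
  have hΦle : Φ ≤ T0 := (Subgroup.closure_le _).mpr (by rintro _ ⟨t, ht, rfl⟩; exact pow_mem ht 2)
  haveI hΦn : Φ.Normal := by
    refine ⟨fun x hx g => ?_⟩
    have : Φ.map (MulAut.conj g).toMonoidHom ≤ Φ := by
      rw [hΦdef, MonoidHom.map_closure, Subgroup.closure_le]
      rintro _ ⟨_, ⟨t, ht, rfl⟩, rfl⟩
      exact Subgroup.subset_closure ⟨g * t * g⁻¹, hT0n.conj_mem t ht g, by simp [conj_pow]⟩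
    exact this ⟨x, hx, rfl⟩
  have hsqΦ : ∀ t ∈ T0, t ^ 2 ∈ Φ := fun t ht => Subgroup.subset_closure ⟨t, ht, rfl⟩
  have hT02 : IsPGroup 2 T0 := hT2.to_le hT0T
  have hΦne : Φ ≠ T0 := by
    obtain ⟨j, hj⟩ := IsPGroup.iff_card.mp hT02
    have hj0 : j ≠ 0 := by
      rintro rfl
      rw [pow_zero, Subgroup.card_eq_one] at hj
      exact hr₁a₁ (by obtain rfl : a₁ = 1 := mem_bot.mp (hj ▸ ha₁); simp)
    obtain ⟨H, hH⟩ := Sylow.exists_subgroup_card_pow_prime (G := T0) 2 (n := j - 1)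
      (hj ▸ pow_dvd_pow 2 (Nat.sub_le j 1))
    have hidx2 : H.index = 2 := by
      have h1 := H.card_mul_index
      rw [hH, hj, show (2 : ℕ) ^ j = 2 ^ (j - 1) * 2 by
        rw [← pow_succ, Nat.sub_add_cancel (Nat.pos_of_ne_zero hj0)]] at h1
      exact Nat.eq_of_mul_eq_mul_left (by positivity) h1
    intro heq
    have h2 : Φ ≤ H.map T0.subtype := (Subgroup.closure_le _).mpr (by
      rintro _ ⟨t, ht, rfl⟩
      exact ⟨⟨t, ht⟩ ^ 2, Subgroup.sq_mem_of_index_two hidx2 _, by simp⟩)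
    rw [heq] at h2
    have h3 : Nat.card T0 ≤ Nat.card H :=
      (Subgroup.card_le_of_le h2).trans_eq (Subgroup.card_map_of_injective T0.subtype_injective)
    rw [hj, hH] at h3
    have := (Nat.pow_le_pow_iff_right (by norm_num : 1 < 2)).mp h3
    omega
  have hΦfix := hsmall Φ hΦn hΦle hΦne
  have hcomΦ : ∀ x ∈ T0, ∀ y ∈ T0, x⁻¹ * y⁻¹ * x * y ∈ Φ := fun x hx y hy =>
    comm_mem_of_sq Φ T0 hsqΦ hx hy
  have hΦc : ∀ p ∈ Φ, ∀ y ∈ T0, Commute p y := by
    intro p hp y hy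
    rw [← hPT0] at hy
    induction hy using Subgroup.closure_induction with
    | mem _ hz =>
      obtain ⟨r, hr, t, ht, rfl⟩ := hz
      have h1 : r * (t * p * t⁻¹) = (t * p * t⁻¹) * r := hΦfix r hr _ (hΦn.conj_mem p hp t)
      have h2 : r * p = p * r := hΦfix r hr p hp
      have h3 : (r * t * r⁻¹) * p * (r * t * r⁻¹)⁻¹ = t * p * t⁻¹ := by
        calc (r * t * r⁻¹) * p * (r * t * r⁻¹)⁻¹ = r * t * (r⁻¹ * (p * r)) * t⁻¹ * r⁻¹ := by group
          _ = r * (t * p * t⁻¹) * r⁻¹ := by rw [← h2]; group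
          _ = t * p * t⁻¹ := by rw [h1]; group
      calc p * (t⁻¹ * (r * t * r⁻¹)) = t⁻¹ * ((t * p * t⁻¹) * (r * t * r⁻¹)) := by group
        _ = t⁻¹ * (((r * t * r⁻¹) * p * (r * t * r⁻¹)⁻¹) * (r * t * r⁻¹)) := by rw [h3]
        _ = t⁻¹ * (r * t * r⁻¹) * p := by group
    | one => exact Commute.one_right p
    | mul _ _ _ _ h1 h2 => exact h1.mul_right h2
    | inv _ _ h1 => exact h1.inv_right
  have hRC : ∀ r ∈ R, ∀ v ∈ V, r * v = v * r := fun r hr v hv =>
    (mem_centralizer_iff.mp (hN₁C hr.1) v hv).symm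
  have hnab : ¬ ∀ x ∈ T0, ∀ y ∈ T0, x * y = y * x := by
    intro hab
    refine hr₁a₁ ?_
    obtain ⟨e, he⟩ := hc2e _ (hcT0 r₁ a₁ ha₁)
    refine eq_of_fixed hr₁.2 (hRC r₁ hr₁ _ ((hV _).mpr ?_)) he
    have h1 : r₁ * a₁ ^ 2 = a₁ ^ 2 * r₁ := hΦfix r₁ hr₁ _ (hsqΦ a₁ ha₁)
    rw [(show Commute a₁⁻¹ (r₁ * a₁ * r₁⁻¹) from
      hab _ (inv_mem ha₁) _ (hT0n.conj_mem a₁ ha₁ r₁)).mul_pow, conj_pow, h1, inv_pow]
    group
  have hfour : ∀ t ∈ T0, t ^ 4 = 1 := by
    intro t ht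
    rw [← hPT0] at ht
    have hpm : ∀ a ∈ T0, ∀ b ∈ T0, (a * b) ^ 4 = a ^ 4 * b ^ 4 := fun a ha b hb =>
      pow_four_mul (hΦc _ (by rw [← pow_two]; exact hsqΦ a ha) b hb)
        (hΦc _ (hcomΦ a ha b hb) a ha) (hΦc _ (hcomΦ a ha b hb) b hb)
        (hΦc _ (by rw [← pow_two]; exact hsqΦ b hb) a ha)
    induction ht using Subgroup.closure_induction with
    | mem _ hz =>
      obtain ⟨r, hr, t, ht, rfl⟩ := hz
      have h1 : r * t ^ 4 = t ^ 4 * r := hΦfix r hr _ (by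
        rw [show t ^ 4 = (t ^ 2) ^ 2 by rw [← pow_mul]]
        exact pow_mem (hsqΦ t ht) 2)
      rw [hpm _ (inv_mem ht) _ (hT0n.conj_mem t ht r), conj_pow, h1]
      group
    | one => exact one_pow 4
    | mul a b ha hb h1 h2 =>
      rw [hpm a (hPT0 ▸ ha) b (hPT0 ▸ hb), h1, h2, one_mul]
    | inv a _ h1 => rw [inv_pow, h1, inv_one]
  have hsqV : ∀ t ∈ T0, t ^ 2 ∈ V := fun t ht => (hV _).mpr (by rw [← pow_mul]; exact hfour t ht)
  have hΦV : Φ ≤ V := (Subgroup.closure_le _).mpr (by rintro _ ⟨t, ht, rfl⟩; exact hsqV t ht)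
  obtain ⟨v₁, hv₁, hv₁ne⟩ : ∃ v₁ ∈ Φ, v₁ ≠ 1 := by
    by_contra h
    push Not at h
    refine hnab fun x hx y hy => hVab x ((hV x).mpr ?_) y ((hV y).mpr ?_) <;>
      exact h _ (hsqΦ _ (by assumption))
  have hVT0 : V ≤ T0 := by
    intro v hv
    refine hΦle ?_
    by_cases h1 : v = 1
    · exact h1 ▸ one_mem _
    obtain ⟨g, hg⟩ := htransV v₁ (hΦV hv₁) v hv hv₁ne h1
    exact hg ▸ hΦn.conj_mem v₁ hv₁ g
  exact quotient_false V T0 hV hn hcV htransV hVT0 hsqV (fun t ht => hVc t (hT0T ht)) hT02 S hS2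
    (fun s hs v hv => (mem_centralizer_iff.mp (hSC hs) v hv).symm) k
    (fun x hx => by simpa using hkS' 1 x hx) hkodd hm1 hnd hkK hfpfS hr₁.1 (hRC r₁ hr₁) hr₁.2 ha₁ hr₁a₁

end H68.OC
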