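import Cfsg.Agent.H6.Basic
import Cfsg.Agent.H6.Extraspecial
import Cfsg.Agent.H68.Cyclic
import Cfsg.Agent.H76.SPE
import Cfsg.Prelude.Def_ClassificationK

/-!
`2`-groups of symplectic type and exponent dividing `4`.
-/

set_option autoImplicit false

namespace H68

open scoped commutatorElement
open Subgroup

variable {E : Type*} [Group E] [Finite E]

theorem sq_mem_zpowers_of_cyclic {K : Subgroup E} [IsCyclic K] {z : E} (hz : orderOf z = 2)
    (hzK : z ∈ K) {x : E} (hx : x ∈ K) (hxx : x * x = 1) : x = 1 ∨ x = z := by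
  by_cases h1 : x = 1
  · exact Or.inl h1
  right
  exact congrArg Subtype.val (involution_unique_of_isCyclic
    (x := (⟨x, hx⟩ : K)) (y := ⟨z, hzK⟩)
    (by rw [Subgroup.orderOf_mk]; exact orderOf_eq_prime (by rw [sq]; exact hxx) h1)
    (by rw [Subgroup.orderOf_mk, hz]))

/-- In a symplectic type group of exponent dividing `4` the Frattini subgroup has order at most `2`. -/
theorem frattini_le_two (hE : Cfsg.IsOfSymplecticType E) (h4 : ∀ x : E, x ^ 4 = 1) {z : E}
    (hz : orderOf z = 2) (hzc : z ∈ center E) : ∀ x ∈ frattini E, x = 1 ∨ x = z := by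
  haveI : Fact (Nat.Prime 2) := ⟨Nat.prime_two⟩
  haveI hZcyc : IsCyclic (center E) := hE.2 (center E) inferInstance inferInstance
  set N := frattini E with hN
  -- the centre of the Frattini subgroup
  set B := N ⊓ centralizer (N : Set E) with hB
  haveI hBn : B.Normal := inferInstance
  have hcommN : IsMulCommutative N := by
    by_contra hna
    have hNB : ¬ N ≤ B := fun hle => hna ⟨⟨fun a b => Subtype.ext
      (mem_centralizer_iff.1 (hle b.2).2 a a.2)⟩⟩
    have hne : N.map (QuotientGroup.mk' B) ≠ ⊥ := by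
      rw [Ne, Subgroup.map_eq_bot_iff, QuotientGroup.ker_mk']
      exact hNB
    have hQp : IsPGroup 2 (E ⧸ B) := hE.1.to_quotient B
    haveI : (N.map (QuotientGroup.mk' B)).Normal :=
      Normal.map inferInstance _ (QuotientGroup.mk'_surjective B)
    obtain ⟨w, ⟨⟨c, hcN, rfl⟩, hwc⟩, hw2, -⟩ := H76.exists_central_orderOf_eq (p := 2)
      (hQp.to_subgroup (N.map (QuotientGroup.mk' B) ⊓ center (E ⧸ B)))
      (H6.inf_center_ne_bot hQp hne)
    have hcB : c ∉ B := fun h => by
      rw [show QuotientGroup.mk' B c = 1 from (QuotientGroup.eq_one_iff c).2 h, orderOf_one] at hw2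
      omega
    have hc2 : c * c ∈ B := by
      have h := pow_orderOf_eq_one (QuotientGroup.mk' B c)
      rw [hw2, ← map_pow, sq] at h
      exact (QuotientGroup.eq_one_iff (N := B) _).1 h
    have hconj : ∀ p : E, p * c * p⁻¹ * c⁻¹ ∈ B := by
      intro p
      refine (QuotientGroup.eq_one_iff _).1 ?_
      show QuotientGroup.mk' B (p * c * p⁻¹ * c⁻¹) = 1
      rw [map_mul, map_mul, map_mul, map_inv, map_inv, mem_center_iff.1 hwc (QuotientGroup.mk' B p)]
      group
    haveI : IsMulCommutative B := ⟨⟨fun a b => Subtype.ext (mem_centralizer_iff.1 b.2.2 a a.2.1)⟩⟩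
    haveI : IsCyclic B := hE.2 B inferInstance inferInstance
    have hBsub : ∀ b ∈ B, ∀ y ∈ N, Commute b y := fun b hb y hy =>
      (mem_centralizer_iff.1 hb.2 y hy).symm
    have hzB : z ∈ B := by
      have hB1 : B ≠ ⊥ := by
        intro h
        have hNne : N ≠ ⊥ := fun h' => hNB (h'.le.trans bot_le)
        obtain ⟨v, hv, hv1⟩ : ∃ v ∈ N ⊓ center E, v ≠ 1 := by
          have h' := H6.inf_center_ne_bot hE.1 hNne
          rw [Ne, eq_bot_iff] at h'
          obtain ⟨v, hv, hv'⟩ := SetLike.not_le_iff_exists.1 h'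
          exact ⟨v, hv, fun e => hv' (e ▸ one_mem _)⟩
        have : v ∈ B := ⟨hv.1, mem_centralizer_iff.2 fun y _ => mem_center_iff.1 hv.2 y⟩
        rw [h, Subgroup.mem_bot] at this
        exact hv1 this
      obtain ⟨v, ⟨hvB, hvc⟩, hv2, -⟩ := H76.exists_central_orderOf_eq (p := 2)
        (hE.1.to_subgroup (B ⊓ center E)) (H6.inf_center_ne_bot hE.1 hB1)
      have hvv : v * v = 1 := by rw [← sq, ← hv2]; exact pow_orderOf_eq_one v
      rcases sq_mem_zpowers_of_cyclic hz hzc hvc hvv with h | h
      · rw [h, orderOf_one] at hv2; omega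
      · exact h ▸ hvB
    have h4' : ∀ x : E, (x * x) * (x * x) = 1 := fun x => by
      rw [← h4 x]
      simp [pow_succ, mul_assoc]
    -- an element outside `B` moved only by `z`
    obtain ⟨d, hdN, hdB, hd⟩ : ∃ d ∈ N, d ∉ B ∧ ∀ p : E, p * d * p⁻¹ = d ∨ p * d * p⁻¹ = z * d := by
      have hsqB : ∀ b ∈ B, b * b = 1 ∨ b * b = z := fun b hb =>
        sq_mem_zpowers_of_cyclic hz hzB (mul_mem hb hb) (h4' b)
      have hzz : z * z = 1 := by rw [← sq, ← hz]; exact pow_orderOf_eq_one z
      by_cases hbig : ∃ b ∈ B, b * b = z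
      · obtain ⟨b, hb, hbz⟩ := hbig
        obtain ⟨d, hdN, hdB, hd1, hdc⟩ : ∃ d ∈ N, d ∉ B ∧ d * d = 1 ∧
            ∀ p : E, p * d * p⁻¹ * d⁻¹ ∈ B := by
          rcases sq_mem_zpowers_of_cyclic hz hzB hc2 (h4' c) with h | h
          · exact ⟨c, hcN, hcB, h, hconj⟩
          · refine ⟨c * b, mul_mem hcN hb.1, fun hh => hcB ((B.mul_mem_cancel_right hb).1 hh), ?_,
              fun p => ?_⟩
            · have hcb : Commute b c := hBsub b hb c hcN
              calc c * b * (c * b) = c * (b * c) * b := by simp only [mul_assoc]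
                _ = (c * c) * (b * b) := by rw [hcb.eq]; simp only [mul_assoc]
                _ = 1 := by rw [h, hbz, hzz]
            · have e : p * (c * b) * p⁻¹ * (c * b)⁻¹ =
                  (p * c * p⁻¹ * c⁻¹) * (c * (p * b * p⁻¹ * b⁻¹) * c⁻¹) := by group
              rw [e]
              exact mul_mem (hconj p) (hBn.conj_mem _
                (mul_mem (hBn.conj_mem b hb p) (inv_mem hb)) c)
        refine ⟨d, hdN, hdB, fun p => ?_⟩
        set w := p * d * p⁻¹ * d⁻¹ with hw
        have hpd : p * d * p⁻¹ = w * d := by rw [hw]; group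
        have hww : w * w = 1 := by
          have h1 : (w * d) * (w * d) = 1 := by
            rw [← hpd]
            calc p * d * p⁻¹ * (p * d * p⁻¹) = p * (d * d) * p⁻¹ := by group
              _ = 1 := by rw [hd1]; group
          have hwd : Commute w d := hBsub w (hdc p) d hdN
          calc w * w = w * w * (d * d) := by rw [hd1, mul_one]
            _ = w * (w * d) * d := by simp only [mul_assoc]
            _ = w * (d * w) * d := by rw [hwd.eq]
            _ = 1 := by simpa only [mul_assoc] using h1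
        rcases sq_mem_zpowers_of_cyclic hz hzB (hdc p) hww with h | h
        · left; rw [hpd, show w = 1 from h, one_mul]
        · right; rw [hpd, show w = z from h]
      · push Not at hbig
        refine ⟨c, hcN, hcB, fun p => ?_⟩
        have hpc : p * c * p⁻¹ = (p * c * p⁻¹ * c⁻¹) * c := by group
        have hw := hconj p
        rcases sq_mem_zpowers_of_cyclic hz hzB hw ((hsqB _ hw).resolve_right (hbig _ hw)) with h | h
        · left; rw [hpc, h, one_mul]
        · right; rw [hpc, h]
    -- the centraliser of `d` contains the Frattini subgroup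
    have hzc' : ∀ p : E, p * z = z * p := fun p => mem_center_iff.1 hzc p
    have hKn : (centralizer ({d} : Set E)).Normal := ⟨fun k hk p => by
      rw [mem_centralizer_singleton_iff] at hk ⊢
      rcases hd p⁻¹ with h | h <;> rw [inv_inv] at h
      · calc p * k * p⁻¹ * d = p * (k * (p⁻¹ * d * p)) * p⁻¹ := by group
          _ = p * (k * d) * p⁻¹ := by rw [h]
          _ = p * (d * k) * p⁻¹ := by rw [hk]
          _ = p * ((p⁻¹ * d * p) * k) * p⁻¹ := by rw [h]
          _ = d * (p * k * p⁻¹) := by group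
      · calc p * k * p⁻¹ * d = p * (k * (p⁻¹ * d * p)) * p⁻¹ := by group
          _ = p * (z * (k * d)) * p⁻¹ := by rw [h, ← mul_assoc k z d, hzc' k, mul_assoc z k d]
          _ = p * (z * (d * k)) * p⁻¹ := by rw [hk]
          _ = p * ((p⁻¹ * d * p) * k) * p⁻¹ := by rw [h, mul_assoc z d k]
          _ = d * (p * k * p⁻¹) := by group⟩
    have hfix : ∀ p : E, (p * p) * d * (p * p)⁻¹ = d := by
      intro p
      have hzz : z * z = 1 := by rw [← sq, ← hz]; exact pow_orderOf_eq_one z
      rcases hd p with h | h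
      · calc (p * p) * d * (p * p)⁻¹ = p * (p * d * p⁻¹) * p⁻¹ := by group
          _ = d := by rw [h, h]
      · calc (p * p) * d * (p * p)⁻¹ = p * (p * d * p⁻¹) * p⁻¹ := by group
          _ = (p * z) * d * p⁻¹ := by rw [h]; group
          _ = z * (p * d * p⁻¹) := by rw [hzc' p]; group
          _ = d := by rw [h, ← mul_assoc, hzz, one_mul]
    have hle : frattini E ≤ centralizer ({d} : Set E) := by
      haveI := hKn
      refine H6.frattini_le_of_quotient (p := 2) _ ?_ fun g => ?_
      · rw [_root_.commutator_def, commutator_le]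
        intro p _ q _
        rw [mem_centralizer_singleton_iff, commutatorElement_def]
        have e : (p * q) * d * (p * q)⁻¹ = (q * p) * d * (q * p)⁻¹ := by
          have hp := hd p
          have hq := hd q
          have hpz : ∀ r : E, r * (z * d) * r⁻¹ = z * (r * d * r⁻¹) := fun r => by
            rw [← mul_assoc, hzc' r]; group
          calc (p * q) * d * (p * q)⁻¹ = p * (q * d * q⁻¹) * p⁻¹ := by group
            _ = q * (p * d * p⁻¹) * q⁻¹ := by
              rcases hp with h1 | h1 <;> rcases hq with h2 | h2 <;> rw [h1, h2] <;>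
                simp only [hpz, h1, h2]
            _ = _ := by group
        set m := p * q * p⁻¹ * q⁻¹ with hm
        refine mul_inv_eq_iff_eq_mul.1 ?_
        set n := q * p
        have em : m = (p * q) * n⁻¹ := by rw [hm]; simp [n, mul_inv_rev, mul_assoc]
        rcases hd n⁻¹ with h | h <;> rw [inv_inv] at h
        · rw [em]
          calc (p * q) * n⁻¹ * d * ((p * q) * n⁻¹)⁻¹ = (p * q) * (n⁻¹ * d * n) * (p * q)⁻¹ := by group
            _ = (p * q) * d * (p * q)⁻¹ := by rw [h]
            _ = n * d * n⁻¹ := e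
            _ = n * (n⁻¹ * d * n) * n⁻¹ := by rw [h]
            _ = d := by group
        · rw [em]
          calc (p * q) * n⁻¹ * d * ((p * q) * n⁻¹)⁻¹ = (p * q) * (n⁻¹ * d * n) * (p * q)⁻¹ := by group
            _ = z * ((p * q) * d * (p * q)⁻¹) := by rw [h, ← mul_assoc, hzc' (p * q)]; group
            _ = z * (n * d * n⁻¹) := by rw [e]
            _ = n * (z * d) * n⁻¹ := by rw [← mul_assoc n z d, hzc' n]; group
            _ = n * (n⁻¹ * d * n) * n⁻¹ := by rw [h]
            _ = d := by group
      · rw [mem_centralizer_singleton_iff, sq]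
        exact mul_inv_eq_iff_eq_mul.1 (hfix g)
    refine hdB ⟨hdN, mem_centralizer_iff.2 fun y hy => ?_⟩
    exact mem_centralizer_singleton_iff.1 (hle hy)
  haveI := hcommN
  haveI : IsCyclic N := hE.2 N inferInstance inferInstance
  intro x hx
  by_cases hbot : N = ⊥
  · rw [hbot, Subgroup.mem_bot] at hx; exact Or.inl hx
  have hzN : z ∈ N := by
    obtain ⟨v, ⟨hvN, hvc⟩, hv2, -⟩ := H76.exists_central_orderOf_eq (p := 2)
      (hE.1.to_subgroup (N ⊓ center E)) (H6.inf_center_ne_bot hE.1 hbot)
    have hvv : v * v = 1 := by rw [← sq, ← hv2]; exact pow_orderOf_eq_one v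
    rcases sq_mem_zpowers_of_cyclic hz hzc hvc hvv with h | h
    · rw [h, orderOf_one] at hv2; omega
    · exact h ▸ hvN
  -- the squares of elements of `E` generate `N` modulo commutators
  have hNle : N ≤ zpowers z := by
    have hsq : ∀ g : E, g ^ 2 ∈ zpowers z := fun g => by
      have h1 : g ^ 2 ∈ N := H6.pow_prime_mem_frattini hE.1 g
      have h2 : g ^ 2 * g ^ 2 = 1 := by rw [← pow_add]; exact h4 g
      rcases sq_mem_zpowers_of_cyclic hz hzN h1 h2 with h | h <;> rw [h]
      · exact one_mem _
      · exact mem_zpowers z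
    have hn : (zpowers z).Normal := ⟨fun w hw p => by
      obtain ⟨i, rfl⟩ := mem_zpowers_iff.1 hw
      rw [← conj_zpow, mem_center_iff.1 hzc p, mul_inv_cancel_right]
      exact zpow_mem (mem_zpowers z) i⟩
    haveI := hn
    have hcomm : commutator E ≤ zpowers z := by
      rw [← QuotientGroup.ker_mk' (zpowers z)]
      have hq : ∀ v : E ⧸ zpowers z, v * v = 1 := fun v => by
        obtain ⟨g, rfl⟩ := QuotientGroup.mk_surjective v
        rw [← QuotientGroup.mk_mul, QuotientGroup.eq_one_iff, ← sq]
        exact hsq g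
      rw [_root_.commutator_def, commutator_le]
      intro p _ q _
      rw [MonoidHom.mem_ker, map_commutatorElement, commutatorElement_eq_one_iff_mul_comm]
      have hinv : ∀ v : E ⧸ zpowers z, v⁻¹ = v := fun v => inv_eq_of_mul_eq_one_right (hq v)
      conv_lhs => rw [← hinv (QuotientGroup.mk' _ p * QuotientGroup.mk' _ q), mul_inv_rev, hinv, hinv]
    exact H6.frattini_le_of_quotient (p := 2) _ hcomm hsq
  obtain ⟨i, rfl⟩ := mem_zpowers_iff.1 (hNle hx)
  have hzz : z * z = 1 := by rw [← sq, ← hz]; exact pow_orderOf_eq_one z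
  rcases Int.even_or_odd i with ⟨r, rfl⟩ | ⟨r, rfl⟩
  · left; rw [← two_mul, zpow_mul, zpow_two, hzz, one_zpow]
  · right; rw [zpow_add, zpow_mul, zpow_two, hzz, one_zpow, one_mul, zpow_one]

/-- Every homomorphism to `±1` killing the centre is a commutator map. -/
theorem exists_separating_symplectic {z : E} (hz : orderOf z = 2) (hzc : z ∈ center E)
    (hcom : ∀ x y : E, ⁅x, y⁆ = 1 ∨ ⁅x, y⁆ = z) (hsq : ∀ x : E, x ^ 2 ∈ center E)
    (D : Subgroup E) (hD : center E ≤ D) {x : E} (hx : x ∉ D) :
    ∃ e : E, (∀ d ∈ D, Commute e d) ∧ ¬ Commute e x := by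
  classical
  haveI : Fact (Nat.Prime 2) := ⟨Nat.prime_two⟩
  set Z2 := zpowers z with hZ2
  have hcard : Nat.card Z2 = 2 := by rw [hZ2, Nat.card_zpowers, hz]
  haveI : IsCyclic Z2 := isCyclic_of_prime_card hcard
  letI : CommGroup Z2 := IsCyclic.commGroup
  have hcmem : ∀ a b : E, ⁅a, b⁆ ∈ Z2 := fun a b => by
    rcases hcom a b with h | h <;> rw [h]
    · exact one_mem _
    · exact mem_zpowers z
  have hcc : ∀ a b g : E, Commute g ⁅a, b⁆ := fun a b g => by
    rcases hcom a b with h | h <;> rw [h]
    · exact Commute.one_right g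
    · exact mem_center_iff.1 hzc g
  set V := E ⧸ center E with hV
  haveI : IsMulCommutative V := Subgroup.Normal.quotient_commutative_iff_commutator_le.mpr (by
    rw [_root_.commutator_def, commutator_le]
    exact fun a _ b _ => mem_center_iff.2 fun g => (hcc a b g).eq)
  letI : CommGroup V := { (inferInstance : Group V) with mul_comm := mul_comm' }
  let χ : E → (E →* Z2) := fun e =>
    MonoidHom.mk' (fun y => ⟨⁅e, y⁆, hcmem e y⟩) fun a b =>
      Subtype.ext (H6.commutator_mul_right_of_commute (hcc e b a))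
  have hχker : ∀ e, center E ≤ (χ e).ker := fun e c hc => Subtype.ext
    (commutatorElement_eq_one_iff_commute.2 (mem_center_iff.1 hc e))
  let L : E → (V →* Z2) := fun e => QuotientGroup.lift _ (χ e) (hχker e)
  let Ψ : V → (V →* Z2) := fun v => L v.out
  have hinj : Function.Injective Ψ := by
    intro v w hvw
    rw [← QuotientGroup.out_eq' v, ← QuotientGroup.out_eq' w, QuotientGroup.eq, mem_center_iff]
    intro g
    have h1 : (⁅v.out, g⁆ : E) = ⁅w.out, g⁆ :=
      congrArg Subtype.val (DFunLike.congr_fun hvw ((g : E) : V))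
    have h2 : g * (v.out⁻¹ * w.out) = v.out⁻¹ * (v.out * g * v.out⁻¹ * g⁻¹) * g * w.out := by group
    rw [h2, ← commutatorElement_def, h1, commutatorElement_def]
    group
  haveI : NeZero (2 : ℕ) := ⟨two_ne_zero⟩
  have hroots : Nat.card (rootsOfUnity 2 ℂ) = 2 := HasEnoughRootsOfUnity.natCard_rootsOfUnity ℂ 2
  let j := mulEquivOfPrimeCardEq hcard hroots
  let ι : Z2 →* ℂˣ := (rootsOfUnity 2 ℂ).subtype.comp j.toMonoidHom
  have hι : Function.Injective ι := Subtype.val_injective.comp j.injective
  haveI : NeZero (Monoid.exponent V) := ⟨Monoid.exponent_ne_zero_of_finite⟩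
  obtain ⟨e₀⟩ := CommGroup.monoidHom_mulEquiv_of_hasEnoughRootsOfUnity V ℂ
  haveI : Finite (V →* Z2) :=
    Finite.of_injective (fun f => (f : V → Z2)) DFunLike.coe_injective
  have hle : Nat.card (V →* Z2) ≤ Nat.card V := by
    refine Nat.card_le_card_of_injective (fun f => e₀ (ι.comp f)) ?_
    intro f g h
    exact MonoidHom.ext fun v => hι (DFunLike.congr_fun (e₀.injective h) v)
  have hbij : Function.Bijective Ψ := hinj.bijective_of_nat_card_le hle
  -- a character of `E ⧸ D` separating `x`
  have hcomD : commutator E ≤ D := by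
    rw [_root_.commutator_def, commutator_le]
    exact fun a _ b _ => hD (mem_center_iff.2 fun g => (hcc a b g).eq)
  haveI hDn : D.Normal := ⟨fun d hd g => by
    have h2 := D.mul_mem (hcomD (commutator_mem_commutator (mem_top g) (mem_top d))) hd
    rwa [commutatorElement_def, inv_mul_cancel_right] at h2⟩
  haveI : IsMulCommutative (E ⧸ D) :=
    Subgroup.Normal.quotient_commutative_iff_commutator_le.mpr hcomD
  letI : CommGroup (E ⧸ D) := { (inferInstance : Group (E ⧸ D)) with mul_comm := mul_comm' }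
  haveI : NeZero (Monoid.exponent (E ⧸ D)) := ⟨Monoid.exponent_ne_zero_of_finite⟩
  obtain ⟨ψ, hψ⟩ := CommGroup.exists_apply_ne_one_of_hasEnoughRootsOfUnity (E ⧸ D) ℂ
    (a := QuotientGroup.mk' D x) (fun h => hx ((QuotientGroup.eq_one_iff x).1 h))
  have hrange : ∀ a : E, (ψ.comp (QuotientGroup.mk' D)) a ∈ rootsOfUnity 2 ℂ := by
    intro a
    show (ψ (QuotientGroup.mk' D a)) ^ 2 = 1
    rw [← map_pow, ← map_pow, show QuotientGroup.mk' D (a ^ 2) = 1 from
      (QuotientGroup.eq_one_iff _).2 (hD (hsq a)), map_one]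
  let φ : E →* Z2 :=
    j.symm.toMonoidHom.comp ((ψ.comp (QuotientGroup.mk' D)).codRestrict (rootsOfUnity 2 ℂ) hrange)
  have hφ : ∀ a, φ a = 1 ↔ ψ (QuotientGroup.mk' D a) = 1 := fun a => by
    show j.symm _ = 1 ↔ _
    rw [MulEquiv.map_eq_one_iff, Subtype.ext_iff]
    rfl
  have hφker : center E ≤ φ.ker := fun c hc => (hφ c).2 (by
    rw [show QuotientGroup.mk' D c = 1 from (QuotientGroup.eq_one_iff c).2 (hD hc), map_one])
  obtain ⟨v, hv⟩ := hbij.2 (QuotientGroup.lift _ φ hφker)
  have he : ∀ a, ((φ a : Z2) : E) = ⁅v.out, a⁆ := fun a =>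
    (congrArg Subtype.val (DFunLike.congr_fun hv ((a : E) : V))).symm
  refine ⟨v.out, fun d hd => commutatorElement_eq_one_iff_commute.1 ?_, fun hc => hψ ?_⟩
  · rw [← he d, show φ d = 1 from (hφ d).2 (by
      rw [show QuotientGroup.mk' D d = 1 from (QuotientGroup.eq_one_iff d).2 hd, map_one])]
    rfl
  · exact (hφ x).1 (Subtype.ext ((he x).trans (commutatorElement_eq_one_iff_commute.2 hc)))

end H68
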