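import Cfsg.Agent.H68.Symplectic
import Cfsg.Agent.H68.FStar
import Cfsg.Agent.CompLayer

/-!
A conjugate of `z` inside `Q = F*(C(z))` of symplectic type: the four-group `⟨z, z'⟩`.
-/

set_option autoImplicit false

namespace H68

open scoped commutatorElement
open Subgroup

variable {G : Type*} [Group G]

/-- The properties of `Q = F*(C(z))` that are used for the four-group argument. -/
structure SympCentre (z : G) (Q : Subgroup G) : Prop where
  two : z * z = 1
  ne : z ≠ 1
  mem : z ∈ Q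
  le : ∀ q ∈ Q, q * z = z * q
  conj : ∀ c : G, c * z = z * c → ∀ q ∈ Q, c * q * c⁻¹ ∈ Q
  cent : ∀ c : G, c * z = z * c → (∀ q ∈ Q, c * q = q * c) → c ∈ Q
  sq : ∀ q ∈ Q, q * q = 1 ∨ q * q = z
  comm : ∀ a ∈ Q, ∀ b ∈ Q, a * b * a⁻¹ * b⁻¹ = 1 ∨ a * b * a⁻¹ * b⁻¹ = z
  centre_inv : ∀ q ∈ Q, (∀ r ∈ Q, r * q = q * r) → q * q = 1 → q = 1 ∨ q = z
  sep : ∀ D : Subgroup G, D ≤ Q → (∀ q ∈ Q, (∀ r ∈ Q, r * q = q * r) → q ∈ D) →
    ∀ x ∈ Q, x ∉ D → ∃ e ∈ Q, (∀ d ∈ D, e * d = d * e) ∧ e * x ≠ x * e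
  small : (∀ c : G, c * z = z * c → Odd (orderOf c) → c = 1) → ∀ c : G, c * z = z * c → c ∈ Q

theorem SympCentre.conjBy [Finite G] {z : G} {Q : Subgroup G} (h : SympCentre z Q) (g : G) :
    SympCentre (g * z * g⁻¹) (Q.map (MulAut.conj g).toMonoidHom) := by
  set e := MulAut.conj g with he
  have hmem : ∀ x : G, e x ∈ Q.map e.toMonoidHom ↔ x ∈ Q := fun x =>
    ⟨fun ⟨q, hq, hqx⟩ => e.injective hqx ▸ hq, fun hx => ⟨x, hx, rfl⟩⟩
  refine
    { two := ?_, ne := ?_, mem := ?_, le := ?_, conj := ?_, cent := ?_, sq := ?_, comm := ?_,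
      centre_inv := ?_, sep := ?_, small := ?_ }
  · show e z * e z = 1
    rw [← map_mul, h.two, map_one]
  · exact fun hh => h.ne (e.injective (hh.trans (map_one e).symm))
  · exact (hmem z).2 h.mem
  · rintro _ ⟨q, hq, rfl⟩
    show e q * e z = e z * e q
    rw [← map_mul, ← map_mul, h.le q hq]
  · intro c hc q hq
    obtain ⟨c, rfl⟩ := e.surjective c
    obtain ⟨q, hq, rfl⟩ := hq
    have hc' : e c * e z = e z * e c := hc
    rw [← map_mul, ← map_mul] at hc'
    show e c * e q * (e c)⁻¹ ∈ _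
    rw [← map_mul, ← map_inv, ← map_mul, hmem]
    exact h.conj c (e.injective hc') q hq
  · intro c hc hq
    obtain ⟨c, rfl⟩ := e.surjective c
    have hc' : e c * e z = e z * e c := hc
    rw [← map_mul, ← map_mul] at hc'
    rw [hmem]
    exact h.cent c (e.injective hc') fun q hq' => e.injective (by
      rw [map_mul, map_mul]; exact hq _ ((hmem q).2 hq'))
  · rintro _ ⟨q, hq, rfl⟩
    show e q * e q = 1 ∨ e q * e q = e z
    rw [← map_mul]
    rcases h.sq q hq with h1 | h1 <;> rw [h1]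
    · exact Or.inl (map_one e)
    · exact Or.inr rfl
  · rintro _ ⟨a, ha, rfl⟩ _ ⟨b, hb, rfl⟩
    show e a * e b * (e a)⁻¹ * (e b)⁻¹ = 1 ∨ e a * e b * (e a)⁻¹ * (e b)⁻¹ = e z
    rw [← map_mul, ← map_inv, ← map_mul, ← map_inv, ← map_mul]
    rcases h.comm a ha b hb with h1 | h1 <;> rw [h1]
    · exact Or.inl (map_one e)
    · exact Or.inr rfl
  · rintro _ ⟨q, hq, rfl⟩ hr hqq
    have hc : ∀ r ∈ Q, r * q = q * r := fun r hr' => e.injective (by
      rw [map_mul, map_mul]; exact hr _ ((hmem r).2 hr'))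
    rcases h.centre_inv q hq hc (e.injective (by rw [map_mul, map_one]; exact hqq)) with h1 | h1
    · left; rw [h1]; exact map_one e
    · right; rw [h1]; rfl
  · intro D hDQ hDc x hx hxD
    obtain ⟨x, hx, rfl⟩ := hx
    obtain ⟨e', he', hd, hne⟩ := h.sep (D.comap e.toMonoidHom)
      (fun d hd => (hmem d).1 (hDQ hd))
      (fun q hq hc => hDc (e q) ((hmem q).2 hq) (by
        rintro _ ⟨r, hr, rfl⟩
        show e r * e q = e q * e r
        rw [← map_mul, ← map_mul, hc r hr])) x hx hxD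
    refine ⟨e e', (hmem e').2 he', fun d hd' => ?_, fun hh => hne (e.injective ?_)⟩
    · obtain ⟨d, rfl⟩ := e.surjective d
      rw [← map_mul, ← map_mul, hd d hd']
    · rw [map_mul, map_mul]; exact hh
  · intro hodd c hc
    obtain ⟨c, rfl⟩ := e.surjective c
    have hcomm : ∀ x : G, x * z = z * x → e x * (g * z * g⁻¹) = (g * z * g⁻¹) * e x := fun x hx => by
      show e x * e z = e z * e x
      rw [← map_mul, ← map_mul, hx]
    rw [hmem]
    refine h.small (fun x hx ho => e.injective ?_) c ?_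
    · rw [map_one]
      exact hodd (e x) (hcomm x hx) (by rwa [MulEquiv.orderOf_eq])
    · have hc' : e c * e z = e z * e c := hc
      rw [← map_mul, ← map_mul] at hc'
      exact e.injective hc'

theorem eq_one_of_odd_of_conj_two {a x y : G} (ha : Odd (orderOf a))
    (h2 : (a * a) * x * (a * a)⁻¹ = x) (h1 : a * x * a⁻¹ = y) : y = x := by
  obtain ⟨k, hk⟩ := ha
  have hc : Commute (a * a) x := mul_inv_eq_iff_eq_mul.1 h2
  have hc2 := hc.pow_left (k + 1)
  have e : (a * a) ^ (k + 1) = a := by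
    rw [← _root_.sq, ← pow_mul, show 2 * (k + 1) = orderOf a + 1 by omega, pow_succ, pow_orderOf_eq_one,
      one_mul]
  rw [e] at hc2
  rw [← h1, hc2.eq, mul_inv_cancel_right]

variable {z z' : G} {Q Q' : Subgroup G}

/-- Some element of `Q` moves `z'` to `z z'`. -/
theorem SympCentre.exists_move (h : SympCentre z Q) (hne : z' ≠ z) (hz'1 : z' ≠ 1)
    (hz' : z' * z' = 1) (hin : z' ∈ Q) : ∃ q ∈ Q, q * z' * q⁻¹ = z * z' := by
  by_contra hh
  push Not at hh
  refine hne ((h.centre_inv z' hin (fun r hr => ?_) hz').resolve_left hz'1)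
  rcases h.comm r hr z' hin with e | e
  · exact mul_inv_eq_iff_eq_mul.1 (mul_inv_eq_one.1 e)
  · exact absurd (mul_inv_eq_iff_eq_mul.1 e) (hh r hr)

/-- The centraliser in `Q` of an involution `z'` of `Q` cannot be elementary abelian unless the
centraliser of `z` has no nontrivial elements of odd order. -/
theorem SympCentre.exists_square_or_comm [Finite G] (h : SympCentre z Q) (hne : z' ≠ z)
    (hz'1 : z' ≠ 1) (hz' : z' * z' = 1) (hin : z' ∈ Q)
    (hnot : ∃ c : G, c * z = z * c ∧ Odd (orderOf c) ∧ c ≠ 1) :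
    (∃ p ∈ Q, p * z' = z' * p ∧ p * p = z) ∨
      ∃ p ∈ Q, p * z' = z' * p ∧ ∃ r ∈ Q, r * z' = z' * r ∧ p * r * p⁻¹ * r⁻¹ = z := by
  by_contra hh
  push Not at hh
  obtain ⟨hh1, hh2⟩ := hh
  have hsq : ∀ p ∈ Q, p * z' = z' * p → p * p = 1 := fun p hp hc =>
    (h.sq p hp).resolve_right (hh1 p hp hc)
  have hcom : ∀ p ∈ Q, p * z' = z' * p → ∀ r ∈ Q, r * z' = z' * r → p * r = r * p := fun p hp hpc r hr hrc =>
    mul_inv_eq_iff_eq_mul.1 (mul_inv_eq_one.1
      ((h.comm p hp r hr).resolve_right (hh2 p hp hpc r hr hrc)))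
  -- the centraliser is `{1, z, z', z z'}`
  have hzz' : z * z' = z' * z := (h.le z' hin).symm
  set D : Subgroup G := closure {z, z'} with hD
  have hDmem : ∀ d ∈ D, d = 1 ∨ d = z ∨ d = z' ∨ d = z * z' := by
    intro d hd
    induction hd using closure_induction with
    | mem x hx => rcases hx with rfl | rfl <;> simp
    | one => simp
    | mul x y _ _ hx hy =>
      have e1 : z * (z * z') = z' := by rw [← mul_assoc, h.two, one_mul]
      have e2 : z' * (z * z') = z := by rw [← mul_assoc, ← hzz', mul_assoc, hz', mul_one]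
      have e3 : z * z' * z = z' := by rw [hzz', mul_assoc, h.two, mul_one]
      have e4 : z * z' * z' = z := by rw [mul_assoc, hz', mul_one]
      have e5 : z * z' * (z * z') = 1 := by rw [← mul_assoc, e3, hz']
      rcases hx with rfl | rfl | rfl | rfl <;> rcases hy with rfl | rfl | rfl | rfl <;>
        simp [h.two, hz', e1, e2, e3, e4, e5, hzz'.symm]
    | inv x _ hx =>
      rcases hx with rfl | rfl | rfl | rfl
      · simp
      · right; left; exact inv_eq_of_mul_eq_one_right h.two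
      · right; right; left; exact inv_eq_of_mul_eq_one_right hz'
      · right; right; right
        rw [mul_inv_rev, inv_eq_of_mul_eq_one_right h.two, inv_eq_of_mul_eq_one_right hz', hzz']
  have hDQ : D ≤ Q := (closure_le Q).2 (by
    intro d hd; rcases hd with rfl | rfl; exacts [h.mem, hin])
  have hPD : ∀ p ∈ Q, p * z' = z' * p → p ∈ D := by
    intro p hp hc
    by_contra hpD
    obtain ⟨e, heQ, hed, hne'⟩ := h.sep D hDQ (fun q hq hr => by
      have hqc := (hr z' hin).symm
      rcases h.centre_inv q hq hr (hsq q hq hqc) with rfl | rfl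
      · exact D.one_mem
      · exact subset_closure (by simp)) p hp hpD
    exact hne' (hcom e heQ (hed z' (subset_closure (by simp))) p hp hc)
  have hPcases : ∀ p ∈ Q, p * z' = z' * p → p = 1 ∨ p = z ∨ p = z' ∨ p = z * z' :=
    fun p hp hc => hDmem p (hPD p hp hc)
  obtain ⟨a, haz, hodd, ha1⟩ := hnot
  have hza : a * z * a⁻¹ = z := mul_inv_eq_iff_eq_mul.2 haz
  -- `a` fixes `z'`
  have hclass : ∀ b : G, Odd (orderOf b) → b * z * b⁻¹ = z →
      (b * z' * b⁻¹ = z' ∨ b * z' * b⁻¹ = z * z') → b * z' * b⁻¹ = z' := by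
    intro b hb hbz hbc
    rcases hbc with hbc | hbc
    · exact hbc
    refine eq_one_of_odd_of_conj_two hb ?_ rfl
    calc (b * b) * z' * (b * b)⁻¹ = b * (b * z' * b⁻¹) * b⁻¹ := by group
      _ = b * (z * z') * b⁻¹ := by rw [hbc]
      _ = (b * z * b⁻¹) * (b * z' * b⁻¹) := by group
      _ = z' := by rw [hbz, hbc, ← mul_assoc, h.two, one_mul]
  have hfix : a * z' * a⁻¹ = z' := by
    set r := a * z' * a⁻¹ with hr
    have hrQ : r ∈ Q := h.conj a haz z' hin
    have hr1 : r ≠ 1 := fun e => hz'1 (conj_eq_one_iff.1 e)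
    have hrz : r ≠ z := fun e => hne (mul_left_cancel (mul_right_cancel
      ((e : a * z' * a⁻¹ = z).trans hza.symm)))
    have hrr : r * r = 1 := by
      calc r * r = a * (z' * z') * a⁻¹ := by rw [hr]; group
        _ = 1 := by rw [hz']; group
    by_cases hrc : r * z' = z' * r
    · rcases hPcases r hrQ hrc with e | e | e | e
      · exact absurd e hr1
      · exact absurd e hrz
      · exact e
      · exact hclass a hodd hza (Or.inr e)
    · exfalso
      set r' := a * r * a⁻¹ with hr'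
      have hr'Q : r' ∈ Q := h.conj a haz r hrQ
      have hr'r : r' * r' = 1 := by
        calc r' * r' = a * (r * r) * a⁻¹ := by rw [hr']; group
          _ = 1 := by rw [hrr]; group
      by_cases hr'c : r' * z' = z' * r'
      · have hodd2 : Odd (orderOf (a * a)) := by
          rw [← _root_.sq, orderOf_pow' _ two_ne_zero, Nat.coprime_two_right.2 hodd |>.gcd_eq_one, Nat.div_one]
          exact hodd
        have hza2 : (a * a) * z * (a * a)⁻¹ = z := by
          calc (a * a) * z * (a * a)⁻¹ = a * (a * z * a⁻¹) * a⁻¹ := by group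
            _ = z := by rw [hza, hza]
        have e' : (a * a) * z' * (a * a)⁻¹ = r' := by rw [hr', hr]; group
        have h' : (a * a) * z' * (a * a)⁻¹ = z' := by
          refine hclass (a * a) hodd2 hza2 ?_
          rcases hPcases r' hr'Q hr'c with e | e | e | e
          · exfalso
            rw [e] at e'
            exact hz'1 (conj_eq_one_iff.1 e')
          · exfalso
            rw [e] at e'
            exact hne (mul_left_cancel (mul_right_cancel (e'.trans hza2.symm)))
          · left; rw [e', e]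
          · right; rw [e', e]
        exact hrc (by rw [show r = z' from eq_one_of_odd_of_conj_two hodd h' hr.symm])
      · -- now `r * r'` centralises `z'`
        have hm : (r * r') * z' = z' * (r * r') := by
          have h1 : ∀ x ∈ Q, x * z' ≠ z' * x → x * z' = z * (z' * x) := by
            intro x hx hxc
            have e := (h.comm x hx z' hin).resolve_left
              (fun e => hxc (mul_inv_eq_iff_eq_mul.1 (mul_inv_eq_one.1 e)))
            rw [← e]; group
          calc (r * r') * z' = r * (r' * z') := mul_assoc _ _ _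
            _ = (r * z) * (z' * r') := by rw [h1 r' hr'Q hr'c]; group
            _ = z * (r * z') * r' := by rw [h.le r hrQ]; group
            _ = (z * z) * (z' * r) * r' := by rw [h1 r hrQ hrc]; group
            _ = z' * (r * r') := by rw [h.two]; group
        have hrinv : r⁻¹ = r := inv_eq_of_mul_eq_one_right hrr
        have hr'eq : r' = r * (r * r') := by rw [← mul_assoc, hrr, one_mul]
        have hrc' : (z' * r) * (z' * r) = 1 → r * z' = z' * r := fun e => by
          have := inv_eq_of_mul_eq_one_right e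
          rw [mul_inv_rev, hrinv, inv_eq_of_mul_eq_one_right hz'] at this
          exact this
        rcases hPcases _ (mul_mem hrQ hr'Q) hm with e | e | e | e
        · have e1 : r' = r := by rw [hr'eq, e, mul_one]
          have e2 : a * r * a⁻¹ = a * z' * a⁻¹ := e1
          exact hrc (by rw [mul_left_cancel (mul_right_cancel e2)])
        · have e1 : a * r * a⁻¹ = a * (z * z') * a⁻¹ := by
            calc a * r * a⁻¹ = r * (r * r') := hr'eq
              _ = z * r := by rw [e, h.le r hrQ]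
              _ = (a * z * a⁻¹) * (a * z' * a⁻¹) := by rw [hza]
              _ = _ := by group
          refine hrc ?_
          rw [mul_left_cancel (mul_right_cancel e1), mul_assoc, hz', mul_one, ← mul_assoc, ← hzz',
            mul_assoc, hz', mul_one]
        · refine hrc (hrc' ?_)
          have e1 : r' = r * z' := by rw [hr'eq, e]
          have h3 : (r * z') * (r * z') = 1 := e1 ▸ hr'r
          calc (z' * r) * (z' * r) = z' * ((r * z') * (r * z')) * z' := by
                simp only [mul_assoc, hz', mul_one]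
            _ = 1 := by rw [h3, mul_one, hz']
        · refine hrc (hrc' ?_)
          have e1 : r' = r * (z * z') := by rw [hr'eq, e]
          have h3 : (r * z') * (r * z') = 1 := by
            have h4 : (r * (z * z')) * (r * (z * z')) = 1 := e1 ▸ hr'r
            have e5 : r * (z * z') = z * (r * z') := by rw [← mul_assoc, h.le r hrQ, mul_assoc]
            rw [e5] at h4
            have hzr : (r * z') * z = z * (r * z') := h.le _ (mul_mem hrQ hin)
            rw [mul_assoc, ← mul_assoc (r * z') z, hzr, mul_assoc, ← mul_assoc z z, h.two, one_mul] at h4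
            exact h4
          calc (z' * r) * (z' * r) = z' * ((r * z') * (r * z')) * z' := by
                simp only [mul_assoc, hz', mul_one]
            _ = 1 := by rw [h3, mul_one, hz']
  -- so `a` centralises `Q`
  have hPfix : ∀ p ∈ Q, p * z' = z' * p → a * p * a⁻¹ = p := by
    intro p hp hpc
    rcases hPcases p hp hpc with rfl | rfl | rfl | rfl
    · group
    · exact hza
    · exact hfix
    · calc a * (z * z') * a⁻¹ = (a * z * a⁻¹) * (a * z' * a⁻¹) := by group
        _ = z * z' := by rw [hza, hfix]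
  have hall : ∀ q ∈ Q, a * q = q * a := by
    intro q hq
    refine mul_inv_eq_iff_eq_mul.1 ?_
    by_cases hqc : q * z' = z' * q
    · exact hPfix q hq hqc
    set w := a * q * a⁻¹ * q⁻¹ with hw
    have hwQ : w ∈ Q := Q.mul_mem (h.conj a haz q hq) (inv_mem hq)
    have hwc : w * z' = z' * w := by
      have h1 : q * z' * q⁻¹ = z * z' := mul_inv_eq_iff_eq_mul.1
        ((h.comm q hq z' hin).resolve_left
          (fun e => hqc (mul_inv_eq_iff_eq_mul.1 (mul_inv_eq_one.1 e))))
      have h2 : q⁻¹ * z' * q = z * z' := by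
        have : q⁻¹ * (z * z') * q = z' := by rw [← h1]; group
        calc q⁻¹ * z' * q = (q⁻¹ * z * q) * (q⁻¹ * (z * z') * q) := by
              rw [show (q⁻¹ * z * q) * (q⁻¹ * (z * z') * q) = q⁻¹ * ((z * z) * z') * q by group,
                h.two, one_mul]
          _ = z * z' := by rw [this, mul_assoc q⁻¹ z q, ← h.le q hq, inv_mul_cancel_left]
      refine mul_inv_eq_iff_eq_mul.1 ?_
      have e3 : a⁻¹ * (z * z') * a = z * z' := by
        calc a⁻¹ * (z * z') * a = a⁻¹ * ((a * z * a⁻¹) * (a * z' * a⁻¹)) * a := by rw [hza, hfix]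
          _ = z * z' := by group
      calc w * z' * w⁻¹ = a * (q * (a⁻¹ * (q⁻¹ * z' * q) * a) * q⁻¹) * a⁻¹ := by rw [hw]; group
        _ = a * (q * (z * z') * q⁻¹) * a⁻¹ := by rw [h2, e3]
        _ = a * ((q * z * q⁻¹) * (q * z' * q⁻¹)) * a⁻¹ := by group
        _ = a * z' * a⁻¹ := by
            rw [h.le q hq, mul_inv_cancel_right, h1, ← mul_assoc z z z', h.two, one_mul]
        _ = z' := hfix
    have hwfix : a * w * a⁻¹ = w := hPfix w hwQ hwc
    have hiter : ∀ n : ℕ, a ^ n * q * (a ^ n)⁻¹ = w ^ n * q := by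
      intro n
      induction n with
      | zero => simp
      | succ n ih =>
        calc a ^ (n + 1) * q * (a ^ (n + 1))⁻¹ = a * (a ^ n * q * (a ^ n)⁻¹) * a⁻¹ := by
              rw [pow_succ']; group
          _ = (a * w * a⁻¹) ^ n * (a * q * a⁻¹) := by rw [ih, conj_pow]; group
          _ = w ^ n * (w * q) := by rw [hwfix, hw]; group
          _ = w ^ (n + 1) * q := by rw [← mul_assoc, ← pow_succ]
    have hn := hiter (orderOf a)
    rw [pow_orderOf_eq_one, one_mul, inv_one, mul_one, eq_comm, mul_eq_right] at hn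
    obtain ⟨k, hk⟩ := hodd
    rw [hk, pow_succ, pow_mul, _root_.sq, hsq w hwQ hwc, one_pow, one_mul] at hn
    exact mul_inv_eq_one.1 hn
  have haQ : a ∈ Q := h.cent a haz hall
  refine ha1 ?_
  have hcent : ∀ r ∈ Q, r * a = a * r := fun r hr => (hall r hr).symm
  have haa : a * a = 1 := hsq a haQ (hcent z' hin).symm
  have hd : orderOf a ∣ 2 := orderOf_dvd_of_pow_eq_one (by rw [_root_.sq]; exact haa)
  rcases (Nat.dvd_prime Nat.prime_two).1 hd with e | e
  · exact orderOf_eq_one_iff.1 e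
  · rw [e] at hodd; exact absurd hodd (by decide)

/-- Some element of `Q'` moves `z` to `z' z`. -/
theorem SympCentre.exists_move_back [Finite G] (h : SympCentre z Q) (h' : SympCentre z' Q')
    {g : G} (hg : g * z * g⁻¹ = z')
    (hne : z' ≠ z) (hin : z' ∈ Q) : ∃ u ∈ Q', u * z * u⁻¹ = z' * z := by
  by_contra hh
  push Not at hh
  have hzz' : z * z' = z' * z := (h.le z' hin).symm
  have hzinv : z⁻¹ = z := inv_eq_of_mul_eq_one_right h.two
  have hz'inv : z'⁻¹ = z' := inv_eq_of_mul_eq_one_right h'.two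
  have hzC : ∀ y ∈ Q', z * y * z⁻¹ ∈ Q' := h'.conj z hzz'
  have hT : ∀ t : G, (t = 1 ∨ t = z') → t * t = 1 ∧ ∀ x : G, x * z' = z' * x → t * x = x * t := by
    rintro t (rfl | rfl)
    · simp
    · exact ⟨h'.two, fun x hx => hx.symm⟩
  have B1 : ∀ y ∈ Q', (z * y * z⁻¹ * y⁻¹ = 1 ∨ z * y * z⁻¹ * y⁻¹ = z') → z * y = y * z := by
    intro y hy hc
    rcases hc with e | e
    · exact mul_inv_eq_iff_eq_mul.1 (mul_inv_eq_one.1 e)
    · exfalso
      refine hh y hy ?_
      calc y * z * y⁻¹ = z * (z * y * z⁻¹ * y⁻¹) := by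
            rw [hzinv]
            simp only [← mul_assoc, h.two, one_mul]
        _ = z' * z := by rw [e, hzz']
  have hfinish : (∀ y ∈ Q', z * y = y * z) → False := fun hall => by
    have hzQ' : z ∈ Q' := h'.cent z hzz' hall
    rcases h'.centre_inv z hzQ' (fun r hr => (hall r hr).symm) h.two with e | e
    · exact h.ne e
    · exact hne e.symm
  by_cases hzQ' : z ∈ Q'
  · exact hfinish fun y hy => B1 y hy (h'.comm z hzQ' y hy)
  have hsplit := h.exists_square_or_comm hne h'.ne h'.two hin (by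
    by_contra hno
    push Not at hno
    refine hzQ' (h'.small (fun c hc ho => ?_) z hzz')
    have h2 : g⁻¹ * c * g = 1 := by
      refine hno _ ?_ (by
        rw [show g⁻¹ * c * g = g⁻¹ * c * g⁻¹⁻¹ by group]
        exact (MulEquiv.orderOf_eq (MulAut.conj g⁻¹) c).symm ▸ ho)
      rw [← hg] at hc
      calc g⁻¹ * c * g * z = g⁻¹ * (c * (g * z * g⁻¹)) * g := by group
        _ = g⁻¹ * ((g * z * g⁻¹) * c) * g := by rw [hc]
        _ = z * (g⁻¹ * c * g) := by group
    calc c = g * (g⁻¹ * c * g) * g⁻¹ := by group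
      _ = 1 := by rw [h2]; group)
  -- elements of `Q ∩ Q'` centralising `z'`
  have hPQ' : ∀ w ∈ Q, w ∈ Q' → w = 1 ∨ w = z' := by
    intro w hwQ hwQ'
    have hwz' : w * z' = z' * w := h'.le w hwQ'
    have hwP : ∀ p ∈ Q, p * z' = z' * p → w * p = p * w := by
      intro p hp hpc
      rcases h.comm w hwQ p hp with e | e
      · exact mul_inv_eq_iff_eq_mul.1 (mul_inv_eq_one.1 e)
      · refine absurd ?_ hzQ'
        rw [← e, show w * p * w⁻¹ * p⁻¹ = w * (p * w⁻¹ * p⁻¹) by group]
        exact mul_mem hwQ' (h'.conj p hpc _ (inv_mem hwQ'))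
    have hww : w * w = 1 := (h.sq w hwQ).resolve_right fun e => hzQ' (e ▸ mul_mem hwQ' hwQ')
    set D : Subgroup G := closure ({c : G | c ∈ Q ∧ ∀ r ∈ Q, r * c = c * r} ∪ {z'}) with hD
    have hDQ : D ≤ Q := (closure_le Q).2 (by
      rintro x (hx | hx)
      · exact hx.1
      · exact hx.symm ▸ hin)
    have hDcases : ∀ d ∈ D, ∃ c, (c ∈ Q ∧ ∀ r ∈ Q, r * c = c * r) ∧ (d = c ∨ d = c * z') := by
      intro d hd
      induction hd using closure_induction with
      | mem x hx =>
        rcases hx with hx | hx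
        · exact ⟨x, hx, Or.inl rfl⟩
        · exact ⟨1, ⟨Q.one_mem, fun r _ => by simp⟩, Or.inr (by rw [one_mul]; exact hx)⟩
      | one => exact ⟨1, ⟨Q.one_mem, fun r _ => by simp⟩, Or.inl rfl⟩
      | mul x y _ _ hx hy =>
        obtain ⟨a, ⟨ha, hac⟩, hxa⟩ := hx
        obtain ⟨b, ⟨hb, hbc⟩, hyb⟩ := hy
        refine ⟨a * b, ⟨mul_mem ha hb, fun r hr => by
          rw [← mul_assoc, hac r hr, mul_assoc, hbc r hr, mul_assoc]⟩, ?_⟩
        have hzb : z' * b = b * z' := hbc z' hin
        rcases hxa with rfl | rfl <;> rcases hyb with rfl | rfl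
        · exact Or.inl rfl
        · exact Or.inr (by rw [mul_assoc])
        · exact Or.inr (by rw [mul_assoc, hzb, mul_assoc])
        · left
          rw [mul_assoc a z', ← mul_assoc z' b, hzb, mul_assoc b, h'.two, mul_one]
      | inv x _ hx =>
        obtain ⟨a, ⟨ha, hac⟩, hxa⟩ := hx
        refine ⟨a⁻¹, ⟨inv_mem ha, fun r hr => ?_⟩, ?_⟩
        · exact (Commute.inv_right (hac r hr)).eq
        · rcases hxa with rfl | rfl
          · exact Or.inl rfl
          · right
            rw [mul_inv_rev, hz'inv]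
            exact (Commute.inv_right (hac z' hin)).eq
    have hwD : w ∈ D := by
      by_contra hwD
      obtain ⟨e, heQ, hed, hne'⟩ := h.sep D hDQ
        (fun q hq hr => subset_closure (Or.inl ⟨hq, hr⟩)) w hwQ hwD
      exact hne' (hwP e heQ (hed z' (subset_closure (Or.inr rfl)))).symm
    obtain ⟨c, ⟨hcQ, hcc⟩, rfl | rfl⟩ := hDcases w hwD
    · rcases h.centre_inv w hcQ hcc hww with e | e
      · exact Or.inl e
      · exact absurd (e ▸ hwQ') hzQ'
    · have hcQ' : c ∈ Q' := by simpa using mul_mem hwQ' (inv_mem h'.mem)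
      have hcz : z' * c = c * z' := hcc z' hin
      have hccc : c * c = 1 := by
        calc c * c = c * c * (z' * z') := by rw [h'.two, mul_one]
          _ = c * (c * z') * z' := by simp only [mul_assoc]
          _ = c * (z' * c) * z' := by rw [hcz]
          _ = (c * z') * (c * z') := by simp only [mul_assoc]
          _ = 1 := hww
      rcases h.centre_inv c hcQ hcc hccc with e | e
      · right; rw [e, one_mul]
      · exact absurd (e ▸ hcQ') hzQ'
  have hUP : ∀ u ∈ Q', z * u = u * z → ∀ p ∈ Q, p * z' = z' * p →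
      ∃ t : G, (t = 1 ∨ t = z') ∧ p * u * p⁻¹ = t * u := by
    intro u hu huz p hp hpc
    refine ⟨p * u * p⁻¹ * u⁻¹, hPQ' _ ?_ (mul_mem (h'.conj p hpc u hu) (inv_mem hu)), by group⟩
    rw [show p * u * p⁻¹ * u⁻¹ = p * (u * p⁻¹ * u⁻¹) by group]
    exact mul_mem hp (h.conj u huz.symm _ (inv_mem hp))
  -- the centre of `Q'` is centralised by `z`
  have hcentre : ∀ c ∈ Q', (∀ r ∈ Q', r * c = c * r) → z * c = c * z := by
    intro c hc hcr
    refine B1 c hc ?_
    have hd : z * c * z⁻¹ ∈ Q' := hzC c hc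
    have hdr : ∀ r ∈ Q', r * (z * c * z⁻¹) = (z * c * z⁻¹) * r := by
      intro r hr
      have := hcr (z⁻¹ * r * z⁻¹⁻¹) (h'.conj z⁻¹ (by rw [hzinv]; exact hzz') r hr)
      rw [inv_inv] at this
      calc r * (z * c * z⁻¹) = z * ((z⁻¹ * r * z) * c) * z⁻¹ := by group
        _ = z * (c * (z⁻¹ * r * z)) * z⁻¹ := by rw [this]
        _ = _ := by group
    have hsq2 : (z * c * z⁻¹) * (z * c * z⁻¹) = c * c := by
      have e : (z * c * z⁻¹) * (z * c * z⁻¹) = z * (c * c) * z⁻¹ := by group
      rw [e]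
      rcases h'.sq c hc with e | e <;> rw [e]
      · group
      · exact mul_inv_eq_iff_eq_mul.2 hzz'
    refine h'.centre_inv _ (mul_mem hd (inv_mem hc)) (fun r hr => ?_) ?_
    · rw [← mul_assoc r, hdr r hr, mul_assoc (z * c * z⁻¹) r, (Commute.inv_right (hcr r hr)).eq,
        mul_assoc (z * c * z⁻¹) c⁻¹ r]
    · have e : c⁻¹ * (z * c * z⁻¹) = (z * c * z⁻¹) * c⁻¹ := by
        rw [← (Commute.inv_right (hcr _ hd)).eq]
      calc (z * c * z⁻¹ * c⁻¹) * (z * c * z⁻¹ * c⁻¹)
          = (z * c * z⁻¹) * (c⁻¹ * (z * c * z⁻¹)) * c⁻¹ := by group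
        _ = (z * c * z⁻¹) * ((z * c * z⁻¹) * c⁻¹) * c⁻¹ := by rw [e]
        _ = ((z * c * z⁻¹) * (z * c * z⁻¹)) * (c⁻¹ * c⁻¹) := by group
        _ = 1 := by rw [hsq2]; group
  -- commutators with `z` are centralised by `z`
  have hw_in : ∀ y ∈ Q', z * (z * y * z⁻¹ * y⁻¹) = (z * y * z⁻¹ * y⁻¹) * z := by
    intro y hy
    set w := z * y * z⁻¹ * y⁻¹ with hw
    have hwQ' : w ∈ Q' := mul_mem (hzC y hy) (inv_mem hy)
    refine B1 w hwQ' ?_
    have e : z * w * z⁻¹ = w⁻¹ := by
      calc z * w * z⁻¹ = (z * z) * y * z⁻¹ * y⁻¹ * z⁻¹ := by rw [hw]; group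
        _ = w⁻¹ := by rw [h.two, hw, hzinv]; simp [mul_assoc, hzinv]
    rw [e, ← mul_inv_rev]
    rcases h'.sq w hwQ' with e' | e' <;> rw [e']
    · exact Or.inl inv_one
    · exact Or.inr hz'inv
  set D' : Subgroup G := closure ({x : G | ∃ y ∈ Q', z * y * z⁻¹ * y⁻¹ = x} ∪
    {c : G | c ∈ Q' ∧ ∀ r ∈ Q', r * c = c * r}) with hD'
  have hD'Q : D' ≤ Q' := (closure_le Q').2 (by
    rintro x (⟨y, hy, rfl⟩ | hx)
    · exact mul_mem (hzC y hy) (inv_mem hy)
    · exact hx.1)
  have hD'U : ∀ d ∈ D', z * d = d * z := by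
    intro d hd
    induction hd using closure_induction with
    | mem x hx =>
      rcases hx with ⟨y, hy, rfl⟩ | ⟨hc, hcr⟩
      · exact hw_in y hy
      · exact hcentre x hc hcr
    | one => simp
    | mul x y _ _ hx hy => exact ((show Commute z x from hx).mul_right (show Commute z y from hy)).eq
    | inv x _ hx => exact (show Commute z x from hx).inv_right.eq
  -- commutation constants
  have hf : ∀ a ∈ Q', ∀ b ∈ Q', ∃ c : G, (c = 1 ∨ c = z') ∧ a * b = c * (b * a) := fun a ha b hb =>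
    ⟨a * b * a⁻¹ * b⁻¹, h'.comm a ha b hb, by group⟩
  have hflip : ∀ {a b c : G}, (c = 1 ∨ c = z') → a * z' = z' * a → a * b = c * (b * a) →
      a⁻¹ * b = c * (b * a⁻¹) := by
    intro a b c hc ha e
    have hac : c * a = a * c := (hT c hc).2 a ha
    calc a⁻¹ * b = a⁻¹ * c * (c * (b * a)) * a⁻¹ := by
          rw [← mul_assoc, mul_assoc a⁻¹ c c, (hT c hc).1]; group
      _ = a⁻¹ * c * (a * b) * a⁻¹ := by rw [e]
      _ = a⁻¹ * (c * a) * b * a⁻¹ := by group
      _ = c * (b * a⁻¹) := by rw [hac]; group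
  -- `z`-fixed elements of `Q'` centralise `D'`
  have hUD : ∀ u ∈ Q', z * u = u * z → ∀ d ∈ D', u * d = d * u := by
    intro u hu huz d hd
    induction hd using closure_induction with
    | mem x hx =>
      rcases hx with ⟨y, hy, rfl⟩ | ⟨_, hcr⟩
      · obtain ⟨c, hc, e⟩ := hf y hy u hu
        have hcz : c * z = z * c := (hT c hc).2 z hzz'
        have e1 : (z * y * z⁻¹) * u = c * (u * (z * y * z⁻¹)) := by
          calc (z * y * z⁻¹) * u = z * (y * (z⁻¹ * u * z)) * z⁻¹ := by group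
            _ = z * (y * u) * z⁻¹ := by rw [mul_assoc z⁻¹ u z, ← huz, inv_mul_cancel_left]
            _ = (z * c) * (u * y) * z⁻¹ := by rw [e]; group
            _ = c * ((z * u) * y * z⁻¹) := by rw [← hcz]; group
            _ = c * (u * (z * y * z⁻¹)) := by rw [huz]; group
        have e2 := hflip hc (h'.le y hy) e
        calc u * (z * y * z⁻¹ * y⁻¹) = (c * c) * (u * (z * y * z⁻¹)) * y⁻¹ := by
              rw [(hT c hc).1]; group
          _ = c * ((z * y * z⁻¹) * u) * y⁻¹ := by rw [e1]; group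
          _ = (c * (z * y * z⁻¹)) * (u * y⁻¹) := by group
          _ = ((z * y * z⁻¹) * c) * (u * y⁻¹) := by
              rw [(hT c hc).2 _ (h'.le _ (hzC y hy))]
          _ = (z * y * z⁻¹) * (c * (u * y⁻¹)) := by group
          _ = (z * y * z⁻¹ * y⁻¹) * u := by rw [← e2]; group
      · exact hcr u hu
    | one => simp
    | mul x y _ _ hx hy => exact ((show Commute u x from hx).mul_right (show Commute u y from hy)).eq
    | inv x _ hx => exact (show Commute u x from hx).inv_right.eq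
  -- and conversely
  have hCU : ∀ x ∈ Q', (∀ u ∈ Q', z * u = u * z → x * u = u * x) → x ∈ D' := by
    intro x hx hxu
    by_contra hxD
    obtain ⟨e, heQ, hed, hne'⟩ := h'.sep D' hD'Q
      (fun q hq hr => subset_closure (Or.inr ⟨hq, hr⟩)) x hx hxD
    refine hne' (hxu e heQ (B1 e heQ ?_)).symm
    set w := z * e * z⁻¹ * e⁻¹ with hw
    have hwQ' : w ∈ Q' := mul_mem (hzC e heQ) (inv_mem heQ)
    have hwr : ∀ y ∈ Q', y * w = w * y := by
      intro y hy
      obtain ⟨c, hc, e0⟩ := hf e heQ y hy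
      have he' : e * (z * y * z⁻¹ * y⁻¹) = (z * y * z⁻¹ * y⁻¹) * e :=
        hed _ (subset_closure (Or.inl ⟨y, hy, rfl⟩))
      -- `e` has the same commutation constant with `z y z⁻¹`
      have hcomm_y : c * y = y * c := (hT c hc).2 y (h'.le y hy)
      have e1 : e * (z * y * z⁻¹) = c * ((z * y * z⁻¹) * e) := by
        calc e * (z * y * z⁻¹) = (e * (z * y * z⁻¹ * y⁻¹)) * y := by group
          _ = (z * y * z⁻¹ * y⁻¹) * (e * y) := by rw [he']; group
          _ = (z * y * z⁻¹ * y⁻¹) * (c * (y * e)) := by rw [e0]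
          _ = (z * y * z⁻¹) * (y⁻¹ * (c * y)) * e := by group
          _ = (z * y * z⁻¹) * c * e := by rw [hcomm_y]; group
          _ = c * ((z * y * z⁻¹) * e) := by
              rw [← (hT c hc).2 _ (h'.le _ (hzC y hy))]; group
      have hcz : c * z = z * c := (hT c hc).2 z hzz'
      have e2 : (z * e * z⁻¹) * y = c * (y * (z * e * z⁻¹)) := by
        have hyz : z⁻¹ * y * z = z * y * z⁻¹ := by rw [hzinv]
        calc (z * e * z⁻¹) * y = z * (e * (z⁻¹ * y * z)) * z⁻¹ := by group
          _ = (z * c) * ((z * y * z⁻¹) * e) * z⁻¹ := by rw [hyz, e1]; group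
          _ = c * ((z * z) * y * (z⁻¹ * e * z⁻¹)) := by rw [← hcz]; group
          _ = c * (y * (z * e * z⁻¹)) := by rw [h.two, hzinv]; group
      have e3 := hflip hc (h'.le e heQ) e0
      calc y * w = (c * c) * (y * (z * e * z⁻¹)) * e⁻¹ := by rw [(hT c hc).1, hw]; group
        _ = c * ((z * e * z⁻¹) * y) * e⁻¹ := by rw [e2]; group
        _ = (c * (z * e * z⁻¹)) * (y * e⁻¹) := by group
        _ = ((z * e * z⁻¹) * c) * (y * e⁻¹) := by rw [(hT c hc).2 _ (h'.le _ (hzC e heQ))]
        _ = (z * e * z⁻¹) * (c * (y * e⁻¹)) := by group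
        _ = w * y := by rw [← e3, hw]; group
    have hwz := hw_in e heQ
    have hinv : z * w * z⁻¹ = w⁻¹ := by
      calc z * w * z⁻¹ = (z * z) * e * z⁻¹ * e⁻¹ * z⁻¹ := by rw [hw]; group
        _ = w⁻¹ := by rw [h.two, hw, hzinv]; simp [mul_assoc, hzinv]
    rw [hwz, mul_inv_cancel_right] at hinv
    have hww : w * w = 1 := by
      calc w * w = w * w⁻¹ := by rw [← hinv]
        _ = 1 := mul_inv_cancel w
    exact h'.centre_inv w hwQ' hwr hww
  -- `[p, y] ∈ D'`
  have hdelta : ∀ p ∈ Q, p * z' = z' * p → ∀ y ∈ Q', p * y * p⁻¹ * y⁻¹ ∈ D' := by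
    intro p hp hpc y hy
    refine hCU _ (mul_mem (h'.conj p hpc y hy) (inv_mem hy)) fun u hu huz => ?_
    obtain ⟨t, ht, hpu⟩ := hUP u hu huz p hp hpc
    obtain ⟨c, hc, e⟩ := hf y hy u hu
    have hpy : (p * y * p⁻¹) * z' = z' * (p * y * p⁻¹) := h'.le _ (h'.conj p hpc y hy)
    have e1 : (p * y * p⁻¹) * u = c * (u * (p * y * p⁻¹)) := by
      have hpcc : c * p = p * c := (hT c hc).2 p hpc
      have h1 : (p * y * p⁻¹) * (t * u) = c * ((t * u) * (p * y * p⁻¹)) := by
        rw [← hpu]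
        calc p * y * p⁻¹ * (p * u * p⁻¹) = p * (y * u) * p⁻¹ := by group
          _ = (p * c) * (u * y) * p⁻¹ := by rw [e]; group
          _ = c * (p * u * p⁻¹ * (p * y * p⁻¹)) := by rw [← hpcc]; group
      have h2 : t * ((p * y * p⁻¹) * u) = t * (c * (u * (p * y * p⁻¹))) := by
        calc t * ((p * y * p⁻¹) * u) = (p * y * p⁻¹) * (t * u) := by
              rw [← mul_assoc, (hT t ht).2 _ hpy, mul_assoc]
          _ = c * ((t * u) * (p * y * p⁻¹)) := h1
          _ = (c * t) * (u * (p * y * p⁻¹)) := by group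
          _ = (t * c) * (u * (p * y * p⁻¹)) := by
              rw [(hT c hc).2 t (by rcases ht with rfl | rfl <;> simp)]
          _ = t * (c * (u * (p * y * p⁻¹))) := by group
      exact mul_left_cancel h2
    have e2 := hflip hc (h'.le y hy) e
    symm
    calc u * (p * y * p⁻¹ * y⁻¹) = (c * c) * (u * (p * y * p⁻¹)) * y⁻¹ := by
          rw [(hT c hc).1]; group
      _ = c * ((p * y * p⁻¹) * u) * y⁻¹ := by rw [e1]; group
      _ = (c * (p * y * p⁻¹)) * (u * y⁻¹) := by group
      _ = ((p * y * p⁻¹) * c) * (u * y⁻¹) := by rw [(hT c hc).2 _ hpy]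
      _ = (p * y * p⁻¹) * (c * (u * y⁻¹)) := by group
      _ = (p * y * p⁻¹ * y⁻¹) * u := by rw [← e2]; group
  refine hfinish fun y hy => ?_
  rcases hsplit with ⟨p, hp, hpc, hpp⟩ | ⟨p, hp, hpc, r, hr, hrc, hpr⟩
  · refine B1 y hy ?_
    set d := p * y * p⁻¹ * y⁻¹ with hd
    have hdD := hdelta p hp hpc y hy
    obtain ⟨t, ht, hpd⟩ := hUP d (hD'Q hdD) (hD'U d hdD) p hp hpc
    have e : z * y * z⁻¹ * y⁻¹ = t * (d * d) := by
      calc z * y * z⁻¹ * y⁻¹ = (p * d * p⁻¹) * d := by rw [← hpp, hd]; group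
        _ = t * (d * d) := by rw [hpd, mul_assoc]
    rw [e]
    rcases ht with rfl | rfl <;> rcases h'.sq d (hD'Q hdD) with e' | e' <;> rw [e'] <;>
      simp [h'.two]
  · refine B1 y hy ?_
    have hrp : (r * p) * z' = z' * (r * p) :=
      ((show Commute r z' from hrc).mul_left (show Commute p z' from hpc)).eq
    have hrpi : (r * p)⁻¹ * z' = z' * (r * p)⁻¹ := ((show Commute (r * p) z' from hrp).inv_left).eq
    set y0 := (r * p)⁻¹ * y * (r * p) with hy0
    have hy0Q : y0 ∈ Q' := by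
      have := h'.conj _ hrpi y hy
      rwa [inv_inv] at this
    set dp := p * y0 * p⁻¹ * y0⁻¹ with hdp
    set dr := r * y0 * r⁻¹ * y0⁻¹ with hdr
    have hdpD := hdelta p hp hpc y0 hy0Q
    have hdrD := hdelta r hr hrc y0 hy0Q
    obtain ⟨t, ht, hpd⟩ := hUP dr (hD'Q hdrD) (hD'U dr hdrD) p hp hpc
    obtain ⟨s, hs, hrd⟩ := hUP dp (hD'Q hdpD) (hD'U dp hdpD) r hr hrc
    have hcm : dp * dr = dr * dp := hUD dp (hD'Q hdpD) (hD'U dp hdpD) dr hdrD
    have e1 : (p * r) * y0 * (p * r)⁻¹ = t * (dr * dp) * y0 := by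
      calc (p * r) * y0 * (p * r)⁻¹ = (p * dr * p⁻¹) * dp * y0 := by rw [hdr, hdp]; group
        _ = t * (dr * dp) * y0 := by rw [hpd]; group
    have e2 : y = s * (dr * dp) * y0 := by
      calc y = (r * p) * y0 * (r * p)⁻¹ := by rw [hy0]; group
        _ = (r * dp * r⁻¹) * dr * y0 := by rw [hdr, hdp]; group
        _ = s * (dr * dp) * y0 := by rw [hrd, mul_assoc s dp dr, hcm]
    have e3 : z * y * z⁻¹ * y⁻¹ = t * s⁻¹ := by
      have : z * y * z⁻¹ = (p * r) * y0 * (p * r)⁻¹ := by rw [← hpr, hy0]; group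
      rw [this, e1]
      conv_lhs => arg 2; rw [e2]
      group
    rw [e3]
    rcases ht with rfl | rfl <;> rcases hs with rfl | rfl <;> simp [hz'inv, h'.two]

/-- The four-group `⟨z, z'⟩`: `z ∈ Q'` and every automorphism is induced by `⟨Q, Q'⟩`. -/
theorem SympCentre.main [Finite G] (h : SympCentre z Q) {g : G}
    (h' : SympCentre (g * z * g⁻¹) (Q.map (MulAut.conj g).toMonoidHom))
    (hne : g * z * g⁻¹ ≠ z) (hin : g * z * g⁻¹ ∈ Q) :
    z ∈ Q.map (MulAut.conj g).toMonoidHom ∧
      ∀ u ∈ closure ({z, g * z * g⁻¹} : Set G), ∀ v ∈ closure ({z, g * z * g⁻¹} : Set G),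
        u ≠ 1 → v ≠ 1 → u ≠ v →
          ∃ x ∈ Q ⊔ Q.map (MulAut.conj g).toMonoidHom,
            x * z * x⁻¹ = u ∧ x * (g * z * g⁻¹) * x⁻¹ = v := by
  set z' := g * z * g⁻¹ with hz'
  set Q' := Q.map (MulAut.conj g).toMonoidHom with hQ'
  have hzz' : z * z' = z' * z := (h.le z' hin).symm
  obtain ⟨q, hq, hqz'⟩ := h.exists_move hne h'.ne h'.two hin
  obtain ⟨u, hu, huz⟩ := h.exists_move_back h' rfl hne hin
  have hqz : q * z * q⁻¹ = z := mul_inv_eq_iff_eq_mul.2 (h.le q hq)
  have huz' : u * z' * u⁻¹ = z' := mul_inv_eq_iff_eq_mul.2 (h'.le u hu)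
  have hq2 : q * (z * z') * q⁻¹ = z' := by
    calc q * (z * z') * q⁻¹ = (q * z * q⁻¹) * (q * z' * q⁻¹) := by group
      _ = z' := by rw [hqz, hqz', ← mul_assoc, h.two, one_mul]
  have hu2 : u * (z * z') * u⁻¹ = z := by
    calc u * (z * z') * u⁻¹ = (u * z * u⁻¹) * (u * z' * u⁻¹) := by group
      _ = z := by rw [huz, huz', ← hzz', mul_assoc, h'.two, mul_one]
  set n := u * q * u with hn
  have hnz : n * z * n⁻¹ = z' := by
    calc n * z * n⁻¹ = u * (q * (u * z * u⁻¹) * q⁻¹) * u⁻¹ := by rw [hn]; group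
      _ = z' := by rw [huz, ← hzz', hq2, huz']
  have hnz' : n * z' * n⁻¹ = z := by
    calc n * z' * n⁻¹ = u * (q * (u * z' * u⁻¹) * q⁻¹) * u⁻¹ := by rw [hn]; group
      _ = z := by rw [huz', hqz', hu2]
  refine ⟨?_, fun a ha b hb ha1 hb1 hab => ?_⟩
  · have hc : (g⁻¹ * n) * z = z * (g⁻¹ * n) := by
      refine mul_inv_eq_iff_eq_mul.1 ?_
      calc (g⁻¹ * n) * z * (g⁻¹ * n)⁻¹ = g⁻¹ * (n * z * n⁻¹) * g := by group
        _ = z := by rw [hnz, hz']; group
    refine ⟨(g⁻¹ * n) * z' * (g⁻¹ * n)⁻¹, h.conj _ hc z' hin, ?_⟩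
    show g * ((g⁻¹ * n) * z' * (g⁻¹ * n)⁻¹) * g⁻¹ = z
    calc g * ((g⁻¹ * n) * z' * (g⁻¹ * n)⁻¹) * g⁻¹ = n * z' * n⁻¹ := by group
      _ = z := hnz'
  · have hcl : ∀ d ∈ closure ({z, z'} : Set G), d = 1 ∨ d = z ∨ d = z' ∨ d = z * z' := by
      intro d hd
      induction hd using closure_induction with
      | mem x hx => rcases hx with rfl | rfl <;> simp
      | one => simp
      | mul x y _ _ hx hy =>
        have e1 : z * (z * z') = z' := by rw [← mul_assoc, h.two, one_mul]
        have e2 : z' * (z * z') = z := by rw [← mul_assoc, ← hzz', mul_assoc, h'.two, mul_one]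
        have e3 : z * z' * z = z' := by rw [hzz', mul_assoc, h.two, mul_one]
        have e4 : z * z' * z' = z := by rw [mul_assoc, h'.two, mul_one]
        have e5 : z * z' * (z * z') = 1 := by rw [← mul_assoc, e3, h'.two]
        rcases hx with rfl | rfl | rfl | rfl <;> rcases hy with rfl | rfl | rfl | rfl <;>
          simp [h.two, h'.two, e1, e2, e3, e4, e5, hzz'.symm]
      | inv x _ hx =>
        rcases hx with rfl | rfl | rfl | rfl
        · simp
        · right; left; exact inv_eq_of_mul_eq_one_right h.two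
        · right; right; left; exact inv_eq_of_mul_eq_one_right h'.two
        · right; right; right
          rw [mul_inv_rev, inv_eq_of_mul_eq_one_right h.two, inv_eq_of_mul_eq_one_right h'.two, hzz']
    have hqX : q ∈ Q ⊔ Q' := mem_sup_left hq
    have huX : u ∈ Q ⊔ Q' := mem_sup_right hu
    have hnX : n ∈ Q ⊔ Q' := mul_mem (mul_mem huX hqX) huX
    rcases ((hcl a ha).resolve_left ha1) with e | e | e <;>
      rcases ((hcl b hb).resolve_left hb1) with e' | e' | e' <;> rw [e, e'] at hab ⊢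
    · exact absurd rfl hab
    · exact ⟨1, one_mem _, by group, by group⟩
    · exact ⟨q, hqX, hqz, hqz'⟩
    · exact ⟨n, hnX, hnz, hnz'⟩
    · exact absurd rfl hab
    · refine ⟨u * n, mul_mem huX hnX, ?_, ?_⟩
      · calc u * n * z * (u * n)⁻¹ = u * (n * z * n⁻¹) * u⁻¹ := by group
          _ = z' := by rw [hnz, huz']
      · calc u * n * z' * (u * n)⁻¹ = u * (n * z' * n⁻¹) * u⁻¹ := by group
          _ = z * z' := by rw [hnz', huz, hzz']
    · refine ⟨n * u, mul_mem hnX huX, ?_, ?_⟩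
      · calc n * u * z * (n * u)⁻¹ = n * (u * z * u⁻¹) * n⁻¹ := by group
          _ = (n * z' * n⁻¹) * (n * z * n⁻¹) := by rw [huz]; group
          _ = z * z' := by rw [hnz', hnz]
      · calc n * u * z' * (n * u)⁻¹ = n * (u * z' * u⁻¹) * n⁻¹ := by group
          _ = z := by rw [huz', hnz']
    · exact ⟨u, huX, huz.trans hzz'.symm, huz'⟩
    · exact absurd rfl hab

end H68
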