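import Mathlib
import Cfsg.Agent.H68.Basic
import Cfsg.Agent.H6.Basic

/-! An invariant TI family of non-elementary subgroups of equal order in a finite 2-group
commutes elementwise. -/

set_option autoImplicit false

namespace H68

open H70

/-- In a finite 2-group, outside any proper subgroup there is an element whose square lies inside. -/
theorem exists_sq_mem {G : Type*} [Group G] [Finite G] {T L : Subgroup G} (hT : IsPGroup 2 T)
    (hne : ¬ T ≤ L) : ∃ x ∈ T, x ∉ L ∧ x ^ 2 ∈ L := by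
  classical
  obtain ⟨a, haT, haL⟩ := SetLike.not_le_iff_exists.mp hne
  obtain ⟨n, hn⟩ := IsPGroup.iff_orderOf.mp hT ⟨a, haT⟩
  rw [Subgroup.orderOf_mk] at hn
  have key : ∀ n : ℕ, ∀ a ∈ T, a ∉ L → a ^ (2 ^ n) = 1 → ∃ x ∈ T, x ∉ L ∧ x ^ 2 ∈ L := by
    intro n
    induction n with
    | zero => intro a _ haL h; exact absurd (by simpa using h) (fun h1 : a = 1 => haL (h1 ▸ L.one_mem))
    | succ n ih =>
      intro a haT haL h
      by_cases h2 : a ^ 2 ∈ L
      · exact ⟨a, haT, haL, h2⟩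
      · exact ih (a ^ 2) (T.pow_mem haT 2) h2 (by rw [← pow_mul, ← pow_succ', h])
  exact key n a haT haL (by rw [← hn, pow_orderOf_eq_one])

/-- In a finite 2-group a proper subgroup lies in a proper normal subgroup. -/
theorem exists_normal_overgroup {G : Type*} [Group G] [Finite G] {P R : Subgroup G}
    (hP : IsPGroup 2 P) (hRP : R ≤ P) (hne : R ≠ P) :
    ∃ M : Subgroup G, R ≤ M ∧ M ≤ P ∧ M ≠ P ∧ P ≤ Subgroup.normalizer (M : Set G) := by
  haveI : Fact (Nat.Prime 2) := ⟨Nat.prime_two⟩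
  haveI : Group.IsNilpotent P := hP.isNilpotent
  have htop : R.subgroupOf P ≠ ⊤ := by
    rw [Ne, Subgroup.subgroupOf_eq_top]; exact fun h => hne (le_antisymm hRP h)
  obtain ⟨M, hM, hRM⟩ := (eq_top_or_exists_le_coatom (R.subgroupOf P)).resolve_left htop
  haveI := normalizerCondition_of_isNilpotent (G := P)
  haveI hn : M.Normal := Subgroup.NormalizerCondition.normal_of_coatom _ ‹_› hM
  refine ⟨M.map P.subtype, ?_, Subgroup.map_subtype_le _, ?_, ?_⟩
  · intro r hr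
    exact ⟨⟨r, hRP hr⟩, hRM (Subgroup.mem_subgroupOf.mpr hr), rfl⟩
  · intro h
    apply hM.1
    rw [eq_top_iff]
    intro x _
    have : (x : G) ∈ M.map P.subtype := by rw [h]; exact x.2
    obtain ⟨y, hy, hyx⟩ := this
    rwa [← Subtype.ext hyx]
  · intro g hg
    refine Subgroup.le_normalizer_map P.subtype ⟨⟨g, hg⟩, ?_, rfl⟩
    rw [Subgroup.normalizer_eq_top]; trivial

/-- An invariant TI family of non-elementary subgroups of the same order in a finite 2-group
commutes elementwise. -/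
theorem ti_family_commute {G : Type*} [Group G] [Finite G] :
    ∀ (n : ℕ) (P : Subgroup G), Nat.card P ≤ n → IsPGroup 2 P → ∀ Δ : Set (Subgroup G),
      (∀ R ∈ Δ, R ≤ P) → (∀ s ∈ P, ∀ R ∈ Δ, cj s R ∈ Δ) → (∀ R ∈ Δ, ∃ x ∈ R, x ^ 2 ≠ 1) →
      (∀ R ∈ Δ, ∀ T ∈ Δ, Nat.card R = Nat.card T) → (∀ R ∈ Δ, ∀ T ∈ Δ, R = T ∨ R ⊓ T = ⊥) →
      ∀ R ∈ Δ, ∀ T ∈ Δ, R ≠ T → ⁅R, T⁆ = ⊥ := by
  intro n
  induction n with
  | zero => intro P h; exact absurd h (by have := Nat.card_pos (α := P); omega)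
  | succ n ih =>
    intro P hcard hP Δ hle hinv hsq hord hti R hR T hT hne
    have hdisj : R ⊓ T = ⊥ := (hti R hR T hT).resolve_left hne
    -- pairs inside a proper invariant subgroup commute
    have sub : ∀ M : Subgroup G, M ≤ P → M ≠ P → ∀ A ∈ Δ, ∀ B ∈ Δ, A ≤ M → B ≤ M → A ≠ B →
        ⁅A, B⁆ = ⊥ := by
      intro M hMP hMne A hA B hB hAM hBM hAB
      have hlt : Nat.card M < Nat.card P := lt_of_le_of_ne (Subgroup.card_le_of_le hMP)
        (fun h => hMne (Subgroup.eq_of_le_of_card_ge hMP h.ge))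
      refine ih M (by omega) (hP.to_le hMP) {X | X ∈ Δ ∧ X ≤ M} (fun X hX => hX.2) ?_
        (fun X hX => hsq X hX.1) (fun X hX Y hY => hord X hX.1 Y hY.1)
        (fun X hX Y hY => hti X hX.1 Y hY.1) A ⟨hA, hAM⟩ B ⟨hB, hBM⟩ hAB
      rintro s hs X ⟨hX, hXM⟩
      exact ⟨hinv s (hMP hs) X hX, le_of_le_of_eq (cj_mono s hXM) (cj_of_mem hs)⟩
    by_cases hgen : R ⊔ T = P
    swap
    · exact sub (R ⊔ T) (sup_le (hle R hR) (hle T hT)) hgen R hR T hT le_sup_left le_sup_right hne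
    by_cases hN : R ≤ Subgroup.normalizer (T : Set G)
    · rw [Subgroup.commutator_comm]
      refine ti_normalize_commute T R (fun g hg => ?_) (hord T hT R hR).le (by rwa [inf_comm]) hN
      exact hti _ (hinv g (hle T hT hg) R hR) R hR
    by_cases hN' : T ≤ Subgroup.normalizer (R : Set G)
    · refine ti_normalize_commute R T (fun g hg => ?_) (hord R hR T hT).le hdisj hN'
      exact hti _ (hinv g (hle R hR hg) T hT) T hT
    exfalso
    -- conjugates of a member commute with it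
    have conjc : ∀ A ∈ Δ, A ≠ P → ∀ g ∈ P, cj g A ≠ A → ∀ a ∈ A, ∀ b ∈ A,
        Commute a (g * b * g⁻¹) := by
      intro A hA hAP g hg hgA a ha b hb
      obtain ⟨M, hAM, hMP, hMne, hMn⟩ := exists_normal_overgroup hP (hle A hA) hAP
      have hgM : cj g A ≤ M := le_of_le_of_eq (cj_mono g hAM) (cj_eq_self_iff.mpr (hMn hg))
      exact commute_of_commutator_eq_bot
        (sub M hMP hMne A hA _ (hinv g hg A hA) hAM hgM (Ne.symm hgA)) ha (mem_cj_of hb)
    have hRP : R ≠ P := by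
      intro h
      exact hne (Subgroup.eq_of_le_of_card_ge (h ▸ hle T hT) (hord R hR T hT).le).symm
    have hTP : T ≠ P := by
      intro h
      exact hne (Subgroup.eq_of_le_of_card_ge (h ▸ hle R hR) (hord T hT R hR).le)
    obtain ⟨t, htT, htN, ht2⟩ := exists_sq_mem (hP.to_le (hle T hT)) hN'
    have htR : cj t R ≠ R := fun h => htN (cj_eq_self_iff.mp h)
    have hdt : cj t R ⊓ R = ⊥ := (hti _ (hinv t (hle T hT htT) R hR) R hR).resolve_left htR
    -- elements of `R` outside the normalizer of `T` are involutions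
    have hinvol : ∀ r ∈ R, r ∉ Subgroup.normalizer (T : Set G) → r * r = 1 := by
      intro r hr hrN
      have hrT : cj r T ≠ T := fun h => hrN (cj_eq_self_iff.mp h)
      have h1 : Commute t (r * t * r⁻¹) := conjc T hT hTP r (hle R hR hr) hrT t htT t htT
      have h2 : Commute r (t * r * t⁻¹) := conjc R hR hRP t (hle T hT htT) htR r hr r hr
      have h3 : t * (r * t * r⁻¹ * t⁻¹) * t⁻¹ = r * t * r⁻¹ * t⁻¹ := by
        calc t * (r * t * r⁻¹ * t⁻¹) * t⁻¹ = t * (r * t * r⁻¹) * t⁻¹ * t⁻¹ := by group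
          _ = r * t * r⁻¹ * t * t⁻¹ * t⁻¹ := by rw [h1.eq]
          _ = r * t * r⁻¹ * t⁻¹ := by group
      have h4 : t * t * r⁻¹ * (t * t)⁻¹ = (t * r * t⁻¹)⁻¹ * (r * (t * r * t⁻¹)⁻¹) := by
        calc t * t * r⁻¹ * (t * t)⁻¹
            = (t * r * t⁻¹)⁻¹ * (t * (r * t * r⁻¹ * t⁻¹) * t⁻¹) := by group
          _ = (t * r * t⁻¹)⁻¹ * (r * t * r⁻¹ * t⁻¹) := by rw [h3]
          _ = _ := by group
      have h5 : t * t * r⁻¹ * (t * t)⁻¹ ∈ R :=
        (Subgroup.mem_normalizer_iff.mp (pow_two t ▸ ht2) r⁻¹).mp (R.inv_mem hr)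
      have h4' : t * t * r⁻¹ * (t * t)⁻¹ = r * ((t * r * t⁻¹)⁻¹ * (t * r * t⁻¹)⁻¹) := by
        rw [h4, ← mul_assoc ((t * r * t⁻¹)⁻¹) r, ← h2.inv_right.eq, mul_assoc]
      have h6 : (t * r * t⁻¹)⁻¹ * (t * r * t⁻¹)⁻¹ ∈ R := by
        have := R.mul_mem (R.inv_mem hr) h5
        rwa [h4', inv_mul_cancel_left] at this
      have h7 : (t * r * t⁻¹)⁻¹ * (t * r * t⁻¹)⁻¹ ∈ cj t R :=
        Subgroup.mul_mem _ (Subgroup.inv_mem _ (mem_cj_of hr)) (Subgroup.inv_mem _ (mem_cj_of hr))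
      have h8 := (hdt ▸ Subgroup.mem_inf.mpr ⟨h7, h6⟩ : _ ∈ (⊥ : Subgroup G))
      rw [Subgroup.mem_bot, ← mul_inv_rev, inv_eq_one] at h8
      calc r * r = t⁻¹ * ((t * r * t⁻¹) * (t * r * t⁻¹)) * t := by group
        _ = 1 := by rw [h8]; group
    obtain ⟨r, hr, hrN⟩ := SetLike.not_le_iff_exists.mp hN
    -- an element of order 4 in `R` normalizing `T`
    obtain ⟨x, hx, hxN, hx2, hx4⟩ : ∃ x ∈ R, x ∈ Subgroup.normalizer (T : Set G) ∧
        x * x ≠ 1 ∧ x * x * (x * x) = 1 := by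
      obtain ⟨y, hy, hy2⟩ := hsq R hR
      obtain ⟨k, hk⟩ := IsPGroup.iff_orderOf.mp (hP.to_le (hle R hR)) ⟨y, hy⟩
      rw [Subgroup.orderOf_mk] at hk
      have key : ∀ k : ℕ, ∀ y ∈ R, y * y ≠ 1 → y ^ (2 ^ k) = 1 → ∃ x ∈ R,
          x ∈ Subgroup.normalizer (T : Set G) ∧ x * x ≠ 1 ∧ x * x * (x * x) = 1 := by
        intro k
        induction k with
        | zero => intro y _ h1 h2; exact absurd (by rw [pow_zero, pow_one] at h2; simp [h2]) h1
        | succ k ih =>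
          intro y hy h1 h2
          by_cases h4 : y * y * (y * y) = 1
          · exact ⟨y, hy, by_contra (fun h => h1 (hinvol y hy h)), h1, h4⟩
          · refine ih (y * y) (R.mul_mem hy hy) h4 ?_
            rw [← pow_two, ← pow_mul, ← pow_succ', h2]
      exact key k y hy (by rwa [← pow_two]) (by rw [← hk, pow_orderOf_eq_one])
    have hrx : r * x * r⁻¹ = x⁻¹ := by
      have hxr : x * r ∉ Subgroup.normalizer (T : Set G) := fun h =>
        hrN (by simpa using Subgroup.mul_mem _ (Subgroup.inv_mem _ hxN) h)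
      have h := hinvol _ (R.mul_mem hx hr) hxr
      have hr2 := hinvol r hr hrN
      calc r * x * r⁻¹ = x⁻¹ * (x * r * (x * r)) * (r * r)⁻¹ := by group
        _ = x⁻¹ := by rw [h, hr2]; group
    set y := t * x⁻¹ * t⁻¹ with hy
    have hxy : Commute x y :=
      conjc R hR hRP t (hle T hT htT) htR x hx x⁻¹ (R.inv_mem hx)
    have hry : Commute r y :=
      conjc R hR hRP t (hle T hT htT) htR r hr x⁻¹ (R.inv_mem hx)
    have hd : x * y ∈ T := by
      have := T.mul_mem ((Subgroup.mem_normalizer_iff.mp hxN t).mp htT) (T.inv_mem htT)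
      rwa [show x * t * x⁻¹ * t⁻¹ = x * y by rw [hy]; group] at this
    have hrd : r * (x * y) * r⁻¹ = x⁻¹ * y := by
      calc r * (x * y) * r⁻¹ = (r * x * r⁻¹) * (r * y * r⁻¹) := by group
        _ = x⁻¹ * y := by rw [hrx, hry.eq, mul_inv_cancel_right]
    have hxx : x⁻¹ * x⁻¹ = x * x := by
      rw [← mul_inv_rev, inv_eq_iff_mul_eq_one]; exact hx4
    have hsq' : (x⁻¹ * y) * (x⁻¹ * y) = (x * y) * (x * y) := by
      rw [hxy.inv_left.symm.mul_mul_mul_comm, hxy.symm.mul_mul_mul_comm, hxx]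
    have hdrT : cj r T ⊓ T = ⊥ := (hti _ (hinv r (hle R hR hr) T hT) T hT).resolve_left
      (fun h => hrN (cj_eq_self_iff.mp h))
    have h0 : (x * y) * (x * y) = 1 := by
      have h1 : (x * y) * (x * y) ∈ cj r T := by
        rw [← hsq', ← hrd]
        exact Subgroup.mul_mem _ (mem_cj_of hd) (mem_cj_of hd)
      exact Subgroup.mem_bot.mp (hdrT ▸ Subgroup.mem_inf.mpr ⟨h1, T.mul_mem hd hd⟩)
    rw [hxy.symm.mul_mul_mul_comm] at h0
    have hyR : y * y ∈ R := by
      rw [← inv_eq_of_mul_eq_one_right h0]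
      exact R.inv_mem (R.mul_mem hx hx)
    have hyt : y * y ∈ cj t R := Subgroup.mul_mem _ (mem_cj_of (R.inv_mem hx)) (mem_cj_of (R.inv_mem hx))
    have hy1 : y * y = 1 := Subgroup.mem_bot.mp (hdt ▸ Subgroup.mem_inf.mpr ⟨hyt, hyR⟩)
    rw [hy1, mul_one] at h0
    exact hx2 h0

/-- If `frattini R` is nontrivial, some square of an element of `R` is nontrivial. -/
theorem exists_sq_ne_one_of_frattini {G : Type*} [Group G] [Finite G] {R : Subgroup G}
    (h : frattini ↥R ≠ ⊥) : ∃ x ∈ R, x ^ 2 ≠ 1 := by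
  haveI : Fact (Nat.Prime 2) := ⟨Nat.prime_two⟩
  by_contra hc
  push Not at hc
  apply h
  rw [eq_bot_iff]
  refine H6.frattini_le_of_quotient (p := 2) ⊥ ?_ (fun g => Subgroup.mem_bot.mpr (Subtype.ext (hc g g.2)))
  rw [commutator_eq_closure, Subgroup.closure_le]
  rintro _ ⟨a, b, rfl⟩
  rw [SetLike.mem_coe, Subgroup.mem_bot, commutatorElement_eq_one_iff_mul_comm]
  have h2 : ∀ u : R, u⁻¹ = u := fun u => inv_eq_of_mul_eq_one_right (Subtype.ext (by simpa [pow_two] using hc u u.2))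
  calc a * b = (a * b)⁻¹ := (h2 _).symm
    _ = b * a := by rw [mul_inv_rev, h2, h2]

end H68
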