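import Cfsg.Agent.H68.TISL2
import Cfsg.Agent.H31.Basic
import Cfsg.Agent.H31.InvariantMax
import Cfsg.Agent.CompLayer

/-! Assembly: the group generated by `P` and its conjugate is `SL₂` on `V × B`, and `Q` is special. -/

set_option autoImplicit false

namespace H68.TI

open H70
open scoped commutatorElement

variable {G : Type*} [Group G] [Finite G] {V B : Subgroup G}

omit [Finite G] in
theorem cent_cj (g : G) (V : Subgroup G) :
    Subgroup.centralizer (H70.cj g V : Set G) = H70.cj g (Subgroup.centralizer (V : Set G)) := by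
  ext x
  rw [mem_cj, mem_cent, mem_cent]
  constructor
  · intro h v hv
    have h1 := h _ (mem_cj_of (g := g) hv)
    calc g⁻¹ * x * g * v = g⁻¹ * (x * (g * v * g⁻¹)) * g := by group
      _ = g⁻¹ * ((g * v * g⁻¹) * x) * g := by rw [h1]
      _ = v * (g⁻¹ * x * g) := by group
  · intro h w hw
    obtain ⟨v, hv, rfl⟩ := hw
    show x * (g * v * g⁻¹) = (g * v * g⁻¹) * x
    calc x * (g * v * g⁻¹) = g * (g⁻¹ * x * g * v) * g⁻¹ := by group
      _ = g * (v * (g⁻¹ * x * g)) * g⁻¹ := by rw [h v hv]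
      _ = _ := by group

theorem pn_cj (g : G) (V : Subgroup G) : pn (H70.cj g V) = H70.cj g (pn V) := by
  rw [pn, pn, qn_cj, cent_cj, cj_inf]

theorem Partner.exists_unique_member (h : Partner V B) {w : G} (hw : w ∈ V ⊔ B) (hw1 : w ≠ 1) :
    ∃! U : Subgroup G, (∃ x : G, U = H70.cj x V) ∧ U ≤ V ⊔ B ∧ w ∈ U := by
  obtain ⟨E, t⟩ := h.exists_triangle
  obtain ⟨g, hg⟩ := h.conj
  have huniq : ∀ U U' : Subgroup G, (∃ x : G, U = H70.cj x V) → w ∈ U →
      (∃ x : G, U' = H70.cj x V) → w ∈ U' → U = U' := by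
    rintro _ _ ⟨x, rfl⟩ h1 ⟨y, rfl⟩ h2
    exact h.base.conj_eq h1 h2 hw1
  by_cases hwV : w ∈ V
  · exact ⟨V, ⟨⟨1, by simp⟩, le_sup_left, hwV⟩,
      fun U hU => huniq U V hU.1 hU.2.2 ⟨1, by simp⟩ hwV⟩
  · obtain ⟨e, he, hwe⟩ := t.cover hw hwV
    exact ⟨H70.cj e B, ⟨⟨e * g, by rw [hg, cj_cj]⟩, t.cj_le he, hwe⟩,
      fun U hU => huniq U _ hU.1 hU.2.2 ⟨e * g, by rw [hg, cj_cj]⟩ hwe⟩

theorem Partner.sup_le_norm (h : Partner V B) :
    pn V ⊔ pn B ≤ Subgroup.normalizer ((V ⊔ B : Subgroup G) : Set G) := by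
  refine sup_le (fun p hp => h.pn_norm hp) fun p hp => ?_
  rw [sup_comm]
  exact h.flip.pn_norm hp

/-- The action of `⟨P, P'⟩` on `V × B`. -/
theorem Partner.exists_sl2 (h : Partner V B) :
    ∃ (K : Type) (_ : Field K) (_ : Fintype K), Fintype.card K = Nat.card V ∧
      ∃ (Φ : (Fin 2 → K) ≃ (V ⊔ B : Subgroup G))
        (c : (pn V ⊔ pn B : Subgroup G) →* Equiv.Perm (Fin 2 → K))
        (ρ : Matrix.SpecialLinearGroup (Fin 2) K →* Equiv.Perm (Fin 2 → K)),
        Function.Injective ρ ∧ c.range = ρ.range ∧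
        c.ker = (Subgroup.centralizer ((V ⊔ B : Subgroup G) : Set G)).subgroupOf (pn V ⊔ pn B) ∧
        (∀ y, (Φ y : G) ∈ V ↔ y 1 = 0) ∧
        (∀ (m : (pn V ⊔ pn B : Subgroup G)) y, (Φ (c m y) : G) = (m : G) * Φ y * (m : G)⁻¹) ∧
        (∀ g y, ρ g y = Matrix.mulVec (g : Matrix (Fin 2) (Fin 2) K) y) := by
  classical
  obtain ⟨K, hK1, hK2, hcard, Φ, h1, h2, h3, h4, h5⟩ := h.exists_field
  have hN := h.sup_le_norm
  let act : (pn V ⊔ pn B : Subgroup G) →* Equiv.Perm (V ⊔ B : Subgroup G) :=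
    { toFun := fun m =>
        { toFun := fun w => ⟨(m : G) * w * (m : G)⁻¹, conj_mem_of_mem_norm (hN m.2) w.2⟩
          invFun := fun w => ⟨(m : G)⁻¹ * w * (m : G), by
            simpa using conj_mem_of_mem_norm (Subgroup.inv_mem _ (hN m.2)) w.2⟩
          left_inv := fun w => Subtype.ext (by simp [mul_assoc])
          right_inv := fun w => Subtype.ext (by simp [mul_assoc]) }
      map_one' := Equiv.ext fun w => Subtype.ext (by simp)
      map_mul' := fun m m' => Equiv.ext fun w => Subtype.ext (by simp [mul_assoc]) }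
  let c : (pn V ⊔ pn B : Subgroup G) →* Equiv.Perm (Fin 2 → K) :=
    Φ.symm.permCongrHom.toMonoidHom.comp act
  have hc : ∀ (m : (pn V ⊔ pn B : Subgroup G)) y,
      (Φ (c m y) : G) = (m : G) * Φ y * (m : G)⁻¹ := by
    intro m y
    show (Φ (Φ.symm (act m (Φ y))) : G) = _
    rw [Φ.apply_symm_apply]
    rfl
  let ρ : Matrix.SpecialLinearGroup (Fin 2) K →* Equiv.Perm (Fin 2 → K) :=
    { toFun := fun g =>
        { toFun := fun y => Matrix.mulVec (g : Matrix (Fin 2) (Fin 2) K) y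
          invFun := fun y => Matrix.mulVec ((g⁻¹ : Matrix.SpecialLinearGroup (Fin 2) K) : Matrix (Fin 2) (Fin 2) K) y
          left_inv := fun y => by
            show Matrix.mulVec _ (Matrix.mulVec _ y) = y
            rw [Matrix.mulVec_mulVec, ← Matrix.SpecialLinearGroup.coe_mul, inv_mul_cancel,
              Matrix.SpecialLinearGroup.coe_one, Matrix.one_mulVec]
          right_inv := fun y => by
            show Matrix.mulVec _ (Matrix.mulVec _ y) = y
            rw [Matrix.mulVec_mulVec, ← Matrix.SpecialLinearGroup.coe_mul, mul_inv_cancel,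
              Matrix.SpecialLinearGroup.coe_one, Matrix.one_mulVec] }
      map_one' := Equiv.ext fun y => by simp
      map_mul' := fun g g' => Equiv.ext fun y => by
        show Matrix.mulVec ((g * g' : Matrix.SpecialLinearGroup (Fin 2) K) : Matrix (Fin 2) (Fin 2) K) y = Matrix.mulVec (g : Matrix (Fin 2) (Fin 2) K) (Matrix.mulVec (g' : Matrix (Fin 2) (Fin 2) K) y)
        rw [Matrix.mulVec_mulVec, ← Matrix.SpecialLinearGroup.coe_mul] }
  have hρ : ∀ g y, ρ g y = Matrix.mulVec (g : Matrix (Fin 2) (Fin 2) K) y := fun _ _ => rfl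
  have hρinj : Function.Injective ρ := by
    intro g g' hgg
    refine Subtype.ext ?_
    refine Matrix.ext_of_mulVec_single fun i => ?_
    have := congrArg (fun σ : Equiv.Perm (Fin 2 → K) => σ (Pi.single i 1)) hgg
    simpa [hρ] using this
  have huu : ∀ x (y : Fin 2 → K), ρ (H98.uu x) y = ![y 0 + x * y 1, y 1] := by
    intro x y
    rw [hρ, H98.coe_uu]
    funext i
    fin_cases i <;> simp [Matrix.mulVec, dotProduct, Fin.sum_univ_two]
  have hll : ∀ x (y : Fin 2 → K), ρ (H98.ll x) y = ![y 0, y 1 + x * y 0] := by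
    intro x y
    rw [hρ, H98.coe_ll]
    funext i
    fin_cases i <;> simp [Matrix.mulVec, dotProduct, Fin.sum_univ_two, add_comm]
  have hto : ∀ (m : (pn V ⊔ pn B : Subgroup G)) (g : Matrix.SpecialLinearGroup (Fin 2) K),
      (∀ y, (m : G) * Φ y * (m : G)⁻¹ = Φ (ρ g y)) → c m = ρ g := fun m g hm =>
    Equiv.ext fun y => Φ.injective (Subtype.ext ((hc m y).trans (hm y)))
  refine ⟨K, hK1, hK2, hcard, Φ, c, ρ, hρinj, le_antisymm ?_ ?_, ?_, h5, hc, hρ⟩
  · have hle : pn V ⊔ pn B ≤ (ρ.range.comap c).map (pn V ⊔ pn B).subtype := by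
      refine sup_le ?_ ?_
      · intro p hp
        obtain ⟨x, hx⟩ := h1 p hp
        refine ⟨⟨p, Subgroup.mem_sup_left hp⟩, ⟨H98.uu x, (hto _ _ fun y => ?_).symm⟩, rfl⟩
        rw [huu]; exact hx y
      · intro p hp
        obtain ⟨x, hx⟩ := h3 p hp
        refine ⟨⟨p, Subgroup.mem_sup_right hp⟩, ⟨H98.ll x, (hto _ _ fun y => ?_).symm⟩, rfl⟩
        rw [hll]; exact hx y
    rintro _ ⟨m, rfl⟩
    obtain ⟨m', hm', he⟩ := hle m.2
    rw [← show m' = m from Subtype.ext he]
    exact hm'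
  · rintro _ ⟨g, rfl⟩
    have huu' : ∀ s, ρ (H98.uu s) ∈ c.range := by
      intro s
      obtain ⟨p, hp, hx⟩ := h2 s
      refine ⟨⟨p, Subgroup.mem_sup_left hp⟩, hto _ _ fun y => ?_⟩
      rw [huu]; exact hx y
    have hll' : ∀ s, ρ (H98.ll s) ∈ c.range := by
      intro s
      obtain ⟨p, hp, hx⟩ := h4 s
      refine ⟨⟨p, Subgroup.mem_sup_right hp⟩, hto _ _ fun y => ?_⟩
      rw [hll]; exact hx y
    induction g using H98.sl2_induction with
    | hu s => exact huu' s
    | hw =>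
      rw [H98.mm, map_mul, map_mul]
      exact mul_mem (mul_mem (huu' _) (hll' _)) (huu' _)
    | hm a b ia ib => rw [map_mul]; exact mul_mem ia ib
  · ext m
    rw [MonoidHom.mem_ker, Subgroup.mem_subgroupOf, mem_cent]
    constructor
    · intro hm w hw
      obtain ⟨y, hy⟩ := Φ.surjective ⟨w, hw⟩
      have h6 := hc m y
      rw [hm, Equiv.Perm.one_apply, hy] at h6
      calc (m : G) * w = (m : G) * w * (m : G)⁻¹ * (m : G) := by group
        _ = w * (m : G) := by rw [← h6]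
    · intro hm
      refine Equiv.ext fun y => Φ.injective (Subtype.ext ?_)
      rw [hc, Equiv.Perm.one_apply, hm _ (Φ y).2, mul_inv_cancel_right]

/-- `Q` centralizes `V`. -/
theorem Partner.pn_eq_qn (h : Partner V B) : pn V = qn V := by
  classical
  haveI : Fact (Nat.Prime 2) := ⟨Nat.prime_two⟩
  have hV := h.base
  obtain ⟨K, _, _, hcard, Φ, c, ρ, hρinj, hrange, hker, hΦV, hc, hρ⟩ := h.exists_sl2
  obtain ⟨d, hd, hd1, hfix⟩ := exists_fixed_coset (qn_isPGroup V) (elem_isPGroup hV.elem)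
    (bot_le : (⊥ : Subgroup G) ≤ V)
    (fun hle => by
      have := h.card_one_lt
      rw [Subgroup.eq_bot_iff_forall V |>.mpr fun v hv => Subgroup.mem_bot.mp (hle hv),
        Subgroup.card_bot] at this
      omega)
    (fun a ha v hv => conj_mem_of_mem_norm (qn_le_norm V ha) hv) (fun a _ l hl => by
      rw [Subgroup.mem_bot.mp hl]; simp)
  have hd1' : d ≠ 1 := fun h1 => hd1 (by rw [h1]; exact Subgroup.one_mem _)
  have hdc : ∀ x ∈ qn V, x * d * x⁻¹ = d := fun x hx =>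
    (inv_mul_eq_one.mp (Subgroup.mem_bot.mp (hfix x hx))).symm
  refine le_antisymm inf_le_left fun x hx => ⟨hx, mem_cent.mpr fun v hv => ?_⟩
  by_cases hv1 : v = 1
  · simp [hv1]
  obtain ⟨y, hy⟩ := Φ.surjective ⟨d, Subgroup.mem_sup_left hd⟩
  obtain ⟨z, hz⟩ := Φ.surjective ⟨v, Subgroup.mem_sup_left hv⟩
  have hy1 : y 1 = 0 := (hΦV y).mp (by rw [hy]; exact hd)
  have hz1 : z 1 = 0 := (hΦV z).mp (by rw [hz]; exact hv)
  have hPhi0 : ∀ u : Fin 2 → K, u 0 = 0 → u 1 = 0 → (Φ u : G) = 1 := by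
    intro u hu0 hu1
    have hu : u = 0 := by funext i; fin_cases i <;> assumption
    obtain ⟨u', hu'⟩ := Φ.surjective 1
    have e1 : ∀ g, ρ g u' = u' := fun g => by
      obtain ⟨m, hm⟩ := (hrange.ge ⟨g, rfl⟩ : ρ g ∈ c.range)
      rw [← hm]
      refine Φ.injective (Subtype.ext ?_)
      rw [hc, hu']; simp
    have e2 := congrFun (e1 (H98.uu 1)) 0
    have e3 := congrFun (e1 (H98.ll 1)) 1
    rw [hρ, H98.coe_uu] at e2
    rw [hρ, H98.coe_ll] at e3
    simp [Matrix.mulVec, dotProduct, Fin.sum_univ_two] at e2 e3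
    have : u' = u := by rw [hu]; funext i; fin_cases i <;> assumption
    rw [← this, hu']; rfl
  have hdy : (Φ y : G) = d := congrArg Subtype.val hy
  have hvz : (Φ z : G) = v := congrArg Subtype.val hz
  have hy0 : y 0 ≠ 0 := fun h0 => hd1' (hdy.symm.trans (hPhi0 y h0 hy1))
  have hz0 : z 0 ≠ 0 := fun h0 => hv1 (hvz.symm.trans (hPhi0 z h0 hz1))
  set a := z 0 / y 0 with ha
  have ha0 : a ≠ 0 := div_ne_zero hz0 hy0
  obtain ⟨m, hm⟩ := (hrange.ge ⟨H98.hh H98.uu H98.ll a, rfl⟩ : _ ∈ c.range)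
  have hmd : (m : G) * d * (m : G)⁻¹ = v := by
    have hcm := hc m y
    rw [hm, hρ, H98.coe_hh_uu ha0, hy] at hcm
    rw [← hcm, ← hvz]
    congr 2
    funext i
    fin_cases i
    · simp [Matrix.mulVec, dotProduct, Fin.sum_univ_two, ha, hy0]
    · simp [Matrix.mulVec, dotProduct, Fin.sum_univ_two, hy1, hz1]
  have hmN : (m : G) ∈ Subgroup.normalizer (V : Set G) := hV.stay hd hd1' (hmd.symm ▸ hv)
  have hx' : (m : G)⁻¹ * x * m ∈ qn V := by simpa using qn_conj_mem (Subgroup.inv_mem _ hmN) hx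
  have := hdc _ hx'
  rw [← hmd]
  calc x * ((m : G) * d * (m : G)⁻¹)
      = m * (((m : G)⁻¹ * x * m) * d * ((m : G)⁻¹ * x * m)⁻¹) * (m : G)⁻¹ * x := by group
    _ = (m : G) * d * (m : G)⁻¹ * x := by rw [this]

/-- `Q` is special with centre `V`. -/
theorem Partner.special (h : Partner V B) :
    (frattini ↥(qn V)).map (qn V).subtype = V ∧ (Subgroup.center ↥(qn V)).map (qn V).subtype = V ∧
      (commutator ↥(qn V)).map (qn V).subtype = V := by
  haveI : Fact (Nat.Prime 2) := ⟨Nat.prime_two⟩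
  have hV := h.base
  have hPQ := h.pn_eq_qn
  obtain ⟨E, t⟩ := h.exists_triangle
  have hcomm : (commutator ↥(qn V)).map (qn V).subtype = V := by
    rw [commutator_def, Subgroup.map_commutator, ← MonoidHom.range_eq_map, Subgroup.range_subtype]
    refine le_antisymm ?_ fun v hv => ?_
    · rw [Subgroup.commutator_le]
      intro x hx y hy
      exact hV.comm_pn_mem (hPQ.ge hx) (hPQ.ge hy)
    · obtain ⟨a, ha, ha1⟩ := h.ne_bot
      obtain ⟨e, he, hae⟩ := t.surj ha ha1 hv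
      rw [← hae]
      exact Subgroup.commutator_mem_commutator (h.le ha) (t.right.le he)
  refine ⟨?_, ?_, hcomm⟩
  · refine le_antisymm ?_ (hcomm.ge.trans
      (Subgroup.map_mono (H31.commutator_le_frattini (qn_isPGroup V))))
    refine (Subgroup.map_mono (H31.frattini_le_of_pow_mem Nat.prime_two (V.subgroupOf (qn V)) ?_
      fun x => ?_)).trans (by rw [Subgroup.subgroupOf_map_subtype]; exact inf_le_left)
    · intro x hx
      rw [Subgroup.mem_subgroupOf]
      exact hcomm.le (Subgroup.mem_map_of_mem _ hx)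
    · rw [Subgroup.mem_subgroupOf, Subgroup.coe_pow, pow_two]
      exact hV.sq_mem (hPQ.ge x.2)
  · refine le_antisymm ?_ fun v hv => ?_
    · rintro _ ⟨z, hz, rfl⟩
      exact hV.centre_le z.2 fun y hy =>
        congrArg Subtype.val ((Subgroup.mem_center_iff.mp hz ⟨y, hy⟩).symm)
    · refine ⟨⟨v, hV.le_qn_self hv⟩, Subgroup.mem_center_iff.mpr fun y => Subtype.ext ?_, rfl⟩
      exact (mem_cent.mp (hPQ.ge y.2).2) v hv

end H68.TI
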