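import Cfsg.Agent.CompBasic
import Cfsg.Agent.H68.Basic
import Cfsg.Agent.H68.ElemAb
import Cfsg.Prelude.Def_Local

/-! An elementary abelian TI two-subgroup with a conjugate in the two-core of its normalizer. -/

set_option autoImplicit false

namespace H68.TI

open H70
open scoped commutatorElement

variable {G : Type*} [Group G]

/-- The two-core of the normalizer, as a subgroup of the ambient group. -/
def qn (V : Subgroup G) : Subgroup G :=
  (Cfsg.pCore 2 ↥(Subgroup.normalizer (V : Set G))).map (Subgroup.normalizer (V : Set G)).subtype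

/-- The subgroup `Q ∩ C(V)`. -/
def pn (V : Subgroup G) : Subgroup G := qn V ⊓ Subgroup.centralizer (V : Set G)

/-- The hypotheses on `V`. -/
structure TIQ (V : Subgroup G) : Prop where
  elem : Cfsg.IsElementaryAbelian 2 V
  cent : ∀ x ∈ Subgroup.normalizer (V : Set G), (∀ y ∈ qn V, x * y = y * x) → x ∈ qn V
  max : ∀ A : Subgroup G, V ≤ A → A ≤ Subgroup.normalizer (V : Set G) → IsMulCommutative ↥A →
    (∀ m ∈ Subgroup.normalizer (V : Set G), ∀ a ∈ A, m * a * m⁻¹ ∈ A) → A = V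
  ti : ∀ x : G, cj x V = V ∨ cj x V ⊓ V = ⊥

theorem mem_norm_of {V : Subgroup G} [Finite G] {g : G} (h : ∀ a ∈ V, g * a * g⁻¹ ∈ V) :
    g ∈ Subgroup.normalizer (V : Set G) := by
  rw [← cj_eq_self_iff]
  refine Subgroup.eq_of_le_of_card_ge ?_ (card_cj g V).ge
  rintro _ ⟨a, ha, rfl⟩
  exact h a ha

theorem conj_mem_of_mem_norm {V : Subgroup G} {g a : G}
    (h : g ∈ Subgroup.normalizer (V : Set G)) (ha : a ∈ V) : g * a * g⁻¹ ∈ V := by
  rw [← cj_eq_self_iff] at h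
  rw [← h]
  exact mem_cj_of ha

theorem mem_cent {V : Subgroup G} {x : G} :
    x ∈ Subgroup.centralizer (V : Set G) ↔ ∀ v ∈ V, x * v = v * x := by
  rw [Subgroup.mem_centralizer_iff]
  exact forall₂_congr fun v _ => eq_comm

theorem qn_le_norm (V : Subgroup G) : qn V ≤ Subgroup.normalizer (V : Set G) :=
  Subgroup.map_subtype_le _

theorem qn_conj_mem {V : Subgroup G} {m x : G} (hm : m ∈ Subgroup.normalizer (V : Set G))
    (hx : x ∈ qn V) : m * x * m⁻¹ ∈ qn V := by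
  obtain ⟨y, hy, rfl⟩ := hx
  exact ⟨⟨m, hm⟩ * y * ⟨m, hm⟩⁻¹, (Cfsg.pCore_normal 2 _).conj_mem y hy _, rfl⟩

theorem cent_conj_mem {V : Subgroup G} {m x : G} (hm : m ∈ Subgroup.normalizer (V : Set G))
    (hx : x ∈ Subgroup.centralizer (V : Set G)) :
    m * x * m⁻¹ ∈ Subgroup.centralizer (V : Set G) := by
  rw [mem_cent] at hx ⊢
  intro v hv
  have h : m⁻¹ * v * m ∈ V := by
    simpa using conj_mem_of_mem_norm (Subgroup.inv_mem _ hm) hv
  calc m * x * m⁻¹ * v = m * (x * (m⁻¹ * v * m)) * m⁻¹ := by group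
    _ = m * ((m⁻¹ * v * m) * x) * m⁻¹ := by rw [hx _ h]
    _ = v * (m * x * m⁻¹) := by group

theorem pn_conj_mem {V : Subgroup G} {m x : G} (hm : m ∈ Subgroup.normalizer (V : Set G))
    (hx : x ∈ pn V) : m * x * m⁻¹ ∈ pn V :=
  ⟨qn_conj_mem hm hx.1, cent_conj_mem hm hx.2⟩

variable [Finite G]

theorem qn_isPGroup (V : Subgroup G) : IsPGroup 2 (qn V) := by
  haveI : Fact (Nat.Prime 2) := ⟨Nat.prime_two⟩
  exact (Cfsg.Comp.pCore_isPGroup 2).map _

theorem le_qn {V A : Subgroup G} (h1 : A ≤ Subgroup.normalizer (V : Set G))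
    (h2 : IsPGroup 2 A) (h3 : ∀ m ∈ Subgroup.normalizer (V : Set G), ∀ a ∈ A, m * a * m⁻¹ ∈ A) :
    A ≤ qn V := by
  intro a ha
  have hn : (A.subgroupOf (Subgroup.normalizer (V : Set G))).Normal :=
    ⟨fun n hn m => h3 m m.2 n hn⟩
  have hle := Cfsg.Comp.le_pCore hn
    (h2.comap_of_injective (Subgroup.normalizer (V : Set G)).subtype Subtype.coe_injective)
  exact ⟨⟨a, h1 ha⟩, hle ha, rfl⟩

theorem elem_isPGroup {V : Subgroup G} (h : Cfsg.IsElementaryAbelian 2 V) : IsPGroup 2 V :=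
  fun v => ⟨1, Subtype.ext (by simpa using h.2 v v.2)⟩

theorem elem_inv {V : Subgroup G} (h : Cfsg.IsElementaryAbelian 2 V) {v : G} (hv : v ∈ V) :
    v⁻¹ = v :=
  inv_eq_of_mul_eq_one_right (by rw [← pow_two]; exact h.2 v hv)

/-- A two-group normalizing `L < D` fixes a coset of `L` in `D` other than `L`. -/
theorem exists_fixed_coset {A D L : Subgroup G} (hA : IsPGroup 2 A) (hD : IsPGroup 2 D)
    (hLD : L ≤ D) (hne : ¬ D ≤ L) (hAD : ∀ a ∈ A, ∀ d ∈ D, a * d * a⁻¹ ∈ D)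
    (hAL : ∀ a ∈ A, ∀ l ∈ L, a * l * a⁻¹ ∈ L) :
    ∃ d ∈ D, d ∉ L ∧ ∀ a ∈ A, d⁻¹ * (a * d * a⁻¹) ∈ L := by
  haveI : Fact (Nat.Prime 2) := ⟨Nat.prime_two⟩
  let c : A → D → D := fun a d => ⟨(a : G) * d * (a : G)⁻¹, hAD a a.2 d d.2⟩
  letI act : MulAction A (↥D ⧸ L.subgroupOf D) :=
    { smul := fun a => Quotient.map' (c a) fun d d' h => by
        rw [QuotientGroup.leftRel_apply] at h ⊢
        rw [Subgroup.mem_subgroupOf] at h ⊢
        have e := hAL a a.2 _ h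
        simpa [c, mul_assoc] using e
      one_smul := fun x => by
        induction x using Quotient.inductionOn' with
        | h d => exact congrArg Quotient.mk'' (Subtype.ext (by simp [c]))
      mul_smul := fun a a' x => by
        induction x using Quotient.inductionOn' with
        | h d => exact congrArg Quotient.mk'' (Subtype.ext (by simp [c, mul_assoc])) }
  have hdvd : 2 ∣ Nat.card (↥D ⧸ L.subgroupOf D) := by
    obtain ⟨n, hn⟩ := hD.index (L.subgroupOf D)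
    rw [← Subgroup.index_eq_card, hn]
    refine dvd_pow_self 2 ?_
    rintro rfl
    rw [pow_zero, Subgroup.index_eq_one, Subgroup.subgroupOf_eq_top] at hn
    exact hne hn
  have hfix : ((1 : D) : ↥D ⧸ L.subgroupOf D) ∈ MulAction.fixedPoints A (↥D ⧸ L.subgroupOf D) :=
    fun a => congrArg Quotient.mk'' (Subtype.ext (by simp [c]))
  obtain ⟨x, hx, hne1⟩ := hA.exists_fixed_point_of_prime_dvd_card_of_fixed_point _ hdvd hfix
  induction x using Quotient.inductionOn' with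
  | h d =>
    refine ⟨d, d.2, fun hd => hne1 ?_, fun a ha => ?_⟩
    · refine QuotientGroup.eq.mpr ?_
      simpa [Subgroup.mem_subgroupOf] using hd
    · have h : ((c ⟨a, ha⟩ d : D) : ↥D ⧸ L.subgroupOf D) = (d : ↥D ⧸ L.subgroupOf D) := hx ⟨a, ha⟩
      have := QuotientGroup.eq.mp h.symm
      simpa [c, Subgroup.mem_subgroupOf] using this

variable {V : Subgroup G}

theorem TIQ.comm (hV : TIQ V) {a b : G} (ha : a ∈ V) (hb : b ∈ V) : a * b = b * a :=
  elemAb_commute hV.elem ha hb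

theorem TIQ.le_qn_self (hV : TIQ V) : V ≤ qn V :=
  le_qn Subgroup.le_normalizer (elem_isPGroup hV.elem) fun _ hm _ ha => conj_mem_of_mem_norm hm ha

theorem TIQ.le_pn_self (hV : TIQ V) : V ≤ pn V :=
  le_inf hV.le_qn_self fun _ hv => mem_cent.mpr fun _ hw => hV.comm hv hw

/-- An element sending a nontrivial element of `V` into `V` normalizes `V`. -/
theorem TIQ.stay (hV : TIQ V) {g a : G} (ha : a ∈ V) (hne : a ≠ 1) (hga : g * a * g⁻¹ ∈ V) :
    g ∈ Subgroup.normalizer (V : Set G) := by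
  rw [← cj_eq_self_iff]
  refine (hV.ti g).resolve_right fun h => ?_
  have h1 : g * a * g⁻¹ ∈ cj g V ⊓ V := ⟨mem_cj_of ha, hga⟩
  rw [h, Subgroup.mem_bot, conj_eq_one_iff] at h1
  exact hne h1

/-- The centralizer of a nontrivial element of `V` normalizes `V`. -/
theorem TIQ.comm_norm (hV : TIQ V) {g a : G} (ha : a ∈ V) (hne : a ≠ 1) (h : g * a = a * g) :
    g ∈ Subgroup.normalizer (V : Set G) :=
  hV.stay ha hne (by rw [h, mul_inv_cancel_right]; exact ha)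

theorem qn_cj (g : G) (V : Subgroup G) : qn (cj g V) = cj g (qn V) := by
  suffices h : ∀ (g : G) (V : Subgroup G), cj g (qn V) ≤ qn (cj g V) by
    refine le_antisymm ?_ (h g V)
    have h2 := cj_mono g (h g⁻¹ (cj g V))
    rwa [cj_cj, mul_inv_cancel, cj_one, cj_cj g⁻¹, inv_mul_cancel, cj_one] at h2
  intro g V
  have hnorm : ∀ (g : G) (V : Subgroup G) (m : G), m ∈ Subgroup.normalizer (V : Set G) →
      g * m * g⁻¹ ∈ Subgroup.normalizer (cj g V : Set G) := by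
    intro g V m hm
    rw [← cj_eq_self_iff] at hm ⊢
    rw [cj_cj, show g * m * g⁻¹ * g = g * m by group, ← cj_cj, hm]
  refine le_qn ?_ ((qn_isPGroup V).map _) ?_
  · rintro _ ⟨x, hx, rfl⟩
    exact hnorm g V x (qn_le_norm V hx)
  · rintro m hm _ ⟨x, hx, rfl⟩
    have hm' := hnorm g⁻¹ _ m hm
    rw [cj_cj, inv_mul_cancel, cj_one] at hm'
    refine ⟨_, qn_conj_mem hm' hx, ?_⟩
    show g * (g⁻¹ * m * g⁻¹⁻¹ * x * (g⁻¹ * m * g⁻¹⁻¹)⁻¹) * g⁻¹ = m * (g * x * g⁻¹) * m⁻¹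
    group

theorem TIQ.cj (hV : TIQ V) (g : G) : TIQ (H70.cj g V) := by
  have hnorm : ∀ m, m ∈ Subgroup.normalizer (H70.cj g V : Set G) →
      g⁻¹ * m * g ∈ Subgroup.normalizer (V : Set G) := by
    intro m hm
    rw [← cj_eq_self_iff] at hm ⊢
    rw [← cj_cj, ← cj_cj, hm, cj_cj, inv_mul_cancel, cj_one]
  have hnorm' : ∀ m, m ∈ Subgroup.normalizer (V : Set G) →
      g * m * g⁻¹ ∈ Subgroup.normalizer (H70.cj g V : Set G) := by
    intro m hm
    rw [← cj_eq_self_iff] at hm ⊢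
    rw [cj_cj, show g * m * g⁻¹ * g = g * m by group, ← cj_cj, hm]
  refine ⟨⟨⟨⟨?_⟩⟩, ?_⟩, ?_, ?_, H68.ti_cj hV.ti g⟩
  · rintro ⟨_, x, hx, rfl⟩ ⟨_, y, hy, rfl⟩
    exact Subtype.ext (by
      show (MulAut.conj g).toMonoidHom x * (MulAut.conj g).toMonoidHom y = _
      rw [← map_mul, hV.comm hx hy, map_mul]; rfl)
  · rintro _ ⟨x, hx, rfl⟩
    rw [← map_pow, hV.elem.2 x hx, map_one]
  · intro x hx hxc
    rw [qn_cj, mem_cj]
    refine hV.cent _ (hnorm x hx) fun y hy => ?_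
    have h := hxc (g * y * g⁻¹) (by rw [qn_cj]; exact mem_cj_of hy)
    calc g⁻¹ * x * g * y = g⁻¹ * (x * (g * y * g⁻¹)) * g := by group
      _ = g⁻¹ * ((g * y * g⁻¹) * x) * g := by rw [h]
      _ = y * (g⁻¹ * x * g) := by group
  · intro A hVA hAN hAc hAn
    have h := hV.max (H70.cj g⁻¹ A) (by
        have := cj_mono g⁻¹ hVA
        rwa [cj_cj, inv_mul_cancel, cj_one] at this)
      (by
        rintro _ ⟨a, ha, rfl⟩
        simpa using hnorm a (hAN ha))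
      (by
        refine ⟨⟨?_⟩⟩
        rintro ⟨_, a, ha, rfl⟩ ⟨_, b, hb, rfl⟩
        refine Subtype.ext ?_
        show (MulAut.conj g⁻¹).toMonoidHom a * (MulAut.conj g⁻¹).toMonoidHom b = _
        haveI := hAc
        rw [← map_mul, show a * b = b * a from congrArg Subtype.val (mul_comm' (⟨a, ha⟩ : A) ⟨b, hb⟩),
          map_mul]
        rfl)
      (by
        rintro m hm _ ⟨a, ha, rfl⟩
        refine ⟨_, hAn _ (hnorm' m hm) a ha, ?_⟩
        show g⁻¹ * (g * m * g⁻¹ * a * (g * m * g⁻¹)⁻¹) * g⁻¹⁻¹ = m * (g⁻¹ * a * g⁻¹⁻¹) * m⁻¹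
        group)
    rw [cj_eq_iff, inv_inv] at h
    exact h

/-- An element of `Q` centralizing `Q` lies in `V`. -/
theorem TIQ.centre_le (hV : TIQ V) {x : G} (hx : x ∈ qn V) (hxc : ∀ y ∈ qn V, x * y = y * x) :
    x ∈ V := by
  let A : Subgroup G := qn V ⊓ Subgroup.centralizer (qn V : Set G)
  have hA : ∀ z, z ∈ A ↔ z ∈ qn V ∧ ∀ y ∈ qn V, z * y = y * z := fun z => by
    rw [Subgroup.mem_inf, mem_cent]
  have hcomm : IsMulCommutative ↥(Subgroup.closure ((A : Set G) ∪ V)) := by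
    refine Subgroup.isMulCommutative_closure ?_
    rintro a (ha | ha) b (hb | hb)
    · exact ((hA a).1 ha).2 b ((hA b).1 hb).1
    · exact ((hA a).1 ha).2 b (hV.le_qn_self hb)
    · exact (((hA b).1 hb).2 a (hV.le_qn_self ha)).symm
    · exact hV.comm ha hb
  have hle : Subgroup.closure ((A : Set G) ∪ V) ≤ Subgroup.normalizer (V : Set G) := by
    rw [Subgroup.closure_le]
    rintro a (ha | ha)
    · exact qn_le_norm V ((hA a).1 ha).1
    · exact Subgroup.le_normalizer ha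
  have h := hV.max _ (fun v hv => Subgroup.subset_closure (Or.inr hv)) hle hcomm (by
    intro m hm a ha
    induction ha using Subgroup.closure_induction with
    | mem y hy =>
      refine Subgroup.subset_closure ?_
      rcases hy with hy | hy
      · refine Or.inl ((hA _).2 ⟨qn_conj_mem hm ((hA y).1 hy).1, fun z hz => ?_⟩)
        have hz' : m⁻¹ * z * m ∈ qn V := by simpa using qn_conj_mem (Subgroup.inv_mem _ hm) hz
        calc m * y * m⁻¹ * z = m * (y * (m⁻¹ * z * m)) * m⁻¹ := by group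
          _ = m * ((m⁻¹ * z * m) * y) * m⁻¹ := by rw [((hA y).1 hy).2 _ hz']
          _ = z * (m * y * m⁻¹) := by group
      · exact Or.inr (conj_mem_of_mem_norm hm hy)
    | one => simp
    | mul a b _ _ h h' =>
      rw [show m * (a * b) * m⁻¹ = (m * a * m⁻¹) * (m * b * m⁻¹) by group]
      exact Subgroup.mul_mem _ h h'
    | inv a _ h =>
      rw [show m * a⁻¹ * m⁻¹ = (m * a * m⁻¹)⁻¹ by group]
      exact Subgroup.inv_mem _ h)
  have hxA : x ∈ Subgroup.closure ((A : Set G) ∪ V) :=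
    Subgroup.subset_closure (Or.inl ((hA x).2 ⟨hx, hxc⟩))
  exact le_of_eq h hxA

/-- `Z(P) = V`. -/
theorem TIQ.pn_centre_le (hV : TIQ V) {x : G} (hx : x ∈ pn V)
    (hxc : ∀ y ∈ pn V, x * y = y * x) : x ∈ V := by
  have hK : ∀ z, z ∈ pn V ⊓ Subgroup.centralizer (pn V : Set G) ↔
      z ∈ pn V ∧ ∀ y ∈ pn V, z * y = y * z := fun z => by
    rw [Subgroup.mem_inf, mem_cent]
  have hcomm : IsMulCommutative ↥(pn V ⊓ Subgroup.centralizer (pn V : Set G)) :=
    ⟨⟨fun a b => Subtype.ext (((hK _).1 a.2).2 b ((hK _).1 b.2).1)⟩⟩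
  have h := hV.max _ (fun v hv => (hK v).2 ⟨hV.le_pn_self hv, fun y hy => ((mem_cent.mp hy.2) v hv).symm⟩)
    (inf_le_left.trans (inf_le_left.trans (qn_le_norm V))) hcomm (by
    intro m hm a ha
    refine (hK _).2 ⟨pn_conj_mem hm ((hK a).1 ha).1, fun z hz => ?_⟩
    have hz' : m⁻¹ * z * m ∈ pn V := by simpa using pn_conj_mem (Subgroup.inv_mem _ hm) hz
    calc m * a * m⁻¹ * z = m * (a * (m⁻¹ * z * m)) * m⁻¹ := by group
      _ = m * ((m⁻¹ * z * m) * a) * m⁻¹ := by rw [((hK a).1 ha).2 _ hz']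
      _ = z * (m * a * m⁻¹) := by group)
  rw [← h]
  exact (hK x).2 ⟨hx, hxc⟩

theorem comm_mem_left {D : Subgroup G} {x y : G} (hx : x ∈ D)
    (hy : ∀ d ∈ D, y * d * y⁻¹ ∈ D) : ⁅x, y⁆ ∈ D := by
  rw [commutatorElement_def, show x * y * x⁻¹ * y⁻¹ = x * (y * x⁻¹ * y⁻¹) by group]
  exact D.mul_mem hx (hy _ (D.inv_mem hx))

theorem comm_eq_one {x y : G} : ⁅x, y⁆ = 1 ↔ x * y = y * x :=
  commutatorElement_eq_one_iff_mul_comm

/-- All commutators of `P` lie in `V`. -/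
theorem TIQ.comm_pn_mem (hV : TIQ V) {x y : G} (hx : x ∈ pn V) (hy : y ∈ pn V) : ⁅x, y⁆ ∈ V := by
  haveI : Fact (Nat.Prime 2) := ⟨Nat.prime_two⟩
  have hPN : ∀ a ∈ pn V, a ∈ Subgroup.normalizer (V : Set G) := fun a ha => qn_le_norm V ha.1
  -- the second centre
  let Y : Subgroup G :=
    { carrier := {z | z ∈ pn V ∧ ∀ p ∈ pn V, ⁅z, p⁆ ∈ V}
      one_mem' := ⟨(pn V).one_mem, fun p _ => by simp⟩
      mul_mem' := fun {a b} ha hb => ⟨(pn V).mul_mem ha.1 hb.1, fun p hp => by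
        rw [show ⁅a * b, p⁆ = a * ⁅b, p⁆ * a⁻¹ * ⁅a, p⁆ by simp only [commutatorElement_def]; group]
        exact V.mul_mem (conj_mem_of_mem_norm (hPN a ha.1) (hb.2 p hp)) (ha.2 p hp)⟩
      inv_mem' := fun {a} ha => ⟨(pn V).inv_mem ha.1, fun p hp => by
        rw [show ⁅a⁻¹, p⁆ = a⁻¹ * ⁅a, p⁆⁻¹ * a by simp only [commutatorElement_def]; group]
        simpa using conj_mem_of_mem_norm (Subgroup.inv_mem _ (hPN a ha.1)) (V.inv_mem (ha.2 p hp))⟩ }
  have hYm : ∀ z, z ∈ Y ↔ z ∈ pn V ∧ ∀ p ∈ pn V, ⁅z, p⁆ ∈ V := fun _ => Iff.rfl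
  have hVY : V ≤ Y := fun v hv => (hYm v).2 ⟨hV.le_pn_self hv, fun p hp => by
    rw [comm_eq_one.mpr ((mem_cent.mp hp.2) v hv).symm]; exact V.one_mem⟩
  have hYn : ∀ m ∈ Subgroup.normalizer (V : Set G), ∀ z ∈ Y, m * z * m⁻¹ ∈ Y := by
    intro m hm z hz
    refine (hYm _).2 ⟨pn_conj_mem hm hz.1, fun p hp => ?_⟩
    have hp' : m⁻¹ * p * m ∈ pn V := by simpa using pn_conj_mem (Subgroup.inv_mem _ hm) hp
    rw [show ⁅m * z * m⁻¹, p⁆ = m * ⁅z, m⁻¹ * p * m⁆ * m⁻¹ by simp only [commutatorElement_def]; group]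
    exact conj_mem_of_mem_norm hm (((hYm z).1 hz).2 _ hp')
  have hK : pn V ⊓ Subgroup.centralizer (Y : Set G) ≤ V := by
    by_contra hne
    obtain ⟨d, hd, hdV, hfix⟩ := exists_fixed_coset ((qn_isPGroup V).to_le (inf_le_left : pn V ≤ qn V))
      (((qn_isPGroup V).to_le (inf_le_left : pn V ≤ qn V)).to_le inf_le_left)
      (le_inf hV.le_pn_self fun v hv => mem_cent.mpr fun z hz =>
        ((mem_cent.mp (((hYm z).1 hz).1).2) v hv).symm)
      hne
      (fun a ha d hd => ⟨pn_conj_mem (hPN a ha) hd.1, mem_cent.mpr fun z hz => by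
        have hz' : a⁻¹ * z * a ∈ Y := by simpa using hYn a⁻¹ (Subgroup.inv_mem _ (hPN a ha)) z hz
        calc a * d * a⁻¹ * z = a * (d * (a⁻¹ * z * a)) * a⁻¹ := by group
          _ = a * ((a⁻¹ * z * a) * d) * a⁻¹ := by rw [(mem_cent.mp hd.2) _ hz']
          _ = z * (a * d * a⁻¹) := by group⟩)
      (fun a ha l hl => conj_mem_of_mem_norm (hPN a ha) hl)
    have hdY : d ∈ Y := (hYm d).2 ⟨hd.1, fun p hp => by
      rw [show ⁅d, p⁆ = d * (d⁻¹ * (p * d * p⁻¹))⁻¹ * d⁻¹ by simp only [commutatorElement_def]; group]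
      exact conj_mem_of_mem_norm (hPN d hd.1) (V.inv_mem (hfix p hp))⟩
    apply hdV
    -- the centre of `Y` is `V`
    have hcomm : IsMulCommutative ↥(Y ⊓ Subgroup.centralizer (Y : Set G)) :=
      ⟨⟨fun a b => Subtype.ext ((mem_cent.mp a.2.2) b b.2.1)⟩⟩
    have h := hV.max (Y ⊓ Subgroup.centralizer (Y : Set G))
      (le_inf hVY fun v hv => mem_cent.mpr fun z hz => ((mem_cent.mp hz.1.2) v hv).symm)
      (fun z hz => hPN z hz.1.1) hcomm
      (fun m hm a ha => ⟨hYn m hm a ha.1, mem_cent.mpr fun z hz => by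
        have hz' : m⁻¹ * z * m ∈ Y := by simpa using hYn m⁻¹ (Subgroup.inv_mem _ hm) z hz
        calc m * a * m⁻¹ * z = m * (a * (m⁻¹ * z * m)) * m⁻¹ := by group
          _ = m * ((m⁻¹ * z * m) * a) * m⁻¹ := by rw [(mem_cent.mp ha.2) _ hz']
          _ = z * (m * a * m⁻¹) := by group⟩)
    rw [← h]
    exact ⟨hdY, hd.2⟩
  refine hK ⟨comm_mem_left hx fun d hd => (pn V).mul_mem ((pn V).mul_mem hy hd) ((pn V).inv_mem hy),
    mem_cent.mpr fun z hz => ?_⟩
  -- translations of `Y` commute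
  have htr : ∀ p ∈ pn V, ∀ z ∈ Y, ∃ v ∈ V, p * z * p⁻¹ = v * z ∧ ∀ r ∈ pn V, r * v * r⁻¹ = v := by
    intro p hp z hz
    refine ⟨⁅z, p⁆⁻¹, V.inv_mem (((hYm z).1 hz).2 p hp), ?_, fun r hr => ?_⟩
    · simp only [commutatorElement_def]; group
    · rw [(mem_cent.mp hr.2) _ (V.inv_mem (((hYm z).1 hz).2 p hp)), mul_inv_cancel_right]
  have hxy : ∀ a ∈ pn V, ∀ b ∈ pn V, (a * b) * z * (a * b)⁻¹ = (b * a) * z * (b * a)⁻¹ := by
    intro a ha b hb
    obtain ⟨u, hu, hau, hur⟩ := htr a ha z hz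
    obtain ⟨v, hv, hbv, hvr⟩ := htr b hb z hz
    calc (a * b) * z * (a * b)⁻¹ = a * (b * z * b⁻¹) * a⁻¹ := by group
      _ = (a * v * a⁻¹) * (a * z * a⁻¹) := by rw [hbv]; group
      _ = v * (u * z) := by rw [hvr a ha, hau]
      _ = u * (v * z) := by rw [← mul_assoc, ← mul_assoc, hV.comm hv hu]
      _ = (b * u * b⁻¹) * (b * z * b⁻¹) := by rw [hur b hb, hbv]
      _ = (b * a) * z * (b * a)⁻¹ := by rw [show b * a * z * (b * a)⁻¹ = b * (a * z * a⁻¹) * b⁻¹ by group, hau]; group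
  have h := hxy x⁻¹ ((pn V).inv_mem hx) y⁻¹ ((pn V).inv_mem hy)
  calc ⁅x, y⁆ * z = (x * y) * ((x⁻¹ * y⁻¹) * z * (x⁻¹ * y⁻¹)⁻¹) * (x⁻¹ * y⁻¹) := by
        simp only [commutatorElement_def]; group
    _ = (x * y) * ((y⁻¹ * x⁻¹) * z * (y⁻¹ * x⁻¹)⁻¹) * (x⁻¹ * y⁻¹) := by rw [h]
    _ = z * ⁅x, y⁆ := by simp only [commutatorElement_def]; group

theorem TIQ.comm_mul_left (hV : TIQ V) {x y z : G} (hx : x ∈ pn V) (hy : y ∈ pn V) (hz : z ∈ pn V) :
    ⁅x * y, z⁆ = ⁅x, z⁆ * ⁅y, z⁆ := by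
  rw [show ⁅x * y, z⁆ = x * ⁅y, z⁆ * x⁻¹ * ⁅x, z⁆ by simp only [commutatorElement_def]; group,
    (mem_cent.mp hx.2) _ (hV.comm_pn_mem hy hz), mul_inv_cancel_right,
    hV.comm (hV.comm_pn_mem hy hz) (hV.comm_pn_mem hx hz)]

theorem TIQ.comm_symm (hV : TIQ V) {x y : G} (hx : x ∈ pn V) (hy : y ∈ pn V) :
    ⁅x, y⁆ = ⁅y, x⁆ := by
  rw [← commutatorElement_inv, elem_inv hV.elem (hV.comm_pn_mem hy hx)]

theorem TIQ.comm_mul_right (hV : TIQ V) {x y z : G} (hx : x ∈ pn V) (hy : y ∈ pn V) (hz : z ∈ pn V) :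
    ⁅x, y * z⁆ = ⁅x, y⁆ * ⁅x, z⁆ := by
  rw [hV.comm_symm hx ((pn V).mul_mem hy hz), hV.comm_mul_left hy hz hx, hV.comm_symm hy hx,
    hV.comm_symm hz hx]

theorem TIQ.sq_mem (hV : TIQ V) {x : G} (hx : x ∈ pn V) : x * x ∈ V := by
  refine hV.pn_centre_le ((pn V).mul_mem hx hx) fun y hy => comm_eq_one.mp ?_
  rw [hV.comm_mul_left hx hx hy, ← pow_two]
  exact hV.elem.2 _ (hV.comm_pn_mem hx hy)

/-- An element of `N(V)` centralizing `P` lies in `V`. -/
theorem TIQ.cent_pn_le (hV : TIQ V) {x : G} (hx : x ∈ Subgroup.normalizer (V : Set G))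
    (hxc : ∀ y ∈ pn V, x * y = y * x) : x ∈ V := by
  haveI : Fact (Nat.Prime 2) := ⟨Nat.prime_two⟩
  have hDle : Subgroup.normalizer (V : Set G) ⊓ Subgroup.centralizer (pn V : Set G) ≤ qn V := by
    refine le_qn inf_le_left ?_ fun m hm a ha => ⟨Subgroup.mul_mem _ (Subgroup.mul_mem _ hm ha.1)
      (Subgroup.inv_mem _ hm), mem_cent.mpr fun z hz => ?_⟩
    · intro ⟨d, hdN, hdC⟩
      obtain ⟨k, m, hm, hk⟩ := Nat.exists_eq_two_pow_mul_odd (orderOf_pos d).ne'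
      refine ⟨k, Subtype.ext ?_⟩
      show d ^ 2 ^ k = 1
      have hodd : ¬ 2 ∣ orderOf (d ^ 2 ^ k) := by
        rw [orderOf_pow' _ (pow_ne_zero _ two_ne_zero), hk,
          Nat.gcd_eq_right (Dvd.intro _ rfl), Nat.mul_div_cancel_left _ (by positivity)]
        exact fun h => Nat.not_even_iff_odd.mpr hm (even_iff_two_dvd.mpr h)
      set y := d ^ 2 ^ k
      have hyN : y ∈ Subgroup.normalizer (V : Set G) := Subgroup.pow_mem _ hdN _
      have hyC : ∀ p ∈ pn V, y * p = p * y := mem_cent.mp (Subgroup.pow_mem _ hdC _)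
      have hyQ : y ∈ qn V := by
        refine hV.cent y hyN fun q hq => ?_
        have hc : y * q * y⁻¹ * q⁻¹ ∈ qn V :=
          (qn V).mul_mem (qn_conj_mem hyN hq) ((qn V).inv_mem hq)
        have hqN := qn_le_norm V hq
        have hcent : ∀ p ∈ pn V, (y * q * y⁻¹ * q⁻¹) * p = p * (y * q * y⁻¹ * q⁻¹) := by
          intro p hp
          have hp' : q⁻¹ * p * q ∈ pn V := by simpa using pn_conj_mem (Subgroup.inv_mem _ hqN) hp
          calc y * q * y⁻¹ * q⁻¹ * p = y * q * (y⁻¹ * (q⁻¹ * p * q)) * q⁻¹ := by group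
            _ = y * q * ((q⁻¹ * p * q) * y⁻¹) * q⁻¹ := by
              rw [(Commute.inv_left (hyC _ hp')).eq]
            _ = (y * p) * q * y⁻¹ * q⁻¹ := by group
            _ = p * (y * q * y⁻¹ * q⁻¹) := by rw [hyC p hp]; group
        have hcV : y * q * y⁻¹ * q⁻¹ ∈ V :=
          hV.pn_centre_le ⟨hc, mem_cent.mpr fun v hv => hcent v (hV.le_pn_self hv)⟩ hcent
        exact Cfsg.Comp.commute_of_commutator_commute (qn_isPGroup V) hodd hc
          (hyC _ (hV.le_pn_self hcV))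
      obtain ⟨j, hj⟩ := (qn_isPGroup V) ⟨y, hyQ⟩
      exact Cfsg.Comp.eq_one_of_pow_eq_one (m := orderOf y) (congrArg Subtype.val hj) hodd
        (pow_orderOf_eq_one y)
    · have hz' : m⁻¹ * z * m ∈ pn V := by simpa using pn_conj_mem (Subgroup.inv_mem _ hm) hz
      calc m * a * m⁻¹ * z = m * (a * (m⁻¹ * z * m)) * m⁻¹ := by group
        _ = m * ((m⁻¹ * z * m) * a) * m⁻¹ := by rw [(mem_cent.mp ha.2) _ hz']
        _ = z * (m * a * m⁻¹) := by group
  exact hV.pn_centre_le ⟨hDle ⟨hx, mem_cent.mpr hxc⟩, mem_cent.mpr fun v hv => hxc v (hV.le_pn_self hv)⟩ hxc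

end H68.TI
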