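import Cfsg.Agent.H68.TIPair

/-! A TI subgroup and a partner conjugate inside its two-core: the spread on `V × B`, and the
symmetry of the relation. -/

set_option autoImplicit false

namespace H68.TI

open H70
open scoped commutatorElement

variable {G : Type*} [Group G] [Finite G] {V B : Subgroup G}

/-- Two conjugates sharing a nontrivial element coincide. -/
theorem TIQ.conj_eq (hV : TIQ V) {x y a : G} (hax : a ∈ H70.cj x V) (hay : a ∈ H70.cj y V)
    (ha : a ≠ 1) : H70.cj x V = H70.cj y V := by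
  have h := (hV.cj y).ti (x * y⁻¹)
  rw [cj_cj, inv_mul_cancel_right] at h
  refine h.resolve_right fun hd => ha ?_
  rw [← Subgroup.mem_bot, ← hd]
  exact ⟨hax, hay⟩

theorem TIQ.conj_disjoint (hV : TIQ V) {x : G} (hne : H70.cj x V ≠ V) {a : G}
    (hax : a ∈ H70.cj x V) (hav : a ∈ V) : a = 1 := by
  by_contra ha
  exact hne (by simpa using hV.conj_eq hax (y := 1) (by simpa using hav) ha)

/-- The data: `B` is a conjugate of `V`, different from it, inside `Q`. -/
structure Partner (V B : Subgroup G) : Prop where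
  base : TIQ V
  conj : ∃ g : G, B = H70.cj g V
  ne : B ≠ V
  le : B ≤ qn V

theorem Partner.partner_tiq (h : Partner V B) : TIQ B := by
  obtain ⟨g, rfl⟩ := h.conj
  exact h.base.cj g

theorem Partner.disjoint (h : Partner V B) {a : G} (haB : a ∈ B) (haV : a ∈ V) : a = 1 := by
  obtain ⟨g, rfl⟩ := h.conj
  exact h.base.conj_disjoint h.ne haB haV

theorem Partner.card_eq (h : Partner V B) : Nat.card B = Nat.card V := by
  obtain ⟨g, rfl⟩ := h.conj
  exact card_cj g V

theorem Partner.ne_bot (h : Partner V B) : ∃ a ∈ B, a ≠ 1 := by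
  by_contra hc
  push Not at hc
  have hB : B = ⊥ := (Subgroup.eq_bot_iff_forall B).mpr hc
  obtain ⟨g, hg⟩ := h.conj
  have hV : V = ⊥ := by
    rw [← Subgroup.card_eq_one, ← h.card_eq, Subgroup.card_eq_one.mpr hB]
  exact h.ne (hB.trans hV.symm)

theorem Partner.comm (h : Partner V B) {v a : G} (hv : v ∈ V) (ha : a ∈ B) : v * a = a * v := by
  classical
  haveI : Fact (Nat.Prime 2) := ⟨Nat.prime_two⟩
  have hV := h.base
  have hB := h.partner_tiq
  have hBN : ∀ b ∈ B, b ∈ Subgroup.normalizer (V : Set G) := fun b hb => qn_le_norm V (h.le hb)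
  by_cases hall : ∀ v ∈ V, v ∈ Subgroup.normalizer (B : Set G)
  · exact commute_of_commutator_eq_bot (commutator_eq_bot_of_normalize
      ((Subgroup.eq_bot_iff_forall _).mpr fun x hx => h.disjoint hx.2 hx.1) hall hBN) hv ha
  push Not at hall
  obtain ⟨v₀, hv₀, hv₀N⟩ := hall
  exfalso
  have hV0 : ∀ w ∈ V, w ∈ Subgroup.normalizer (B : Set G) → ∀ b ∈ B, w * b = b * w := by
    intro w hw hwN b hb
    refine comm_eq_one.mp ?_
    refine h.disjoint ?_ ?_
    · rw [commutatorElement_def]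
      exact B.mul_mem (conj_mem_of_mem_norm hwN hb) (B.inv_mem hb)
    · rw [commutatorElement_def, mul_assoc, mul_assoc]
      exact V.mul_mem hw (by simpa [mul_assoc] using conj_mem_of_mem_norm (hBN b hb) (V.inv_mem hw))
  have hmem : ∀ b ∈ B, ⁅v₀, b⁆ ∈ V ∧ ⁅v₀, b⁆ ∈ Subgroup.normalizer (B : Set G) := by
    intro b hb
    have hm : ⁅v₀, b⁆ ∈ V := comm_mem_left hv₀ fun d hd => conj_mem_of_mem_norm (hBN b hb) hd
    refine ⟨hm, ?_⟩
    by_cases hb1 : b = 1
    · simp [hb1]
    refine hB.comm_norm hb hb1 ?_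
    have hb2 : b * b = 1 := by rw [← pow_two]; exact hB.elem.2 b hb
    have hbi : b⁻¹ = b := elem_inv hB.elem hb
    have hinv : ⁅v₀, b⁆⁻¹ = ⁅v₀, b⁆ := elem_inv hV.elem hm
    calc ⁅v₀, b⁆ * b = v₀ * b * v₀⁻¹ := by rw [commutatorElement_def, inv_mul_cancel_right]
      _ = b * ⁅v₀, b⁆⁻¹ := by
        rw [commutatorElement_def, mul_inv_rev, mul_inv_rev, mul_inv_rev, inv_inv, inv_inv, hbi,
          elem_inv hV.elem hv₀, ← mul_assoc, ← mul_assoc, hb2, one_mul, mul_assoc]
      _ = b * ⁅v₀, b⁆ := by rw [hinv]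
  let V0 : Subgroup G := V ⊓ Subgroup.normalizer (B : Set G)
  let f : B → V0 := fun b => ⟨⁅v₀, (b : G)⁆, (hmem b b.2).1, (hmem b b.2).2⟩
  have hf : Function.Injective f := by
    intro b c hbc
    have hbc' : ⁅v₀, (b : G)⁆ = ⁅v₀, (c : G)⁆ := congrArg Subtype.val hbc
    simp only [commutatorElement_def] at hbc'
    by_contra hne
    refine hv₀N (hB.comm_norm (B.mul_mem (B.inv_mem b.2) c.2) (fun h1 => hne (Subtype.ext
      (inv_mul_eq_one.mp h1))) ?_)
    have h2 : (b : G) * v₀⁻¹ * (b : G)⁻¹ = (c : G) * v₀⁻¹ * (c : G)⁻¹ := by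
      simpa [mul_assoc] using hbc'
    have h3 := congrArg (fun z => (c : G)⁻¹ * z * (b : G)) h2
    simp only [mul_assoc, inv_mul_cancel, mul_one, inv_mul_cancel_left] at h3
    have h4 : ((c : G)⁻¹ * (b : G)) * v₀⁻¹ = v₀⁻¹ * ((c : G)⁻¹ * (b : G)) := by
      simpa [mul_assoc] using h3
    have h5 : Commute ((c : G)⁻¹ * (b : G))⁻¹ v₀ := by
      have h6 : Commute ((c : G)⁻¹ * (b : G)) v₀⁻¹ := h4
      simpa using h6.inv_inv
    rw [mul_inv_rev, inv_inv] at h5
    exact h5.eq.symm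
  have h1 : Nat.card B ≤ Nat.card V0 := Nat.card_le_card_of_injective f hf
  rw [h.card_eq] at h1
  exact hv₀N ((Subgroup.eq_of_le_of_card_ge inf_le_left h1).ge hv₀).2

theorem Partner.le_pn (h : Partner V B) : B ≤ pn V :=
  le_inf h.le fun _ ha => mem_cent.mpr fun _ hv => (h.comm hv ha).symm

theorem Partner.base_norm (h : Partner V B) {v : G} (hv : v ∈ V) :
    v ∈ Subgroup.normalizer (B : Set G) :=
  mem_norm_of fun a ha => by rw [h.comm hv ha, mul_inv_cancel_right]; exact ha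

theorem Partner.base_cent (h : Partner V B) {v : G} (hv : v ∈ V) :
    v ∈ Subgroup.centralizer (B : Set G) :=
  mem_cent.mpr fun _ ha => h.comm hv ha

/-- A conjugate of `B` under `N(V)` not commuting with `B`. -/
theorem Partner.exists_opp (h : Partner V B) :
    ∃ E : Subgroup G, Partner V E ∧ (∃ m ∈ Subgroup.normalizer (V : Set G), E = H70.cj m B) ∧
      ∃ a ∈ B, ∃ e ∈ E, a * e ≠ e * a := by
  by_contra hc
  push Not at hc
  have hV := h.base
  have hpart : ∀ m ∈ Subgroup.normalizer (V : Set G), Partner V (H70.cj m B) := by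
    intro m hm
    refine ⟨hV, ?_, ?_, ?_⟩
    · obtain ⟨g, hg⟩ := h.conj
      exact ⟨m * g, by rw [hg, cj_cj]⟩
    · intro he
      rw [cj_eq_iff] at he
      exact h.ne (he.trans (cj_eq_self_iff.mpr (Subgroup.inv_mem _ hm)))
    · rintro _ ⟨a, ha, rfl⟩
      exact qn_conj_mem hm (h.le ha)
  let S : Set G := {x | x ∈ V ∨ ∃ m ∈ Subgroup.normalizer (V : Set G), ∃ a ∈ B, x = m * a * m⁻¹}
  have hcomm : IsMulCommutative ↥(Subgroup.closure S) := by
    refine Subgroup.isMulCommutative_closure ?_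
    rintro x (hx | ⟨m, hm, a, ha, rfl⟩) y (hy | ⟨m', hm', b, hb, rfl⟩)
    · exact hV.comm hx hy
    · exact (hpart m' hm').comm hx (mem_cj_of hb)
    · exact ((hpart m hm).comm hy (mem_cj_of ha)).symm
    · have hmm : m⁻¹ * m' ∈ Subgroup.normalizer (V : Set G) :=
        Subgroup.mul_mem _ (Subgroup.inv_mem _ hm) hm'
      have h0 := hc _ (hpart _ hmm) ⟨_, hmm, rfl⟩ a ha _ (mem_cj_of hb)
      calc m * a * m⁻¹ * (m' * b * m'⁻¹)
          = m * (a * (m⁻¹ * m' * b * (m⁻¹ * m')⁻¹)) * m⁻¹ := by group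
        _ = m * ((m⁻¹ * m' * b * (m⁻¹ * m')⁻¹) * a) * m⁻¹ := by rw [h0]
        _ = m' * b * m'⁻¹ * (m * a * m⁻¹) := by group
  have hA := hV.max (Subgroup.closure S) (fun v hv => Subgroup.subset_closure (Or.inl hv))
    ((Subgroup.closure_le _).mpr (by
      rintro x (hx | ⟨m, hm, a, ha, rfl⟩)
      · exact Subgroup.le_normalizer hx
      · exact qn_le_norm V (qn_conj_mem hm (h.le ha))))
    hcomm (by
      intro m hm a ha
      induction ha using Subgroup.closure_induction with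
      | mem y hy =>
        refine Subgroup.subset_closure ?_
        rcases hy with hy | ⟨m', hm', b, hb, rfl⟩
        · exact Or.inl (conj_mem_of_mem_norm hm hy)
        · exact Or.inr ⟨m * m', Subgroup.mul_mem _ hm hm', b, hb, by group⟩
      | one => simp
      | mul a b _ _ h h' =>
        rw [show m * (a * b) * m⁻¹ = (m * a * m⁻¹) * (m * b * m⁻¹) by group]
        exact Subgroup.mul_mem _ h h'
      | inv a _ h =>
        rw [show m * a⁻¹ * m⁻¹ = (m * a * m⁻¹)⁻¹ by group]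
        exact Subgroup.inv_mem _ h)
  obtain ⟨a, ha, hne⟩ := h.ne_bot
  have haV : a ∈ Subgroup.closure S :=
    Subgroup.subset_closure (Or.inr ⟨1, Subgroup.one_mem _, a, ha, by simp⟩)
  rw [hA] at haV
  exact hne (h.disjoint ha haV)

/-- Two noncommuting partners. -/
structure Triangle (V B E : Subgroup G) : Prop where
  left : Partner V B
  right : Partner V E
  conj : ∃ m ∈ Subgroup.normalizer (V : Set G), E = H70.cj m B
  noncomm : ∃ a ∈ B, ∃ e ∈ E, a * e ≠ e * a

theorem Partner.exists_triangle (h : Partner V B) : ∃ E, Triangle V B E := by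
  obtain ⟨E, h1, h2, h3⟩ := h.exists_opp
  exact ⟨E, h, h1, h2, h3⟩

variable {E : Subgroup G}

theorem Triangle.symm (t : Triangle V B E) : Triangle V E B := by
  obtain ⟨m, hm, he⟩ := t.conj
  obtain ⟨a, ha, e, hee, hne⟩ := t.noncomm
  exact ⟨t.right, t.left, ⟨m⁻¹, Subgroup.inv_mem _ hm, by rw [he, cj_cj, inv_mul_cancel, cj_one]⟩,
    e, hee, a, ha, Ne.symm hne⟩

theorem Triangle.nondeg (t : Triangle V B E) {a e : G} (ha : a ∈ B) (he : e ∈ E)
    (h : a * e = e * a) : a = 1 ∨ e = 1 := by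
  by_contra hc
  push Not at hc
  obtain ⟨ha1, he1⟩ := hc
  have hB := t.left.partner_tiq
  have hE := t.right.partner_tiq
  have hV := t.left.base
  have hPB := t.left.le_pn
  have hPE := t.right.le_pn
  -- every element of `B` centralizes `e`
  have h1 : ∀ b ∈ B, b * e = e * b := by
    intro b hb
    have hn : e ∈ Subgroup.normalizer (B : Set G) := hB.comm_norm ha ha1 h.symm
    refine comm_eq_one.mp (t.left.disjoint ?_ (hV.comm_pn_mem (hPB hb) (hPE he)))
    exact comm_mem_left hb fun d hd => conj_mem_of_mem_norm hn hd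
  obtain ⟨b, hb, f, hf, hne⟩ := t.noncomm
  refine hne (comm_eq_one.mp (t.right.disjoint ?_ (hV.comm_pn_mem (hPB hb) (hPE hf))))
  have hn : b ∈ Subgroup.normalizer (E : Set G) := hE.comm_norm he he1 (h1 b hb)
  rw [commutatorElement_def]
  exact E.mul_mem (conj_mem_of_mem_norm hn hf) (E.inv_mem hf)

theorem Triangle.surj (t : Triangle V B E) {a v : G} (ha : a ∈ B) (ha1 : a ≠ 1) (hv : v ∈ V) :
    ∃ e ∈ E, ⁅a, e⁆ = v := by
  have hV := t.left.base
  have hPB := t.left.le_pn
  have hPE := t.right.le_pn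
  let f : E → V := fun e => ⟨⁅a, (e : G)⁆, hV.comm_pn_mem (hPB ha) (hPE e.2)⟩
  have hf : Function.Injective f := by
    intro e e' hee
    have hee' : ⁅a, (e : G)⁆ = ⁅a, (e' : G)⁆ := congrArg Subtype.val hee
    have h1 : ⁅a, (e : G) * e'⁆ = 1 := by
      rw [hV.comm_mul_right (hPB ha) (hPE e.2) (hPE e'.2), hee', ← pow_two]
      exact hV.elem.2 _ (hV.comm_pn_mem (hPB ha) (hPE e'.2))
    rcases t.nondeg ha (E.mul_mem e.2 e'.2) (comm_eq_one.mp h1) with h2 | h2
    · exact absurd h2 ha1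
    · exact Subtype.ext ((eq_inv_of_mul_eq_one_left h2).trans (elem_inv t.right.partner_tiq.elem e'.2))
  have hs : Function.Surjective f :=
    ((Nat.bijective_iff_injective_and_card f).mpr ⟨hf, t.right.card_eq⟩).2
  obtain ⟨e, he⟩ := hs ⟨v, hv⟩
  exact ⟨e, e.2, congrArg Subtype.val he⟩

/-- `P = (P ∩ C(B)) E`. -/
theorem Triangle.exists_mul_cent (t : Triangle V B E) {p : G} (hp : p ∈ pn V) :
    ∃ e ∈ E, p * e ∈ pn V ∧ p * e ∈ Subgroup.centralizer (B : Set G) := by
  have hV := t.left.base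
  obtain ⟨a, ha, ha1⟩ := t.left.ne_bot
  have hPB := t.left.le_pn
  obtain ⟨e, he, hae⟩ := t.surj ha ha1 (hV.comm_pn_mem (hPB ha) hp)
  have hPE := t.right.le_pn
  have hpe : p * e ∈ pn V := (pn V).mul_mem hp (hPE he)
  refine ⟨e, he, hpe, mem_cent.mpr fun b hb => ?_⟩
  have hcomm : a * (p * e) = (p * e) * a := comm_eq_one.mp (by
    rw [hV.comm_mul_right (hPB ha) hp (hPE he), hae, ← pow_two]
    exact hV.elem.2 _ (hV.comm_pn_mem (hPB ha) hp))
  have hn := t.left.partner_tiq.comm_norm ha ha1 hcomm.symm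
  refine (comm_eq_one.mp (t.left.disjoint ?_ (hV.comm_pn_mem (hPB hb) hpe))).symm
  exact comm_mem_left hb fun d hd => conj_mem_of_mem_norm hn hd

theorem Partner.mem_sup (h : Partner V B) {w : G} :
    w ∈ V ⊔ B ↔ ∃ v ∈ V, ∃ a ∈ B, w = v * a := by
  constructor
  · intro hw
    have : w ∈ ((V ⊔ B : Subgroup G) : Set G) := hw
    rw [Subgroup.coe_mul_of_left_le_normalizer_right V B (fun v hv => h.base_norm hv)] at this
    obtain ⟨v, hv, a, ha, rfl⟩ := Set.mem_mul.mp this
    exact ⟨v, hv, a, ha, rfl⟩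
  · rintro ⟨v, hv, a, ha, rfl⟩
    exact Subgroup.mul_mem _ (Subgroup.mem_sup_left hv) (Subgroup.mem_sup_right ha)

/-- `P` normalizes `V ⊔ B`. -/
theorem Partner.pn_norm (h : Partner V B) {p : G} (hp : p ∈ pn V) :
    p ∈ Subgroup.normalizer ((V ⊔ B : Subgroup G) : Set G) := by
  refine mem_norm_of fun w hw => ?_
  obtain ⟨v, hv, a, ha, rfl⟩ := h.mem_sup.mp hw
  refine h.mem_sup.mpr ⟨v * ⁅p, a⁆, V.mul_mem hv (h.base.comm_pn_mem hp (h.le_pn ha)), a, ha, ?_⟩
  rw [show p * (v * a) * p⁻¹ = (p * v * p⁻¹) * (p * a * p⁻¹) by group,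
    (mem_cent.mp hp.2) v hv, mul_inv_cancel_right,
    show p * a * p⁻¹ = ⁅p, a⁆ * a by simp only [commutatorElement_def]; group, mul_assoc]

/-- An element of `V ⊔ B` outside `V` lies in a conjugate of `B` by `E`. -/
theorem Triangle.cover (t : Triangle V B E) {w : G} (hw : w ∈ V ⊔ B) (hwV : w ∉ V) :
    ∃ e ∈ E, w ∈ H70.cj e B := by
  obtain ⟨v, hv, a, ha, rfl⟩ := t.left.mem_sup.mp hw
  have ha1 : a ≠ 1 := fun h => hwV (by rw [h, mul_one]; exact hv)
  obtain ⟨e, he, hae⟩ := t.surj ha ha1 hv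
  refine ⟨e, he, ⟨a, ha, ?_⟩⟩
  show e * a * e⁻¹ = v * a
  rw [← hae, t.left.base.comm_symm (t.left.le_pn ha) (t.right.le_pn he)]
  simp only [commutatorElement_def]; group

theorem Triangle.cj_le (t : Triangle V B E) {e : G} (he : e ∈ E) : H70.cj e B ≤ V ⊔ B := by
  rintro _ ⟨a, ha, rfl⟩
  refine t.left.mem_sup.mpr ⟨⁅e, a⁆, t.left.base.comm_pn_mem (t.right.le_pn he) (t.left.le_pn ha), a, ha, ?_⟩
  show e * a * e⁻¹ = ⁅e, a⁆ * a
  simp only [commutatorElement_def]; group

/-- The conjugates of `V` meeting `V ⊔ B` nontrivially. -/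
theorem Triangle.member (t : Triangle V B E) {x w : G} (hwx : w ∈ H70.cj x V) (hw : w ∈ V ⊔ B)
    (hw1 : w ≠ 1) : H70.cj x V = V ∨ ∃ e ∈ E, H70.cj x V = H70.cj e B := by
  by_cases hwV : w ∈ V
  · exact Or.inl (by simpa using t.left.base.conj_eq hwx (y := 1) (by simpa using hwV) hw1)
  · obtain ⟨e, he, hwe⟩ := t.cover hw hwV
    obtain ⟨g, hg⟩ := t.left.conj
    rw [hg, cj_cj] at hwe
    exact Or.inr ⟨e, he, by rw [hg, cj_cj]; exact t.left.base.conj_eq hwx hwe hw1⟩

/-- A conjugate inside `V ⊔ B`, other than `V`, whose two-core contains `V ⊔ B`, forces symmetry. -/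
theorem Triangle.symm_of_source (t : Triangle V B E) {x : G} (hne : H70.cj x V ≠ V)
    (hle : H70.cj x V ≤ V ⊔ B) (hsrc : V ⊔ B ≤ qn (H70.cj x V)) : V ≤ qn B := by
  obtain ⟨w, hw, hw1⟩ := t.left.ne_bot
  obtain ⟨g, hg⟩ := t.left.conj
  have hw' : x * (g⁻¹ * w * g) * x⁻¹ ∈ H70.cj x V := mem_cj_of (by rw [hg, mem_cj] at hw; exact hw)
  have hne1 : x * (g⁻¹ * w * g) * x⁻¹ ≠ 1 := fun h1 => hw1 (by
    rw [conj_eq_one_iff] at h1
    calc w = g * (g⁻¹ * w * g) * g⁻¹ := by group
      _ = 1 := by rw [h1, mul_one, mul_inv_cancel])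
  rcases t.member hw' (hle hw') hne1 with h | ⟨e, he, h⟩
  · exact absurd h hne
  · intro v hv
    have hv' : e * v * e⁻¹ ∈ qn (H70.cj e B) := by
      rw [← h]
      refine hsrc (Subgroup.mem_sup_left ?_)
      rw [(mem_cent.mp (t.right.le_pn he).2) v hv, mul_inv_cancel_right]
      exact hv
    rw [qn_cj, mem_cj] at hv'
    simpa [mul_assoc] using hv'

/-- The relation is symmetric. -/
theorem Partner.symm_le (h : Partner V B) : V ≤ qn B := by
  classical
  haveI : Fact (Nat.Prime 2) := ⟨Nat.prime_two⟩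
  obtain ⟨E, t⟩ := h.exists_triangle
  have hV := h.base
  have hB := h.partner_tiq
  by_contra hcon
  -- no element of `P'` moves a point of `V` inside `V ⊔ B`, except inside `N(V)`
  have hstay : ∀ x ∈ pn B, ∀ v ∈ V, v ≠ 1 → x * v * x⁻¹ ∈ V ⊔ B →
      x ∈ Subgroup.normalizer (V : Set G) := by
    intro x hx v hv hv1 hW
    by_contra hxN
    have hxv : x * v * x⁻¹ ∈ H70.cj x V := mem_cj_of hv
    have hne : H70.cj x V ≠ V := fun he => hxN (cj_eq_self_iff.mp he)
    have hle : H70.cj x V ≤ V ⊔ B := by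
      rcases t.member hxv hW (by simpa [conj_eq_one_iff] using hv1) with he | ⟨e, he, he'⟩
      · exact absurd he hne
      · rw [he']; exact t.cj_le he
    have hxB : H70.cj x B = B := cj_eq_self_iff.mpr (qn_le_norm B hx.1)
    have hWx : H70.cj x (V ⊔ B) = V ⊔ B := by
      refine Subgroup.eq_of_le_of_card_ge ?_ (card_cj x _).ge
      rw [H70.cj, Subgroup.map_sup]
      exact sup_le hle (hxB.le.trans le_sup_right)
    refine hcon (t.symm_of_source hne hle ?_)
    rw [qn_cj, ← hWx]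
    exact cj_mono x (sup_le hV.le_qn_self h.le)
  have hVP' : ∀ v ∈ V, v ∈ pn B → v = 1 := by
    intro v hv hvP
    by_contra hv1
    have hxN : ∀ x ∈ pn B, x * v = v * x := by
      intro x hx
      have hc : ⁅x, v⁆ ∈ B := hB.comm_pn_mem hx hvP
      have hN := hstay x hx v hv hv1 (h.mem_sup.mpr ⟨v, hv, ⁅x, v⁆, hc, by
        rw [h.comm hv hc, commutatorElement_def, inv_mul_cancel_right]⟩)
      refine comm_eq_one.mp (h.disjoint hc ?_)
      rw [commutatorElement_def]
      exact V.mul_mem (conj_mem_of_mem_norm hN hv) (V.inv_mem hv)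
    exact hv1 (h.disjoint (hB.pn_centre_le hvP fun x hx => (hxN x hx).symm) hv)
  have hVnorm : ∀ v ∈ V, ∀ x ∈ pn B, v * x * v⁻¹ ∈ pn B := fun v hv x hx =>
    pn_conj_mem (h.base_norm hv) hx
  have hkill : ∀ x ∈ pn B, ∀ v ∈ V, v ≠ 1 → ⁅x, v⁆ ∈ B → x ∈ Subgroup.centralizer (V : Set G) := by
    intro x hx v hv hv1 hc
    have hN := hstay x hx v hv hv1 (h.mem_sup.mpr ⟨v, hv, ⁅x, v⁆, hc, by
      rw [h.comm hv hc, commutatorElement_def, inv_mul_cancel_right]⟩)
    refine mem_cent.mpr fun w hw => comm_eq_one.mp (hVP' _ ?_ ?_)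
    · rw [commutatorElement_def]
      exact V.mul_mem (conj_mem_of_mem_norm hN hw) (V.inv_mem hw)
    · exact comm_mem_left hx fun d hd => hVnorm w hw d hd
  -- `R` and `R'`
  let R : Subgroup G := pn V ⊓ Subgroup.centralizer (B : Set G)
  let R' : Subgroup G := pn B ⊓ Subgroup.centralizer (V : Set G)
  have hRNB : ∀ r ∈ R, r ∈ Subgroup.normalizer (B : Set G) := fun r hr =>
    Subgroup.centralizer_le_normalizer _ hr.2
  have hRcentre : ∀ z ∈ R, (∀ r ∈ R, z * r = r * z) → ∃ v ∈ V, ∃ a ∈ B, z = v * a := by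
    intro z hz hzc
    obtain ⟨b, hb, hzb, hzbE⟩ := t.symm.exists_mul_cent hz.1
    have hzbV : z * b ∈ V := by
      refine hV.pn_centre_le hzb fun p hp => ?_
      obtain ⟨e, he, hpe, hpeB⟩ := t.exists_mul_cent hp
      have h1 : Commute (z * b) (p * e) :=
        (Commute.mul_left (hzc _ ⟨hpe, hpeB⟩) ((mem_cent.mp hpeB) b hb).symm)
      have h2 : Commute (z * b) e := (mem_cent.mp hzbE) e he
      have h3 := h1.mul_right h2.inv_right
      rwa [mul_inv_cancel_right] at h3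
    refine ⟨z * b, hzbV, b, hb, ?_⟩
    rw [mul_assoc, ← pow_two, hB.elem.2 b hb, mul_one]
  have hI : ∀ i ∈ pn V, i ∈ pn B → i ∈ B := by
    intro i hiV hiB
    have hiR : i ∈ R := ⟨hiV, hiB.2⟩
    obtain ⟨v, hv, a, ha, he⟩ := hRcentre i hiR fun r hr => comm_eq_one.mp (hVP' _
      (hV.comm_pn_mem hiV hr.1) (comm_mem_left hiB fun d hd => pn_conj_mem (hRNB r hr) hd))
    have hv1 : v = 1 := hVP' v hv (by
      rw [show v = i * a⁻¹ by rw [he, mul_inv_cancel_right]]
      exact (pn B).mul_mem hiB ((pn B).inv_mem (hB.le_pn_self ha)))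
    rw [he, hv1, one_mul]
    exact ha
  have hnot : ¬ pn B ≤ R' := by
    intro hle
    obtain ⟨a, ha, ha1⟩ := h.ne_bot
    obtain ⟨g, hg⟩ := h.conj
    obtain ⟨v, hv, hv1⟩ : ∃ v ∈ V, v ≠ 1 := by
      rw [hg, mem_cj] at ha
      exact ⟨_, ha, fun h1 => ha1 (by
        calc a = g * (g⁻¹ * a * g) * g⁻¹ := by group
          _ = 1 := by rw [h1, mul_one, mul_inv_cancel])⟩
    exact hv1 (h.disjoint (hB.cent_pn_le (h.base_norm hv) fun x hx =>
      ((mem_cent.mp (hle hx).2) v hv).symm) hv)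
  have hPB2 : IsPGroup 2 (pn B) := (qn_isPGroup B).to_le inf_le_left
  by_cases hab : ∀ r ∈ R, ∀ s ∈ R, r * s = s * r
  · -- `R` abelian: then `C(V ⊔ B)` lies in `P`
    have hRW : ∀ r ∈ R, ∃ v ∈ V, ∃ a ∈ B, r = v * a := fun r hr => hRcentre r hr (hab r hr)
    let S : Subgroup G :=
      { carrier := {x | x ∈ Subgroup.centralizer (V : Set G) ∧ ∀ p ∈ pn V, ⁅x, p⁆ ∈ V}
        one_mem' := ⟨Subgroup.one_mem _, fun p _ => by simp⟩
        mul_mem' := fun {a b} ha hb => ⟨Subgroup.mul_mem _ ha.1 hb.1, fun p hp => by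
          rw [show ⁅a * b, p⁆ = a * ⁅b, p⁆ * a⁻¹ * ⁅a, p⁆ by simp only [commutatorElement_def]; group,
            (mem_cent.mp ha.1) _ (hb.2 p hp), mul_inv_cancel_right]
          exact V.mul_mem (hb.2 p hp) (ha.2 p hp)⟩
        inv_mem' := fun {a} ha => ⟨Subgroup.inv_mem _ ha.1, fun p hp => by
          rw [show ⁅a⁻¹, p⁆ = a⁻¹ * ⁅a, p⁆⁻¹ * a by simp only [commutatorElement_def]; group,
            (Commute.inv_left ((mem_cent.mp ha.1) _ (V.inv_mem (ha.2 p hp)))).eq, inv_mul_cancel_right]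
          exact V.inv_mem (ha.2 p hp)⟩ }
    have hSm : ∀ x, x ∈ S ↔ x ∈ Subgroup.centralizer (V : Set G) ∧ ∀ p ∈ pn V, ⁅x, p⁆ ∈ V :=
      fun _ => Iff.rfl
    have hSQ : S ≤ qn V := by
      refine le_qn (fun x hx => Subgroup.centralizer_le_normalizer _ hx.1) ?_ fun m hm x hx => ?_
      · intro ⟨d, hd⟩
        obtain ⟨k, m, hm, hk⟩ := Nat.exists_eq_two_pow_mul_odd (orderOf_pos d).ne'
        refine ⟨k, Subtype.ext ?_⟩
        show d ^ 2 ^ k = 1
        have hodd : ¬ 2 ∣ orderOf (d ^ 2 ^ k) := by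
          rw [orderOf_pow' _ (pow_ne_zero _ two_ne_zero), hk,
            Nat.gcd_eq_right (Dvd.intro _ rfl), Nat.mul_div_cancel_left _ (by positivity)]
          exact fun h => Nat.not_even_iff_odd.mpr hm (even_iff_two_dvd.mpr h)
        set y := d ^ 2 ^ k
        have hy : y ∈ S := S.pow_mem hd _
        have hcp : ∀ p ∈ pn V, y * p = p * y := fun p hp =>
          Cfsg.Comp.commute_of_commutator_commute (elem_isPGroup hV.elem) hodd (hy.2 p hp)
            ((mem_cent.mp hy.1) _ (hy.2 p hp))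
        obtain ⟨j, hj⟩ := elem_isPGroup hV.elem
          ⟨y, hV.cent_pn_le (Subgroup.centralizer_le_normalizer _ hy.1) hcp⟩
        exact Cfsg.Comp.eq_one_of_pow_eq_one (m := orderOf y) (congrArg Subtype.val hj) hodd
          (pow_orderOf_eq_one y)
      · refine (hSm _).mpr ⟨cent_conj_mem hm hx.1, fun p hp => ?_⟩
        have hp' : m⁻¹ * p * m ∈ pn V := by simpa using pn_conj_mem (Subgroup.inv_mem _ hm) hp
        rw [show ⁅m * x * m⁻¹, p⁆ = m * ⁅x, m⁻¹ * p * m⁆ * m⁻¹ by simp only [commutatorElement_def]; group]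
        exact conj_mem_of_mem_norm hm (((hSm x).mp hx).2 _ hp')
    have hR'B : R' ≤ B := by
      intro x hx
      have hxB : x ∈ Subgroup.centralizer (B : Set G) := hx.1.2
      have hxV : x ∈ Subgroup.normalizer (V : Set G) := Subgroup.centralizer_le_normalizer _ hx.2
      have hRfix : ∀ r ∈ R, x * r * x⁻¹ = r := by
        intro r hr
        obtain ⟨v, hv, a, ha, rfl⟩ := hRW r hr
        have hc : Commute x (v * a) :=
          Commute.mul_right ((mem_cent.mp hx.2) v hv) ((mem_cent.mp hxB) a ha)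
        rw [hc.eq, mul_inv_cancel_right]
      have hE : ∀ e ∈ E, ⁅x, e⁆ ∈ V := by
        intro e he
        by_cases he1 : e = 1
        · simp [he1]
        have hP' : x * e * x⁻¹ ∈ pn V := pn_conj_mem hxV (t.right.le_pn he)
        have hd : e * (x * e * x⁻¹) ∈ pn V := (pn V).mul_mem (t.right.le_pn he) hP'
        have hdB : e * (x * e * x⁻¹) ∈ Subgroup.centralizer (B : Set G) := by
          refine mem_cent.mpr fun a ha => (comm_eq_one.mp ?_).symm
          have hae : ⁅a, x * e * x⁻¹⁆ = ⁅a, e⁆ := by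
            have h1 : x * ⁅a, e⁆ * x⁻¹ = ⁅a, e⁆ := by
              rw [(mem_cent.mp hx.2) _ (hV.comm_pn_mem (h.le_pn ha) (t.right.le_pn he)),
                mul_inv_cancel_right]
            have h2 : x * a * x⁻¹ = a := by rw [(mem_cent.mp hxB) a ha, mul_inv_cancel_right]
            calc ⁅a, x * e * x⁻¹⁆ = ⁅x * a * x⁻¹, x * e * x⁻¹⁆ := by rw [h2]
              _ = x * ⁅a, e⁆ * x⁻¹ := by simp only [commutatorElement_def]; group
              _ = ⁅a, e⁆ := h1
          rw [hV.comm_mul_right (h.le_pn ha) (t.right.le_pn he) hP', hae, ← pow_two]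
          exact hV.elem.2 _ (hV.comm_pn_mem (h.le_pn ha) (t.right.le_pn he))
        obtain ⟨v, hv, a, ha, hva⟩ := hRW _ ⟨hd, hdB⟩
        have he2 : e * e = 1 := by rw [← pow_two]; exact t.right.partner_tiq.elem.2 e he
        have hee : x * e * x⁻¹ = v * (e * a) := by
          calc x * e * x⁻¹ = e * (e * (x * e * x⁻¹)) := by rw [← mul_assoc e e, he2, one_mul]
            _ = e * (v * a) := by rw [hva]
            _ = v * (e * a) := by rw [← mul_assoc, ← t.right.comm hv he, mul_assoc]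
        have ha0 : a = 1 := by
          have hsq : (v * (e * a)) * (v * (e * a)) = 1 := by
            rw [← hee, show x * e * x⁻¹ * (x * e * x⁻¹) = x * (e * e) * x⁻¹ by group, he2,
              mul_one, mul_inv_cancel]
          have hvc : Commute v (e * a) :=
            Commute.mul_right (t.right.comm hv he) (h.comm hv ha)
          rw [hvc.symm.mul_mul_mul_comm, ← pow_two v, hV.elem.2 v hv, one_mul] at hsq
          have hea : e * a = a * e := by
            have h3 := eq_inv_of_mul_eq_one_left hsq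
            rw [mul_inv_rev, elem_inv hB.elem ha, elem_inv t.right.partner_tiq.elem he] at h3
            exact h3
          exact (t.nondeg ha he hea.symm).resolve_right he1
        rw [ha0, mul_one] at hee
        rw [commutatorElement_def, hee, mul_assoc, mul_inv_cancel, mul_one]
        exact hv
      have hxS : x ∈ S := (hSm x).mpr ⟨hx.2, fun p hp => by
        obtain ⟨e, he, hpe, hpeB⟩ := t.exists_mul_cent hp
        have hp2 : p = (p * e) * e := by
          rw [mul_assoc, ← pow_two, t.right.partner_tiq.elem.2 e he, mul_one]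
        rw [hp2, show ⁅x, (p * e) * e⁆ = ⁅x, p * e⁆ * ((p * e) * ⁅x, e⁆ * (p * e)⁻¹) by
          simp only [commutatorElement_def]; group, (mem_cent.mp hpe.2) _ (hE e he),
          mul_inv_cancel_right, commutatorElement_def, hRfix _ ⟨hpe, hpeB⟩, mul_inv_cancel, one_mul]
        exact hE e he⟩
      exact hI x ⟨hSQ hxS, hx.2⟩ hx.1
    obtain ⟨z, hz, hzB, hfix⟩ := exists_fixed_coset (elem_isPGroup hV.elem) hPB2
      (hB.le_pn_self) (fun hle => hnot fun x hx => ⟨hx, mem_cent.mpr fun v hv => (h.comm hv (hle hx)).symm⟩)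
      hVnorm (fun v hv b hb => by rw [h.comm hv hb, mul_inv_cancel_right]; exact hb)
    obtain ⟨v, hv, hv1⟩ : ∃ v ∈ V, v ≠ 1 := by
      by_contra hc; push Not at hc
      exact hnot fun x hx => ⟨hx, mem_cent.mpr fun v hv => by rw [hc v hv]; simp⟩
    have hc : ⁅z, v⁆ ∈ B := by
      have := B.inv_mem (hfix v hv)
      have hz' : z ∈ Subgroup.normalizer (B : Set G) := qn_le_norm B hz.1
      have := conj_mem_of_mem_norm hz' this
      rw [commutatorElement_def]
      simpa [mul_assoc] using this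
    exact hzB (hR'B ⟨hz, hkill z hz v hv hv1 hc⟩)
  · push Not at hab
    obtain ⟨r, hr, s, hs, hrs⟩ := hab
    have hR2 : IsPGroup 2 R := (qn_isPGroup V).to_le (inf_le_left.trans inf_le_left)
    have hRN' : ∀ r ∈ R, ∀ l ∈ R', r * l * r⁻¹ ∈ R' := fun r hr l hl =>
      ⟨pn_conj_mem (hRNB r hr) hl.1, cent_conj_mem (qn_le_norm V hr.1.1) hl.2⟩
    obtain ⟨z, hz, hzR, hfix⟩ := exists_fixed_coset hR2 hPB2 inf_le_left hnot
      (fun r hr d hd => pn_conj_mem (hRNB r hr) hd) hRN'
    apply hzR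
    -- `R` fixes `R'` modulo `B`
    have hfix' : ∀ r ∈ R, ∀ l ∈ R', ⁅r, l⁆ ∈ B := by
      intro r hr l hl
      refine hI _ ?_ ?_
      · refine comm_mem_left hr.1 fun d hd =>
          pn_conj_mem (Subgroup.centralizer_le_normalizer _ hl.2) hd
      · rw [commutatorElement_def]
        exact (pn B).mul_mem (pn_conj_mem (hRNB r hr) hl.1) ((pn B).inv_mem hl.1)
    set a := z⁻¹ * (r * z * r⁻¹) with hadef
    set c := z⁻¹ * (s * z * s⁻¹) with hcdef
    have haR : a ∈ R' := hfix r hr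
    have hcR : c ∈ R' := hfix s hs
    have hb1 := hfix' r hr c hcR
    have hb2 := hfix' s hs a haR
    have hb3 : ⁅a, c⁆ ∈ B := hB.comm_pn_mem haR.1 hcR.1
    set y := (s * r) * z * (s * r)⁻¹ with hydef
    have hy : y ∈ pn B := pn_conj_mem (Subgroup.mul_mem _ (hRNB s hs) (hRNB r hr)) hz
    have key : y⁻¹ * ((r * s) * z * (r * s)⁻¹) ∈ B := by
      have e1 : (r * s) * z * (r * s)⁻¹ = z * a * (⁅r, c⁆ * c) := by
        rw [hadef, hcdef]; simp only [commutatorElement_def]; group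
      have e2 : y = z * c * (⁅s, a⁆ * a) := by
        rw [hydef, hadef, hcdef]; simp only [commutatorElement_def]; group
      have k1 : Commute a ⁅r, c⁆ := (mem_cent.mp haR.1.2) _ hb1
      have k2 : Commute c ⁅s, a⁆ := (mem_cent.mp hcR.1.2) _ hb2
      have hzc : ∀ b ∈ B, z * b = b * z := mem_cent.mp hz.2
      have e1' : (r * s) * z * (r * s)⁻¹ = ⁅r, c⁆ * ⁅a, c⁆ * (z * (c * a)) := by
        calc (r * s) * z * (r * s)⁻¹ = z * a * (⁅r, c⁆ * c) := e1
          _ = z * (a * ⁅r, c⁆) * c := by group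
          _ = (z * ⁅r, c⁆) * (a * c) := by rw [k1.eq]; group
          _ = ⁅r, c⁆ * z * (⁅a, c⁆ * (c * a)) := by
            rw [hzc _ hb1, show ⁅a, c⁆ * (c * a) = a * c by simp only [commutatorElement_def]; group]
          _ = ⁅r, c⁆ * (z * ⁅a, c⁆) * (c * a) := by group
          _ = ⁅r, c⁆ * ⁅a, c⁆ * (z * (c * a)) := by rw [hzc _ hb3]; group
      have e2' : y = ⁅s, a⁆ * (z * (c * a)) := by
        calc y = z * c * (⁅s, a⁆ * a) := e2
          _ = z * (c * ⁅s, a⁆) * a := by group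
          _ = (z * ⁅s, a⁆) * (c * a) := by rw [k2.eq]; group
          _ = ⁅s, a⁆ * (z * (c * a)) := by rw [hzc _ hb2, mul_assoc]
      rw [e1', e2']
      have hca : ∀ b ∈ B, (z * (c * a)) * b = b * (z * (c * a)) := fun b hb =>
        Commute.mul_left (hzc b hb)
          (Commute.mul_left ((mem_cent.mp hcR.1.2) b hb) ((mem_cent.mp haR.1.2) b hb))
      have hb : ⁅s, a⁆⁻¹ * (⁅r, c⁆ * ⁅a, c⁆) ∈ B := B.mul_mem (B.inv_mem hb2) (B.mul_mem hb1 hb3)
      convert hb using 1
      rw [mul_inv_rev, mul_assoc, ← mul_assoc (⁅s, a⁆⁻¹), ← hca _ hb, inv_mul_cancel_left]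
    have hv : ⁅r, s⁆ ∈ V := hV.comm_pn_mem hr.1 hs.1
    have hv1 : ⁅r, s⁆ ≠ 1 := fun h1 => hrs (comm_eq_one.mp h1)
    have hyB : ⁅y, ⁅r, s⁆⁆ ∈ B := by
      have he : (r * s) * z * (r * s)⁻¹ = ⁅r, s⁆ * y * ⁅r, s⁆⁻¹ := by
        rw [hydef]; simp only [commutatorElement_def]; group
      rw [he] at key
      have := conj_mem_of_mem_norm (qn_le_norm B hy.1) (B.inv_mem key)
      rw [commutatorElement_def y]
      simpa [mul_assoc] using this
    have hyC := hkill y hy _ hv hv1 hyB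
    have hsr : s * r ∈ Subgroup.normalizer (V : Set G) :=
      Subgroup.mul_mem _ (qn_le_norm V hs.1.1) (qn_le_norm V hr.1.1)
    refine ⟨hz, ?_⟩
    have := cent_conj_mem (Subgroup.inv_mem _ hsr) hyC
    rw [hydef] at this
    simpa [mul_assoc] using this

end H68.TI
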