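import Cfsg.Agent.H68.TIPartner
import Cfsg.Agent.H68.JordanField
import Cfsg.Agent.H98.SL2Hom

/-! The action on the spread is that of `SL₂`. -/

set_option autoImplicit false

namespace H68.TI

open H70
open scoped commutatorElement IsMulCommutative

variable {G : Type*} [Group G] [Finite G] {V B E F₁ : Subgroup G}

theorem Partner.flip (h : Partner V B) : Partner B V := by
  refine ⟨h.partner_tiq, ?_, Ne.symm h.ne, h.symm_le⟩
  obtain ⟨g, hg⟩ := h.conj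
  exact ⟨g⁻¹, by rw [hg, cj_cj, inv_mul_cancel, cj_one]⟩

theorem Partner.decomp (h : Partner V B) {v v' a a' : G} (hv : v ∈ V) (hv' : v' ∈ V) (ha : a ∈ B)
    (ha' : a' ∈ B) (he : v * a = v' * a') : v = v' ∧ a = a' := by
  have h1 : v'⁻¹ * v = a' * a⁻¹ := by
    rw [eq_mul_inv_iff_mul_eq, mul_assoc, inv_mul_eq_iff_eq_mul]; exact he
  have h2 : a' * a⁻¹ = 1 :=
    h.disjoint (B.mul_mem ha' (B.inv_mem ha)) (h1 ▸ V.mul_mem (V.inv_mem hv') hv)
  rw [h2, inv_mul_eq_one] at h1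
  exact ⟨h1.symm, (mul_inv_eq_one.mp h2).symm⟩

theorem Partner.act (h : Partner V B) {p v a : G} (hp : p ∈ pn V) (hv : v ∈ V) :
    p * (v * a) * p⁻¹ = v * ⁅p, a⁆ * a := by
  rw [show p * (v * a) * p⁻¹ = (p * v * p⁻¹) * (p * a * p⁻¹) by group,
    (mem_cent.mp hp.2) v hv, mul_inv_cancel_right,
    show p * a * p⁻¹ = ⁅p, a⁆ * a by simp only [commutatorElement_def]; group, mul_assoc]

/-- Every element of `P` acts on `B` like an element of `E`. -/
theorem Triangle.same_act (t : Triangle V B E) {p : G} (hp : p ∈ pn V) :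
    ∃ e ∈ E, ∀ a ∈ B, ⁅p, a⁆ = ⁅e, a⁆ := by
  obtain ⟨e, he, hpe, hpeB⟩ := t.exists_mul_cent hp
  refine ⟨e, he, fun a ha => ?_⟩
  have hV := t.left.base
  have haP := t.left.le_pn ha
  have heP := t.right.le_pn he
  have h1 : ⁅p * e, a⁆ = 1 := comm_eq_one.mpr ((mem_cent.mp hpeB) a ha)
  rw [hV.comm_mul_left hp heP haP] at h1
  exact (eq_inv_of_mul_eq_one_left h1).trans (elem_inv hV.elem (hV.comm_pn_mem heP haP))

/-- The inverse of a nontrivial translation is a translation. -/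
theorem Triangle.inverse (t : Triangle V B E) (t' : Triangle B V F₁) {f : G} (hf : f ∈ F₁)
    (hf1 : f ≠ 1) : ∃ e ∈ E, e ≠ 1 ∧ ∀ v ∈ V, ⁅e, ⁅f, v⁆⁆ = v := by
  have hB := t.left.partner_tiq
  have hfP := t'.right.le_pn hf
  obtain ⟨v₀, hv₀, hv₀1⟩ := t.left.flip.ne_bot
  have hbv : ∀ v ∈ V, ⁅f, v⁆ ∈ B := fun v hv => hB.comm_pn_mem hfP (t'.left.le_pn hv)
  have hinj : ∀ v ∈ V, ⁅f, v⁆ = 1 → v = 1 := fun v hv h1 =>
    (t'.nondeg hv hf (comm_eq_one.mp h1).symm).resolve_right hf1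
  have hconj : ∀ v, f * v * f⁻¹ = ⁅f, v⁆ * v := fun v => by
    simp only [commutatorElement_def]; group
  have hmem : f * v₀ * f⁻¹ ∈ V ⊔ B := by
    rw [hconj, ← t.left.comm hv₀ (hbv v₀ hv₀)]
    exact t.left.mem_sup.mpr ⟨v₀, hv₀, _, hbv v₀ hv₀, rfl⟩
  rcases t.member (x := f) (mem_cj_of hv₀) hmem (by simpa [conj_eq_one_iff] using hv₀1) with he | ⟨e, he, he'⟩
  · exfalso
    have h1 : ⁅f, v₀⁆ ∈ V := by
      rw [commutatorElement_def]
      exact V.mul_mem (he.le (mem_cj_of hv₀)) (V.inv_mem hv₀)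
    exact hv₀1 (hinj v₀ hv₀ (t.left.disjoint (hbv v₀ hv₀) h1))
  refine ⟨e, he, ?_, fun v hv => ?_⟩
  · rintro rfl
    have h1 : ⁅f, v₀⁆ * v₀ ∈ B := by
      rw [← hconj, ← cj_one B, ← he']; exact mem_cj_of hv₀
    have h2 := B.mul_mem (B.inv_mem (hbv v₀ hv₀)) h1
    rw [inv_mul_cancel_left] at h2
    exact hv₀1 (t.left.disjoint h2 hv₀)
  · have h1 : f * v * f⁻¹ ∈ H70.cj e B := he'.le (mem_cj_of hv)
    obtain ⟨a, ha, hae⟩ := h1
    have hae' : e * a * e⁻¹ = f * v * f⁻¹ := hae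
    rw [hconj, show e * a * e⁻¹ = ⁅e, a⁆ * a by simp only [commutatorElement_def]; group,
      ← t.left.comm hv (hbv v hv)] at hae'
    obtain ⟨h2, h3⟩ := t.left.decomp (t.left.base.comm_pn_mem (t.right.le_pn he) (t.left.le_pn ha)) hv
      ha (hbv v hv) hae'
    rw [← h3, h2]

theorem Partner.card_one_lt (h : Partner V B) : 1 < Nat.card V := by
  obtain ⟨a, ha, hne⟩ := h.ne_bot
  rw [← h.card_eq]
  exact Finite.one_lt_card_iff_nontrivial.mpr ⟨⟨a, ha⟩, 1, fun he => hne (congrArg Subtype.val he)⟩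

/-- `P ∪ P'` acts on `V × B` as the unitriangular generators of `SL₂`. -/
theorem Partner.exists_field (h : Partner V B) :
    ∃ (K : Type) (_ : Field K) (_ : Fintype K), Fintype.card K = Nat.card V ∧
      ∃ Φ : (Fin 2 → K) ≃ (V ⊔ B : Subgroup G),
        (∀ p ∈ pn V, ∃ x : K, ∀ y, p * (Φ y : G) * p⁻¹ = Φ ![y 0 + x * y 1, y 1]) ∧
        (∀ x : K, ∃ p ∈ pn V, ∀ y, p * (Φ y : G) * p⁻¹ = Φ ![y 0 + x * y 1, y 1]) ∧
        (∀ p ∈ pn B, ∃ x : K, ∀ y, p * (Φ y : G) * p⁻¹ = Φ ![y 0, y 1 + x * y 0]) ∧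
        (∀ x : K, ∃ p ∈ pn B, ∀ y, p * (Φ y : G) * p⁻¹ = Φ ![y 0, y 1 + x * y 0]) ∧
        (∀ y, (Φ y : G) ∈ V ↔ y 1 = 0) := by
  classical
  haveI : Fact (Nat.Prime 2) := ⟨Nat.prime_two⟩
  obtain ⟨E, t⟩ := h.exists_triangle
  obtain ⟨F₁, t'⟩ := h.flip.exists_triangle
  have hV := h.base
  have hB := h.partner_tiq
  haveI := hV.elem.1
  have hA2 : ∀ x : Additive V, x + x = 0 := fun x =>
    congrArg Additive.ofMul (Subtype.ext (show (x.toMul : G) * (x.toMul : G) = 1 by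
      rw [← pow_two]; exact hV.elem.2 _ x.toMul.2))
  obtain ⟨f₀, hf₀, hf₀1⟩ := t'.right.ne_bot
  obtain ⟨e₀, he₀, he₀1, he₀inv⟩ := t.inverse t' hf₀ hf₀1
  have hfP : ∀ f ∈ F₁, f ∈ pn B := fun f hf => t'.right.le_pn hf
  have heP : ∀ e ∈ E, e ∈ pn V := fun e he => t.right.le_pn he
  have hψ : ∀ f ∈ pn B, ∀ v ∈ V, ⁅f, v⁆ ∈ B := fun f hf v hv => hB.comm_pn_mem hf (t'.left.le_pn hv)
  have hφ : ∀ e ∈ pn V, ∀ a ∈ B, ⁅e, a⁆ ∈ V := fun e he a ha => hV.comm_pn_mem he (h.le_pn ha)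
  -- the basic maps
  have hkmem : ∀ (e : E) (v : V), ⁅(e : G), ⁅f₀, (v : G)⁆⁆ ∈ V := fun e v =>
    hφ _ (heP e e.2) _ (hψ _ (hfP f₀ hf₀) v v.2)
  let k : E → AddMonoid.End (Additive V) := fun e =>
    AddMonoidHom.mk' (fun v => Additive.ofMul ⟨_, hkmem e v.toMul⟩) fun v w => by
      refine congrArg Additive.ofMul (Subtype.ext ?_)
      show ⁅(e : G), ⁅f₀, (v.toMul : G) * (w.toMul : G)⁆⁆ = ⁅(e : G), ⁅f₀, (v.toMul : G)⁆⁆ * ⁅(e : G), ⁅f₀, (w.toMul : G)⁆⁆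
      rw [hB.comm_mul_right (hfP f₀ hf₀) (t'.left.le_pn v.toMul.2) (t'.left.le_pn w.toMul.2),
        hV.comm_mul_right (heP e e.2) (h.le_pn (hψ _ (hfP f₀ hf₀) _ v.toMul.2))
          (h.le_pn (hψ _ (hfP f₀ hf₀) _ w.toMul.2))]
  have hk : ∀ (e : E) (v : Additive V), ((k e v).toMul : G) = ⁅(e : G), ⁅f₀, (v.toMul : G)⁆⁆ :=
    fun _ _ => rfl
  have hext : ∀ (a b : AddMonoid.End (Additive V)),
      (∀ v : Additive V, ((a v).toMul : G) = ((b v).toMul : G)) → a = b := fun a b hab =>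
    DFunLike.ext a b fun v => Additive.toMul.injective (Subtype.ext (hab v))
  have hkadd : ∀ e e' : E, k (e * e') = k e + k e' := fun e e' => hext _ _ fun v => by
    show ⁅((e * e' : E) : G), _⁆ = ((k e v).toMul : G) * ((k e' v).toMul : G)
    rw [hk, hk, Subgroup.coe_mul,
      hV.comm_mul_left (heP e e.2) (heP e' e'.2) (h.le_pn (hψ _ (hfP f₀ hf₀) _ v.toMul.2))]
  have hk1 : k ⟨e₀, he₀⟩ = 1 := hext _ _ fun v => he₀inv _ v.toMul.2
  have hkzero : k 1 = 0 := by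
    have := hkadd 1 1
    rw [one_mul] at this
    exact add_eq_left.mp this.symm
  let 𝒦 : AddSubgroup (AddMonoid.End (Additive V)) :=
    { carrier := Set.range k
      add_mem' := by rintro _ _ ⟨e, rfl⟩ ⟨e', rfl⟩; exact ⟨e * e', hkadd e e'⟩
      zero_mem' := ⟨1, hkzero⟩
      neg_mem' := by
        rintro _ ⟨e, rfl⟩
        refine ⟨e⁻¹, eq_neg_of_add_eq_zero_left ?_⟩
        rw [← hkadd, inv_mul_cancel, hkzero] }
  have h𝒦 : ∀ x, x ∈ 𝒦 ↔ ∃ e, k e = x := fun _ => Iff.rfl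
  have hkinj : ∀ e : E, (e : G) ≠ 1 → ∀ v : Additive V, k e v = 0 → v = 0 := by
    intro e he1 v hv
    have h1 : ⁅(e : G), ⁅f₀, (v.toMul : G)⁆⁆ = 1 := by rw [← hk, hv]; rfl
    have h2 := (t.nondeg (hψ _ (hfP f₀ hf₀) _ v.toMul.2) e.2 (comm_eq_one.mp h1).symm).resolve_right he1
    have h3 := (t'.nondeg v.toMul.2 hf₀ (comm_eq_one.mp h2).symm).resolve_right hf₀1
    exact Additive.toMul.injective (Subtype.ext h3)
  haveI : Finite (AddMonoid.End (Additive V)) :=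
    Finite.of_injective (fun f => (f : Additive V → Additive V)) DFunLike.coe_injective
  -- inverses
  have hkinv : ∀ e : E, (e : G) ≠ 1 → ∃ e' : E, k e * k e' = 1 ∧ k e' * k e = 1 := by
    intro e he1
    obtain ⟨a₀, ha₀, ha₀1⟩ := h.ne_bot
    have hcomp : ∀ a ∈ B, e₀ * (f₀ * (e₀ * ((e : G) * a * (e : G)⁻¹) * e₀⁻¹) * f₀⁻¹) * e₀⁻¹
        = ⁅e₀, a⁆ * ⁅f₀, ⁅(e : G), a⁆⁆ := by
      intro a ha
      have hv1 := hφ _ (heP e e.2) a ha
      have hv0 := hφ _ (heP e₀ he₀) a ha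
      have hb1 := hψ _ (hfP f₀ hf₀) _ hv1
      have hfe : ⁅f₀, ⁅e₀, a⁆⁆ = a := by
        have hb := hψ _ (hfP f₀ hf₀) _ hv0
        have h4 := he₀inv _ hv0
        have h5 : ⁅e₀, ⁅f₀, ⁅e₀, a⁆⁆ * a⁆ = 1 := by
          rw [hV.comm_mul_right (heP e₀ he₀) (h.le_pn hb) (h.le_pn ha), h4, ← pow_two]
          exact hV.elem.2 _ hv0
        have h6 := (t.nondeg (B.mul_mem hb ha) he₀ (comm_eq_one.mp h5).symm).resolve_right he₀1
        exact (eq_inv_of_mul_eq_one_left h6).trans (elem_inv hB.elem ha)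
      have ha2 : a * a = 1 := by rw [← pow_two]; exact hB.elem.2 a ha
      have h1 : e₀ * ((e : G) * a * (e : G)⁻¹) * e₀⁻¹ = (⁅(e : G), a⁆ * ⁅e₀, a⁆) * a := by
        rw [show (e : G) * a * (e : G)⁻¹ = ⁅(e : G), a⁆ * a by simp only [commutatorElement_def]; group,
          h.act (heP e₀ he₀) hv1]
      have h2 : f₀ * (e₀ * ((e : G) * a * (e : G)⁻¹) * e₀⁻¹) * f₀⁻¹
          = (⁅(e : G), a⁆ * ⁅e₀, a⁆) * ⁅f₀, ⁅(e : G), a⁆⁆ := by
        rw [h1, h.comm (V.mul_mem hv1 hv0) ha, h.flip.act (hfP f₀ hf₀) ha,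
          hB.comm_mul_right (hfP f₀ hf₀) (t'.left.le_pn hv1) (t'.left.le_pn hv0), hfe,
          ← h.comm (V.mul_mem hv1 hv0) (B.mul_mem ha (B.mul_mem hb1 ha)),
          show a * (⁅f₀, ⁅(e : G), a⁆⁆ * a) = ⁅f₀, ⁅(e : G), a⁆⁆ from by
            rw [← mul_assoc, elemAb_commute hB.elem ha hb1, mul_assoc, ha2, mul_one]]
      rw [h2, h.act (heP e₀ he₀) (V.mul_mem hv1 hv0)]
      congr 1
      have hfb : ⁅e₀, ⁅f₀, ⁅(e : G), a⁆⁆⁆ = ⁅(e : G), a⁆ := he₀inv _ hv1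
      rw [hfb, mul_assoc, hV.comm hv0 hv1, ← mul_assoc,
        show ⁅(e : G), a⁆ * ⁅(e : G), a⁆ = 1 by rw [← pow_two]; exact hV.elem.2 _ hv1, one_mul]
    obtain ⟨g, hg⟩ := h.conj
    have hcj : ∀ a, e₀ * (f₀ * (e₀ * ((e : G) * a * (e : G)⁻¹) * e₀⁻¹) * f₀⁻¹) * e₀⁻¹
        = (e₀ * f₀ * e₀ * e) * a * (e₀ * f₀ * e₀ * e)⁻¹ := fun a => by group
    have hU : H70.cj (e₀ * f₀ * e₀ * e) B = H70.cj (e₀ * f₀ * e₀ * e * g) V := by rw [hg, cj_cj]
    have hmem0 : ⁅e₀, a₀⁆ * ⁅f₀, ⁅(e : G), a₀⁆⁆ ∈ V ⊔ B :=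
      h.mem_sup.mpr ⟨_, hφ _ (heP e₀ he₀) _ ha₀, _,
        hψ _ (hfP f₀ hf₀) _ (hφ _ (heP e e.2) _ ha₀), rfl⟩
    have hbne : ⁅f₀, ⁅(e : G), a₀⁆⁆ ≠ 1 := fun h1 => ha₀1 <| by
      have h2 := (t'.nondeg (hφ _ (heP e e.2) _ ha₀) hf₀ (comm_eq_one.mp h1).symm).resolve_right hf₀1
      exact (t.nondeg ha₀ e.2 (comm_eq_one.mp h2).symm).resolve_right he1
    have hin : ⁅e₀, a₀⁆ * ⁅f₀, ⁅(e : G), a₀⁆⁆ ∈ H70.cj (e₀ * f₀ * e₀ * e * g) V := by
      rw [← hU, ← hcomp a₀ ha₀, hcj]; exact mem_cj_of ha₀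
    have hne1 : ⁅e₀, a₀⁆ * ⁅f₀, ⁅(e : G), a₀⁆⁆ ≠ 1 := fun h1 => hbne
      ((h.decomp (hφ _ (heP e₀ he₀) _ ha₀) V.one_mem
        (hψ _ (hfP f₀ hf₀) _ (hφ _ (heP e e.2) _ ha₀)) B.one_mem (by rw [h1, one_mul])).2)
    rcases t.member hin hmem0 hne1 with he' | ⟨e', he', hee'⟩
    · exfalso
      rw [he'] at hin
      exact hbne (h.decomp (hφ _ (heP e₀ he₀) _ ha₀) hin
        (hψ _ (hfP f₀ hf₀) _ (hφ _ (heP e e.2) _ ha₀)) B.one_mem (by rw [mul_one])).2
    · have key : ∀ a ∈ B, ⁅e', ⁅f₀, ⁅(e : G), a⁆⁆⁆ = ⁅e₀, a⁆ := by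
        intro a ha
        have h1 : ⁅e₀, a⁆ * ⁅f₀, ⁅(e : G), a⁆⁆ ∈ H70.cj e' B := by
          rw [← hee', ← hU, ← hcomp a ha, hcj]; exact mem_cj_of ha
        obtain ⟨b, hb, hbe⟩ := h1
        have hbe' : ⁅e', b⁆ * b = ⁅e₀, a⁆ * ⁅f₀, ⁅(e : G), a⁆⁆ := by
          rw [← hbe]
          show _ = e' * b * e'⁻¹
          simp only [commutatorElement_def]; group
        obtain ⟨h2, h3⟩ := h.decomp (hφ _ (heP e' he') b hb) (hφ _ (heP e₀ he₀) a ha) hb
          (hψ _ (hfP f₀ hf₀) _ (hφ _ (heP e e.2) a ha)) hbe'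
        rw [← h3, h2]
      have hleft : k ⟨e', he'⟩ * k e = 1 := hext _ _ fun v => by
        show ⁅e', ⁅f₀, ⁅(e : G), ⁅f₀, (v.toMul : G)⁆⁆⁆⁆ = (v.toMul : G)
        rw [key _ (hψ _ (hfP f₀ hf₀) _ v.toMul.2)]
        exact he₀inv _ v.toMul.2
      refine ⟨⟨e', he'⟩, ?_, hleft⟩
      have hinjk : Function.Injective (k e) :=
        (injective_iff_map_eq_zero (k e)).mpr (hkinj e he1)
      refine DFunLike.ext _ _ fun v => ?_
      obtain ⟨u, hu⟩ := (Finite.injective_iff_surjective.mp hinjk) v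
      have h4 : k ⟨e', he'⟩ (k e u) = u := DFunLike.congr_fun hleft u
      show k e (k ⟨e', he'⟩ v) = v
      rw [← hu, h4]
  have hinv : ∀ x ∈ 𝒦, x ≠ 0 → ∃ y ∈ 𝒦, x * y = 1 ∧ y * x = 1 := by
    intro x hx hne
    obtain ⟨e, rfl⟩ := (h𝒦 x).1 hx
    have he1 : (e : G) ≠ 1 := fun h1 => hne (by rw [show e = 1 from Subtype.ext h1, hkzero])
    obtain ⟨e', h1, h2⟩ := hkinv e he1
    exact ⟨k e', ⟨e', rfl⟩, h1, h2⟩
  have hunit : ∀ x ∈ 𝒦, x ≠ 0 → IsUnit x := fun x hx hne =>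
    let ⟨y, _, h1, h2⟩ := hinv x hx hne
    ⟨⟨x, y, h1, h2⟩, rfl⟩
  have hone : (1 : AddMonoid.End (Additive V)) ∈ 𝒦 := ⟨_, hk1⟩
  have hU' : ∀ a ∈ 𝒦, ∀ b ∈ 𝒦, a * b * a ∈ 𝒦 := by
    intro a ha b hb
    by_cases ha0 : a = 0
    · rw [ha0, zero_mul, zero_mul]; exact 𝒦.zero_mem
    by_cases hb0 : b = 0
    · rw [hb0, mul_zero, zero_mul]; exact 𝒦.zero_mem
    obtain ⟨a', ha', haa', ha'a⟩ := hinv a ha ha0
    obtain ⟨b', hb', hbb', hb'b⟩ := hinv b hb hb0
    by_cases hc0 : b' - a = 0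
    · rw [sub_eq_zero] at hc0
      rw [← hc0, hb'b, one_mul]
      exact hb'
    obtain ⟨c', hc', hcc', hc'c⟩ := hinv (b' - a) (𝒦.sub_mem hb' ha) hc0
    have hsum : a' + c' = a' * (b' * c') := by
      calc a' + c' = a' * ((b' - a) * c') + a' * a * c' := by
            rw [hcc', ha'a, mul_one, one_mul]
        _ = a' * (b' * c') := by rw [sub_mul, mul_sub, mul_assoc a' a]; abel
    have hd0 : a' + c' ≠ 0 := by
      intro h0
      have h1 : (1 : AddMonoid.End (Additive V)) = 0 := by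
        calc (1 : AddMonoid.End (Additive V)) = (b' - a) * (b * a) * (a' + c') := by
              rw [hsum, mul_assoc (b' - a), ← mul_assoc (b * a), mul_assoc b a, haa', mul_one,
                ← mul_assoc b, hbb', one_mul, hcc']
          _ = 0 := by rw [h0, mul_zero]
      exact ha0 (by rw [← mul_one a, h1, mul_zero])
    obtain ⟨d', hd', hdd', hd'd⟩ := hinv _ (𝒦.add_mem ha' hc') hd0
    have hd'eq : d' = (b' - a) * (b * a) := by
      have h1 : (b' - a) * (b * a) * (a' + c') = 1 := by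
        rw [hsum, mul_assoc (b' - a), ← mul_assoc (b * a), mul_assoc b a, haa', mul_one,
          ← mul_assoc b, hbb', one_mul, hcc']
      calc d' = (b' - a) * (b * a) * (a' + c') * d' := by rw [h1, one_mul]
        _ = (b' - a) * (b * a) := by rw [mul_assoc _ (a' + c'), hdd', mul_one]
    have : a - d' = a * b * a := by
      rw [hd'eq, sub_mul, ← mul_assoc b', hb'b, one_mul, mul_assoc a b, sub_sub_cancel]
    rw [← this]
    exact 𝒦.sub_mem ha hd'
  have hC2 : ∀ x : AddMonoid.End (Additive V), x + x = 0 := fun x =>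
    DFunLike.ext _ _ fun v => hA2 (x v)
  have hcomm : ∀ a ∈ 𝒦, ∀ b ∈ 𝒦, a * b = b * a := fun a ha b hb =>
    H68.Jordan.commute_of_jordan_division 𝒦 hone hU' hC2 hunit ha hb
  have hmul : ∀ a ∈ 𝒦, ∀ b ∈ 𝒦, a * b ∈ 𝒦 := by
    have hsurj : Function.Surjective (fun x : 𝒦 => (⟨(x : AddMonoid.End (Additive V)) * 1 * x,
        hU' _ x.2 _ hone⟩ : 𝒦)) := by
      refine Finite.injective_iff_surjective.mp ?_
      rintro ⟨x, hx⟩ ⟨y, hy⟩ hxy
      have h1 : x * x = y * y := by simpa using congrArg Subtype.val hxy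
      refine Subtype.ext ?_
      by_contra hne
      have h2 : (x - y) * (x - y) = 0 := by
        rw [sub_mul, mul_sub, mul_sub, ← h1, hcomm y hy x hx]
        have h3 := hC2 (x * y)
        have h4 : x * x - x * y - (x * y - x * x) = (x * x + x * x) - (x * y + x * y) := by abel
        rw [h4, h3, hC2, sub_zero]
      have hu := hunit _ (𝒦.sub_mem hx hy) (sub_ne_zero.mpr hne)
      exact hne (sub_eq_zero.mp (hu.mul_left_cancel (h2.trans (mul_zero _).symm)))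
    intro a ha b hb
    obtain ⟨⟨c, hc⟩, hca⟩ := hsurj ⟨a, ha⟩
    have hca' : c * c = a := by simpa using congrArg Subtype.val hca
    rw [← hca', mul_assoc, hcomm c hc b hb, ← mul_assoc]
    exact hU' c hc b hb
  let R : Subring (AddMonoid.End (Additive V)) :=
    { carrier := 𝒦
      one_mem' := hone
      mul_mem' := fun ha hb => hmul _ ha _ hb
      zero_mem' := 𝒦.zero_mem
      add_mem' := 𝒦.add_mem
      neg_mem' := 𝒦.neg_mem }
  have hR : ∀ x, x ∈ R ↔ ∃ e, k e = x := fun _ => Iff.rfl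
  haveI : Nontrivial V := Finite.one_lt_card_iff_nontrivial.mp h.card_one_lt
  haveI hnt : Nontrivial (Additive V) := inferInstance
  obtain ⟨v₀, hv₀⟩ := exists_ne (0 : Additive V)
  haveI : Nontrivial R := ⟨⟨0, 1, fun h01 => hv₀ (by
    have h1 : (0 : AddMonoid.End (Additive V)) = 1 := congrArg Subtype.val h01
    exact (DFunLike.congr_fun h1 v₀).symm)⟩⟩
  haveI : NoZeroDivisors R := ⟨by
    intro a b hab
    by_cases ha : (a : AddMonoid.End (Additive V)) = 0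
    · exact Or.inl (Subtype.ext ha)
    · exact Or.inr (Subtype.ext ((hunit _ a.2 ha).mul_left_cancel
        ((congrArg Subtype.val hab).trans (mul_zero _).symm)))⟩
  haveI : IsDomain R := NoZeroDivisors.to_isDomain _
  have hFld : IsField R := Finite.isDomain_to_isField R
  haveI : Fintype R := Fintype.ofFinite R
  -- `x ↦ x v₀` identifies `R` with `V`
  have hinjR : Function.Injective (fun r : R => (r : AddMonoid.End (Additive V)) v₀) := by
    intro r s hrs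
    by_contra hne
    obtain ⟨u, hu⟩ := hunit _ (R.sub_mem r.2 s.2) (sub_ne_zero.mpr fun h1 => hne (Subtype.ext h1))
    have h0 : ((r : AddMonoid.End (Additive V)) - s) v₀ = 0 := sub_eq_zero.mpr hrs
    apply hv₀
    have h1 : ((↑u⁻¹ : AddMonoid.End (Additive V)) * ((r : AddMonoid.End (Additive V)) - s)) v₀
        = v₀ := by rw [← hu, Units.inv_mul]; rfl
    rw [← h1]
    show (↑u⁻¹ : AddMonoid.End (Additive V)) (((r : AddMonoid.End (Additive V)) - s) v₀) = 0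
    rw [h0, map_zero]
  have hkinj' : Function.Injective (fun e : E => (⟨k e, e, rfl⟩ : R)) := by
    intro e e' hee
    have hee' : k e = k e' := congrArg Subtype.val hee
    by_contra hne
    refine hv₀ (hkinj (e * e'⁻¹) (fun h1 => hne ?_) v₀ ?_)
    · exact mul_inv_eq_one.mp (Subtype.ext h1)
    · have h2 : k (e * e'⁻¹) + k e' = k e' := by rw [← hkadd, inv_mul_cancel_right, hee']
      rw [add_eq_right.mp h2]; rfl
  have hcardR : Fintype.card R = Nat.card V := by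
    rw [← Nat.card_eq_fintype_card]
    refine le_antisymm ?_ ?_
    · exact (Nat.card_le_card_of_injective _ hinjR).trans (Nat.card_congr Additive.toMul).le
    · rw [← t.right.card_eq]
      exact Nat.card_le_card_of_injective _ hkinj'
  haveI : Finite V := inferInstance
  obtain ⟨n, hn⟩ : ∃ n, Nat.card V = 2 ^ n := (elem_isPGroup hV.elem).exists_card_eq
  have hn0 : n ≠ 0 := fun h0 => by
    have := h.card_one_lt
    rw [hn, h0, pow_zero] at this
    omega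
  haveI : Fintype (GaloisField 2 n) := Fintype.ofFinite _
  have hcF : Fintype.card (GaloisField 2 n) = Nat.card V := by
    rw [← Nat.card_eq_fintype_card, GaloisField.card 2 n hn0, hn]
  let ι : GaloisField 2 n ≃+* R :=
    letI : Field R := hFld.toField
    FiniteField.ringEquivOfCardEq (hcF.trans hcardR.symm)
  refine ⟨GaloisField 2 n, inferInstance, inferInstance, hcF, ?_⟩
  let θV : GaloisField 2 n → Additive V := fun y => (ι y : AddMonoid.End (Additive V)) v₀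
  have hθV : Function.Bijective θV := by
    refine (Nat.bijective_iff_injective_and_card θV).mpr ⟨hinjR.comp ι.injective, ?_⟩
    rw [Nat.card_eq_fintype_card, hcF, Nat.card_congr Additive.toMul]
  have hθadd : ∀ y z, θV (y + z) = θV y + θV z := fun y z => by
    simp only [θV, map_add]; rfl
  have hθmul : ∀ x y, θV (x * y) = (ι x : AddMonoid.End (Additive V)) (θV y) := fun x y => by
    simp only [θV, map_mul]; rfl
  have hθG : ∀ y z, ((θV (y + z)).toMul : G) = ((θV y).toMul : G) * ((θV z).toMul : G) :=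
    fun y z => by rw [hθadd]; rfl
  let θB : GaloisField 2 n → G := fun y => ⁅f₀, ((θV y).toMul : G)⁆
  have hθB : ∀ y, θB y ∈ B := fun y => hψ _ (hfP f₀ hf₀) _ (θV y).toMul.2
  have hθBadd : ∀ y z, θB (y + z) = θB y * θB z := fun y z => by
    simp only [θB]
    rw [hθG, hB.comm_mul_right (hfP f₀ hf₀) (t'.left.le_pn (θV y).toMul.2) (t'.left.le_pn (θV z).toMul.2)]
  let Φ₀ : (Fin 2 → GaloisField 2 n) → (V ⊔ B : Subgroup G) := fun y =>
    ⟨((θV (y 0)).toMul : G) * θB (y 1), h.mem_sup.mpr ⟨_, (θV (y 0)).toMul.2, _, hθB _, rfl⟩⟩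
  have hθBinj : Function.Injective θB := by
    intro y z hyz
    have h1 : θB (y + z) = 1 := by
      rw [hθBadd, hyz, ← pow_two]; exact hB.elem.2 _ (hθB z)
    have h2 := (t'.nondeg (θV (y + z)).toMul.2 hf₀ (comm_eq_one.mp h1).symm).resolve_right hf₀1
    have h3 : θV (y + z) = θV 0 := by
      rw [show θV 0 = 0 by simp only [θV, map_zero]; rfl]
      exact Additive.toMul.injective (Subtype.ext h2)
    have h4 := hθV.1 h3
    exact add_right_cancel (h4.trans (CharTwo.add_self_eq_zero z).symm)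
  have hΦ : Function.Bijective Φ₀ := by
    constructor
    · intro y z hyz
      obtain ⟨h1, h2⟩ := h.decomp (θV (y 0)).toMul.2 (θV (z 0)).toMul.2 (hθB _) (hθB _)
        (congrArg Subtype.val hyz)
      funext i
      fin_cases i
      · exact hθV.1 (Additive.toMul.injective (Subtype.ext h1))
      · exact hθBinj h2
    · rintro ⟨w, hw⟩
      obtain ⟨v, hv, a, ha, rfl⟩ := h.mem_sup.mp hw
      obtain ⟨y0, hy0⟩ := hθV.2 (Additive.ofMul ⟨v, hv⟩)
      obtain ⟨y1, hy1⟩ : ∃ y1, θB y1 = a := by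
        have hb : Function.Bijective (fun y => (⟨θB y, hθB y⟩ : B)) := by
          refine (Nat.bijective_iff_injective_and_card _).mpr
            ⟨fun y z hyz => hθBinj (congrArg Subtype.val hyz), ?_⟩
          rw [Nat.card_eq_fintype_card, hcF, h.card_eq]
        obtain ⟨y, hy⟩ := hb.2 ⟨a, ha⟩
        exact ⟨y, congrArg Subtype.val hy⟩
      refine ⟨![y0, y1], Subtype.ext ?_⟩
      show ((θV y0).toMul : G) * θB y1 = v * a
      rw [hy0, hy1]; rfl
  let Φ := Equiv.ofBijective Φ₀ hΦ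
  have hΦv : ∀ y, (Φ y : G) = ((θV (y 0)).toMul : G) * θB (y 1) := fun _ => rfl
  -- action of translations
  have hpE : ∀ p ∈ pn V, ∀ e : E, ∀ x, (ι x : AddMonoid.End (Additive V)) = k e →
      (∀ a ∈ B, ⁅p, a⁆ = ⁅(e : G), a⁆) →
      ∀ y, p * (Φ y : G) * p⁻¹ = Φ ![y 0 + x * y 1, y 1] := by
    intro p hp e x hx hact y
    rw [hΦv, h.act hp (θV (y 0)).toMul.2, hact _ (hθB _), hΦv]
    simp only [Matrix.cons_val_zero, Matrix.cons_val_one]
    rw [hθG, hθmul, hx, hk]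
  have hpF : ∀ p ∈ pn B, ∀ f ∈ F₁, ∀ x, x ≠ 0 → ∀ e : E, (ι x : AddMonoid.End (Additive V)) = k e →
      (∀ v ∈ V, ⁅(e : G), ⁅f, v⁆⁆ = v) → (∀ v ∈ V, ⁅p, v⁆ = ⁅f, v⁆) →
      ∀ y, p * (Φ y : G) * p⁻¹ = Φ ![y 0, y 1 + x⁻¹ * y 0] := by
    intro p hp f hf x hx0 e hx hinvf hact y
    have he1 : (e : G) ≠ 1 := fun h1 => hx0 (ι.injective (Subtype.ext (by
      rw [hx, show e = 1 from Subtype.ext h1, hkzero, map_zero]; rfl)))
    have hkey : ∀ z, ⁅f, ((θV z).toMul : G)⁆ = θB (x⁻¹ * z) := by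
      intro z
      have h1 : ((θV z).toMul : G) = ⁅(e : G), θB (x⁻¹ * z)⁆ := by
        show _ = ⁅(e : G), ⁅f₀, ((θV (x⁻¹ * z)).toMul : G)⁆⁆
        rw [← hk, ← hx, ← hθmul, mul_inv_cancel_left₀ hx0]
      have h2 : ⁅(e : G), ⁅f, ((θV z).toMul : G)⁆ * θB (x⁻¹ * z)⁆ = 1 := by
        rw [hV.comm_mul_right (heP e e.2) (h.le_pn (hψ f (hfP f hf) _ (θV z).toMul.2))
          (h.le_pn (hθB _)), hinvf _ (θV z).toMul.2, ← h1, ← pow_two]
        exact hV.elem.2 _ (θV z).toMul.2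
      have h3 := (t.nondeg (B.mul_mem (hψ f (hfP f hf) _ (θV z).toMul.2) (hθB _)) e.2
        (comm_eq_one.mp h2).symm).resolve_right he1
      exact (eq_inv_of_mul_eq_one_left h3).trans (elem_inv hB.elem (hθB _))
    rw [hΦv, h.comm (θV (y 0)).toMul.2 (hθB (y 1)), h.flip.act hp (hθB (y 1)),
      hact _ (θV (y 0)).toMul.2, hkey, ← hθBadd, ← h.comm (θV (y 0)).toMul.2 (hθB _), hΦv]
    simp only [Matrix.cons_val_zero, Matrix.cons_val_one]
  refine ⟨Φ, ?_, ?_, ?_, ?_, ?_⟩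
  · intro p hp
    obtain ⟨e, he, hact⟩ := t.same_act hp
    exact ⟨ι.symm ⟨k ⟨e, he⟩, _, rfl⟩, hpE p hp ⟨e, he⟩ _ (by rw [ι.apply_symm_apply]) hact⟩
  · intro x
    obtain ⟨e, he⟩ := (hR _).1 (ι x).2
    exact ⟨e, heP e e.2, hpE e (heP e e.2) e x he.symm fun _ _ => rfl⟩
  · intro p hp
    obtain ⟨f, hf, hact⟩ := t'.same_act hp
    by_cases hf1 : f = 1
    · refine ⟨0, fun y => ?_⟩
      rw [hΦv, h.comm (θV (y 0)).toMul.2 (hθB (y 1)), h.flip.act hp (hθB (y 1)),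
        hact _ (θV (y 0)).toMul.2, hf1, commutatorElement_one_left, mul_one,
        ← h.comm (θV (y 0)).toMul.2 (hθB _), hΦv]
      simp
    obtain ⟨e, he, he1, hinvf⟩ := t.inverse t' hf hf1
    refine ⟨(ι.symm ⟨k ⟨e, he⟩, _, rfl⟩)⁻¹, hpF p hp f hf _ ?_ ⟨e, he⟩ (by rw [ι.apply_symm_apply]) hinvf hact⟩
    intro h0
    rw [RingEquiv.map_eq_zero_iff] at h0
    have h1 : k ⟨e, he⟩ = 0 := congrArg Subtype.val h0
    exact hv₀ (hkinj ⟨e, he⟩ he1 v₀ (by rw [h1]; rfl))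
  · intro x
    by_cases hx : x = 0
    · refine ⟨1, Subgroup.one_mem _, fun y => ?_⟩
      rw [one_mul, inv_one, mul_one, hx, zero_mul, add_zero]
      congr 2
      funext i; fin_cases i <;> rfl
    obtain ⟨e, he⟩ := (hR _).1 (ι x⁻¹).2
    have he1 : (e : G) ≠ 1 := fun h1 => inv_ne_zero hx (ι.injective (Subtype.ext (by
      rw [← he, show e = 1 from Subtype.ext h1, hkzero, map_zero]; rfl)))
    obtain ⟨f, hf, hf1, hinvf⟩ := t'.inverse t e.2 he1
    have hinvf' : ∀ v ∈ V, ⁅(e : G), ⁅f, v⁆⁆ = v := by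
      intro v hv
      obtain ⟨a, ha, hav⟩ := t.symm.left.base.comm_pn_mem (heP e e.2) (heP e e.2) |> fun _ =>
        (show ∃ a ∈ B, ⁅(e : G), a⁆ = v from by
          let g : B → V := fun a => ⟨⁅(e : G), (a : G)⁆, hφ _ (heP e e.2) a a.2⟩
          have hg : Function.Injective g := by
            intro a b hab
            have hab' : ⁅(e : G), (a : G)⁆ = ⁅(e : G), (b : G)⁆ := congrArg Subtype.val hab
            have h1 : ⁅(e : G), (a : G) * b⁆ = 1 := by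
              rw [hV.comm_mul_right (heP e e.2) (h.le_pn a.2) (h.le_pn b.2), hab', ← pow_two]
              exact hV.elem.2 _ (hφ _ (heP e e.2) b b.2)
            have h2 := (t.nondeg (B.mul_mem a.2 b.2) e.2 (comm_eq_one.mp h1).symm).resolve_right he1
            exact Subtype.ext ((eq_inv_of_mul_eq_one_left h2).trans (elem_inv hB.elem b.2))
          obtain ⟨a, ha⟩ := ((Nat.bijective_iff_injective_and_card g).mpr ⟨hg, h.card_eq⟩).2 ⟨v, hv⟩
          exact ⟨a, a.2, congrArg Subtype.val ha⟩)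
      rw [← hav, hinvf a ha]
    have := hpF f (hfP f hf) f hf x⁻¹ (inv_ne_zero hx) e he.symm hinvf' fun _ _ => rfl
    rw [inv_inv] at this
    exact ⟨f, hfP f hf, this⟩
  · intro y
    rw [hΦv]
    constructor
    · intro hy
      have h1 : θB (y 1) ∈ V := by
        simpa using V.mul_mem (V.inv_mem (θV (y 0)).toMul.2) hy
      refine hθBinj ((h.disjoint (hθB _) h1).trans ?_)
      show (1 : G) = ⁅f₀, ((θV 0).toMul : G)⁆
      rw [show θV 0 = 0 by simp only [θV, map_zero]; rfl]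
      exact (commutatorElement_one_right f₀).symm
    · intro hy
      rw [hy, show θB 0 = 1 from ?_, mul_one]
      · exact (θV (y 0)).toMul.2
      · show ⁅f₀, ((θV 0).toMul : G)⁆ = 1
        rw [show θV 0 = 0 by simp only [θV, map_zero]; rfl]
        exact commutatorElement_one_right f₀

end H68.TI
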